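import Mathlib
import Cfsg.Agent.H364.DCross_m3
import Cfsg.Agent.H341.ThreeList_m3
import Cfsg.Agent.H403.CS.Two_m3
import Cfsg.Agent.H364.LieNam
import Cfsg.Agent.H237.PL.Odd_mg_m3
import Cfsg.Agent.H364.SpElim_m3
import Cfsg.Agent.H363.Master
import Cfsg.Agent.H364.Reduce
import Cfsg.Agent.OrdDiv.Table
import Cfsg.Agent.H364.Slack
import Cfsg.Agent.H431.CS.Defs
import Cfsg.Agent.Lib.ListFast
import Cfsg.Agent.H364.Iso3_m3
import Cfsg.Agent.H418.Frob
import Cfsg.Agent.H365.Near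
import Cfsg.Agent.H902.Zs_m3
import Cfsg.Agent.H363.Frat
import Cfsg.Agent.H402.CS.NumSize_m3
import Cfsg.Agent.S0044
import Cfsg.Agent.S0008
import Cfsg.Agent.Lib.Cores
import Cfsg.Agent.S0205
import Cfsg.Agent.S4212
import Cfsg.Agent.H992.TC.F4e_mg_m3
import Cfsg.Agent.H128.CS.PspOdd
import Cfsg.Agent.H402.AltGrp
import Cfsg.Agent.H374.SpFour
import Cfsg.Agent.S0033
import Cfsg.Agent.S0000
import Cfsg.Agent.UGT.U2.Rec.Congr
import Cfsg.Agent.LieClassical.FieldTransfer
import Cfsg.Agent.S0245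
import Cfsg.Agent.S0246
import Cfsg.Agent.S0270
import Cfsg.Agent.S0292
import Cfsg.Agent.S0295
import Cfsg.Agent.S2141
import Cfsg.Agent.S2142
import Cfsg.Agent.S2143
import Cfsg.Agent.S2144
import Cfsg.Agent.H286.CS.PTor
import Cfsg.Agent.H955.QBlocks
import Cfsg.Agent.H510.CS.Irr_m3
import Cfsg.Agent.Lib.Zsigmondy
import Cfsg.Agent.H902.EntsFast
import Cfsg.Agent.Lib.RingK
import Cfsg.Agent.FastGrp
import Cfsg.Agent.Prune
set_option linter.all false

section
prune_inst 0x7ffceef8abb831deffff7e7ff6f0cffc39909fffa6dff94bffe06bff8bdf030a0be5fbaf0de010fe0ed6e01410b87853f9ffee7fe26bdc7ffffd5ff45ffbee1ff7febd0911d698340f7c6ffff3f0778e7f3fffffffffffffffffffffffffffbeffbfffffffff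

-- part: H494/CS/Spor
section
prune_inst 0x311075447ce2100000000090d30020247400059000200001f90007420a0f5300800001004e801d02106ab28010400020011800d0420000000a003000000600001028060010740d08200000803087180c00000000000000000000000000041004000000000
set_option linter.all false
open scoped Cfsg.Agent.FastGrp

-- part: H494/CS/SporArith
section
/-!
# S3677, rows `PSp(2n, q)`, `PΩ(2n + 1, q)`: the sporadic groups, arithmetic (helper494)

* `arith` : `n ≥ 5`, `arith3` : `n = 3`, `arith4` : `n = 4`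
-/

set_option autoImplicit false
set_option maxRecDepth 100000

namespace Cfsg.Agent.H494.CS

open Finset Cfsg.Agent.OrdDiv Cfsg.Agent.H364.SpVal Cfsg.Agent.H364.SpIneq Cfsg.Agent.H364.SpPrim
  Cfsg.Agent.H364.SpTot Cfsg.Agent.H364.SpSmall

/-- the orders -/
def NL : List ℕ := [17971200, 7920, 95040, 443520, 10200960, 244823040, 175560, 604800, 50232960, 86775571046077562880,
  4157776806543360000, 42305421312000, 495766656000, 898128000, 44352000, 448345497600, 4030387200, 145926144000,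
  460815505920, 51765179004000000, 64561751654400, 4089470473293004800, 1255205709190661721292800, 273030912000000,
  90745943887872000, 4154781481226426191177580544000000, 808017424794512875886459904961710757005754368000000000]

theorem mem_NL : ∀ x ∈ spor, x.2 ∈ NL := by decide +kernel

theorem NL_le : ∀ N ∈ NL, 0 < N ∧ N ≤ 808017424794512875886459904961710757005754368000000000 := by decide +kernel

/-- the check for `n = 3, 4` -/
def ckA (n c q : ℕ) : Bool := NL.all fun N => !((4 * N) % (q ^ c * AA n q) == 0) || !((q ^ n ^ 2 * AA n q) % N == 0)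

/-- the check for `n ≥ 5` -/
def ckB (n q : ℕ) : Bool := good n q (te n q) &&
  NL.all fun N => !((2 * N) % (q ^ cn n * te n q) == 0) || !((q ^ n ^ 2 * AA n q) % N == 0)

/-- the bound for `q` -/
def Qn (n : ℕ) : ℕ :=
  if n = 5 then 464 else if n = 6 then 3296 else if n = 7 then 43 else if n = 8 then 63 else if n = 9 then 13
  else if n = 10 then 22 else if n = 11 then 7 else if n = 12 then 8 else if n ≤ 16 then 5 else if n ≤ 24 then 3 else 2

/-- `q ≥ Qn n` is too large -/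
def ckQ (n : ℕ) : Bool :=
  decide (lam n * 1616034849589025751772919809923421514011508736000000000 < Qn n ^ cn n * (Qn n ^ 2 - 1) ^ ss n)

theorem ckQ_all : ∀ n ∈ List.range 48, n < 5 ∨ ckQ n = true := by
  decide +kernel

private def LL : ℕ := 3789818270956110317358234525524953188839865528090624000000000

private theorem dvd_LL : ∀ N ∈ NL, 4 * N ∣ LL := by decide +kernel

private def fr (n : ℕ) (k : ℕ → Bool) : Bool := Nat.rec false (fun m _ => k m) (Nat.add n 1)

private theorem fr_eq (n : ℕ) (k : ℕ → Bool) : fr n k = k n := rfl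

private def allR (f : ℕ → Bool) (n : ℕ) : Bool := Nat.rec true (fun i ih => Bool.rec false ih (f (Nat.add i 2))) n

private theorem allR_spec {f : ℕ → Bool} : ∀ {n : ℕ}, allR f n = true → ∀ q, 2 ≤ q → q < n + 2 → f q = true
  | 0, _, _, h1, h2 => absurd h1 (Nat.not_le.2 h2)
  | n + 1, h, q, h1, h2 => by
    change Bool.rec false (allR f n) (f (n + 2)) = true at h
    cases e : f (n + 2)
    · rw [e] at h; exact nomatch h
    · rw [e] at h
      rcases Nat.lt_succ_iff_lt_or_eq.1 h2 with h3 | h3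
      · exact allR_spec h q h1 h3
      · exact h3 ▸ e

/-- `ckA` is needed only if `q ^ (2 n) - 1` divides the common multiple of the orders -/
private def fA (n c q : ℕ) : Bool := Bool.rec true (ckA n c q) (Nat.beq (Nat.mod LL (Nat.sub (Nat.pow q (Nat.mul 2 n)) 1)) 0)

private theorem A3 : allR (fA 3 3) 4398 = true := by decide +kernel

private theorem A4 : allR (fA 4 0) 598 = true := by decide +kernel

private def pA (q n : ℕ) : ℕ := Nat.rec 1 (fun i ih => Nat.mul ih (Nat.sub (Nat.pow q (Nat.mul 2 (Nat.add i 1))) 1)) n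

private theorem pA_eq (q : ℕ) : ∀ n, pA q n = AA n q
  | 0 => rfl
  | n + 1 => (congrArg (· * (q ^ (2 * (n + 1)) - 1)) (pA_eq q n)).trans (Finset.prod_range_succ _ n).symm

private def st (y : ℕ) (k : ℕ → Bool) (n : ℕ) : ℕ → Bool :=
  Nat.rec k (fun _ ih x => fr (Nat.gcd x y) fun g => Bool.rec (fr (Nat.div x g) ih) (k x) (Nat.beq g 1)) n

private theorem st_spec {y : ℕ} {k : ℕ → Bool} : ∀ {n x : ℕ}, st y k n x = true → ∃ t, k t = true
  | 0, x, h => ⟨x, h⟩
  | n + 1, x, h => by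
    change Bool.rec (st y k n (Nat.div x (Nat.gcd x y))) (k x) (Nat.beq (Nat.gcd x y) 1) = true at h
    cases e : Nat.beq (Nat.gcd x y) 1 <;> rw [e] at h
    · exact st_spec h
    · exact ⟨x, h⟩

/-- `ckB` is needed only if the primitive part divides the common multiple of the orders -/
private def kB (n q a y t : ℕ) : Bool :=
  Bool.rec (Bool.rec (ckB n q) (Bool.rec (ckB n q) true (Nat.beq (Nat.gcd t y) 1)) (Nat.beq (Nat.mod a t) 0)) (ckB n q)
    (Nat.beq (Nat.mod LL t) 0)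

private def fB (n q : ℕ) : Bool := fr (pA q n) fun a => fr (pA q (Nat.div n 2)) fun y => st y (kB n q a y) 40 a

private theorem fB_spec {n q : ℕ} (h : fB n q = true) : ckB n q = true ∨ ∃ t, good n q t = true ∧ ¬ t ∣ LL := by
  rw [fB, fr_eq, fr_eq, pA_eq, pA_eq] at h
  obtain ⟨t, h⟩ := st_spec h
  rw [kB] at h
  cases e1 : Nat.beq (Nat.mod LL t) 0 <;> rw [e1] at h
  · cases e2 : Nat.beq (Nat.mod (AA n q) t) 0 <;> rw [e2] at h
    · exact .inl h
    · cases e3 : Nat.beq (Nat.gcd t (AA (Nat.div n 2) q)) 1 <;> rw [e3] at h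
      · exact .inl h
      · refine .inr ⟨t, Bool.and_eq_true_iff.2 ⟨beq_iff_eq.2 (Nat.eq_of_beq_eq_true e2), beq_iff_eq.2 (Nat.eq_of_beq_eq_true e3)⟩,
          fun hd => Nat.ne_of_beq_eq_false e1 (Nat.mod_eq_zero_of_dvd hd)⟩
  · exact .inl h

private theorem B5 : ∀ n ∈ List.range 48, n < 5 ∨ allR (fB n) (Qn n - 2) = true := by decide +kernel

private theorem ckB_all {n q : ℕ} (hn : 5 ≤ n) (hn2 : n < 48) (hq : 2 ≤ q) (hq2 : q < Qn n) :
    ckB n q = true ∨ ∃ t, good n q t = true ∧ ¬ t ∣ LL :=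
  fB_spec (allR_spec ((B5 n (List.mem_range.2 hn2)).resolve_left (by omega)) q hq (by omega))

theorem big {n : ℕ} (hn : 48 ≤ n) :
    lam n * 1616034849589025751772919809923421514011508736000000000 < 3 ^ ss n := by
  have hl := lam_le n
  have hs := ss_bound n
  generalize lam n = L at *
  generalize ss n = s at *
  set K := n - n / 2 with hK
  have hK2 : 2 * K ≤ n + 1 := by omega
  have hC : 1616034849589025751772919809923421514011508736000000000 < 3 ^ 114 := by norm_num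
  have h1 : L ^ 8 ≤ 3 ^ (n * K) := by
    calc L ^ 8 ≤ (n ^ K) ^ 8 := Nat.pow_le_pow_left hl 8
      _ = (n ^ 8) ^ K := by rw [← pow_mul, ← pow_mul, mul_comm]
      _ ≤ (3 ^ n) ^ K := Nat.pow_le_pow_left (pow8 hn) K
      _ = _ := by rw [← pow_mul]
  have h4 : n * K + 912 < 8 * s := by
    have h5 : 2 * (n * K) ≤ n * (n + 1) := by
      calc 2 * (n * K) = n * (2 * K) := by ring
        _ ≤ _ := Nat.mul_le_mul_left n hK2
    nlinarith
  refine lt_of_pow_lt_pow_left₀ 8 (Nat.zero_le _) ?_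
  calc (L * 1616034849589025751772919809923421514011508736000000000) ^ 8
      = L ^ 8 * 1616034849589025751772919809923421514011508736000000000 ^ 8 := mul_pow _ _ _
    _ ≤ 3 ^ (n * K) * (3 ^ 114) ^ 8 := Nat.mul_le_mul h1 (Nat.pow_le_pow_left hC.le 8)
    _ = 3 ^ (n * K + 912) := by rw [← pow_mul, ← pow_add]
    _ < 3 ^ (8 * s) := Nat.pow_lt_pow_right (by norm_num) h4
    _ = (3 ^ s) ^ 8 := by rw [← pow_mul]; congr 1; ring

/-- the size -/
theorem too_big {n q : ℕ} (hn : 5 ≤ n) (hq : 2 ≤ q) (h : 48 ≤ n ∨ Qn n ≤ q) :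
    lam n * 1616034849589025751772919809923421514011508736000000000 < q ^ cn n * (q ^ 2 - 1) ^ ss n := by
  have hq3 : 3 ≤ q ^ 2 - 1 := by
    have : 2 ^ 2 ≤ q ^ 2 := Nat.pow_le_pow_left hq 2
    omega
  by_cases h48 : 48 ≤ n
  · refine (big h48).trans_le ?_
    calc 3 ^ ss n ≤ (q ^ 2 - 1) ^ ss n := Nat.pow_le_pow_left hq3 _
      _ = 1 * (q ^ 2 - 1) ^ ss n := (one_mul _).symm
      _ ≤ _ := Nat.mul_le_mul_right _ (Nat.one_le_pow _ _ (by omega))
  · have hQ : Qn n ≤ q := h.resolve_left h48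
    have h1 := (ckQ_all n (List.mem_range.2 (by omega))).resolve_left (by omega)
    rw [ckQ, decide_eq_true_eq] at h1
    refine h1.trans_le (Nat.mul_le_mul (Nat.pow_le_pow_left hQ _) (Nat.pow_le_pow_left ?_ _))
    exact Nat.sub_le_sub_right (Nat.pow_le_pow_left hQ 2) 1

/-- **`n ≥ 5`.** -/
theorem arith {n q N I : ℕ} (hn : 5 ≤ n) (hq : 2 ≤ q) (hN : N ∈ NL) (hI : I ∣ 2) (hfr : Fr n q I N)
    (hM : N ∣ q ^ n ^ 2 * AA n q) : False := by
  obtain ⟨hN0, hN1⟩ := NL_le N hN
  have h2N : I * N ∣ 2 * N := Nat.mul_dvd_mul_right hI N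
  by_cases h : 48 ≤ n ∨ Qn n ≤ q
  · have h1 := too_big hn hq h
    have h2 := (hfr.gen hq (by omega)).trans h2N
    have h3 := Nat.le_of_dvd (by omega) h2
    have h4 := tt_ge (n := n) (Q := q ^ 2) (by nlinarith)
    have h5 : q ^ cn n * (q ^ 2 - 1) ^ ss n ≤ 2 * N * lam n := by
      calc q ^ cn n * (q ^ 2 - 1) ^ ss n ≤ q ^ cn n * (tt n (q ^ 2) * lam n) := Nat.mul_le_mul_left _ h4
        _ = q ^ cn n * tt n (q ^ 2) * lam n := by rw [mul_assoc]
        _ ≤ _ := Nat.mul_le_mul_right _ h3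
    have h6 : 2 * N * lam n ≤ lam n * 1616034849589025751772919809923421514011508736000000000 := by
      rw [mul_comm (2 * N)]
      apply Nat.mul_le_mul_left
      omega
    omega
  · push Not at h
    rcases ckB_all hn h.1 hq h.2 with h1 | ⟨t, h1, h2⟩
    swap
    · exact h2 (((Dvd.intro_left _ rfl).trans ((hfr.good hq h1).trans h2N)).trans
        ((Nat.mul_dvd_mul_right (by decide) N).trans (dvd_LL N hN)))
    rw [ckB, Bool.and_eq_true, List.all_eq_true] at h1
    obtain ⟨h2, h3⟩ := h1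
    have h4 := h3 N hN
    have h5 := (hfr.good hq h2).trans h2N
    rw [Nat.mod_eq_zero_of_dvd h5, Nat.mod_eq_zero_of_dvd hM] at h4
    revert h4
    decide

theorem AA_mono {n a b : ℕ} (h : a ≤ b) : AA n a ≤ AA n b :=
  Finset.prod_le_prod' fun _ _ => Nat.sub_le_sub_right (Nat.pow_le_pow_left h _) 1

private theorem arithA {n c q N Q : ℕ} (hQ : allR (fA (n + 1) c) (Q - 2) = true)
    (hQ2 : 4 * 808017424794512875886459904961710757005754368000000000 < Q ^ c * AA (n + 1) Q) (hq : 2 ≤ q) (hN : N ∈ NL)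
    (hd : q ^ c * AA (n + 1) q ∣ 4 * N) (hM : N ∣ q ^ (n + 1) ^ 2 * AA (n + 1) q) : False := by
  obtain ⟨hN0, hN1⟩ := NL_le N hN
  by_cases h : Q ≤ q
  · have h1 := Nat.le_of_dvd (by omega) hd
    have h2 : Q ^ c * AA (n + 1) Q ≤ q ^ c * AA (n + 1) q := Nat.mul_le_mul (Nat.pow_le_pow_left h c) (AA_mono h)
    omega
  · have h0 : q ^ (2 * (n + 1)) - 1 ∣ LL :=
      ((Finset.dvd_prod_of_mem (fun i => q ^ (2 * (i + 1)) - 1) (Finset.self_mem_range_succ n)).trans
        ((Dvd.intro_left _ rfl).trans hd)).trans (dvd_LL N hN)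
    have h1 : Bool.rec true (ckA (n + 1) c q) (Nat.beq (LL % (q ^ (2 * (n + 1)) - 1)) 0) = true := allR_spec hQ q hq (by omega)
    rw [Nat.mod_eq_zero_of_dvd h0] at h1
    change ckA (n + 1) c q = true at h1
    rw [ckA, List.all_eq_true] at h1
    have h4 := h1 N hN
    rw [Nat.mod_eq_zero_of_dvd hd, Nat.mod_eq_zero_of_dvd hM] at h4
    revert h4
    decide

theorem arith3 {q N : ℕ} (hq : 2 ≤ q) (hN : N ∈ NL) (hd : q ^ 3 * AA 3 q ∣ 4 * N) (hM : N ∣ q ^ 3 ^ 2 * AA 3 q) : False :=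
  arithA (n := 2) (Q := 4400) A3 (by decide +kernel) hq hN hd hM

theorem arith4 {q N : ℕ} (hq : 2 ≤ q) (hN : N ∈ NL) (hd : AA 4 q ∣ 4 * N) (hM : N ∣ q ^ 4 ^ 2 * AA 4 q) : False :=
  arithA (n := 3) (Q := 600) A4 (by decide +kernel) hq hN (by rwa [pow_zero, one_mul]) hM

end Cfsg.Agent.H494.CS
end

-- part: H494/CS/Spor
section
/-!
# S3677, rows `PSp(2n, q)`, `PΩ(2n + 1, q)`, E3: `S` is not sporadic and not the Tits group (helper494)
-/

set_option autoImplicit false

namespace Cfsg.Agent.H494.CS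

open Subgroup Cfsg Cfsg.Agent.OrdDiv Cfsg.Agent.H902 Cfsg.Agent.H902.Names Cfsg.Agent.H221.CS
open Cfsg.Agent.H364.SpVal Cfsg.Agent.H364.SpSmall Cfsg.Agent.H364.SpIneq

universe u

/-- `|Out S| ≤ 2` -/
theorem out_le {S : Type u} [Group S] [Finite S] [IsSimpleGroup S] (hna : ¬ ∀ a b : S, a * b = b * a) {x : Grp × ℕ}
    (hx : x ∈ spor) (hr : OrdDiv.Real x.1 S) : Nat.card (Cfsg.Out S) ≤ 2 := by
  unfold spor at hx
  simp only [List.mem_cons, List.not_mem_nil, or_false] at hx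
  rcases hx with rfl | hx
  · exact H370.AAM.out_tits hna hr
  · apply H370.AAM.out_sporadic
    unfold Cfsg.IsSporadicGroup
    revert hx
    iterate 25 refine Or.imp (by rintro rfl; exact hr) ?_
    rintro rfl
    exact hr

variable {n p f M κ : ℕ} {Γ : Type u} [Group Γ] [Finite Γ] {S : Subgroup Γ}

/-- **E3.** -/
theorem no_spor (h : Dat n p f M κ Γ S) (h32 : ¬ (n = 3 ∧ p ^ f = 2)) {x : Grp × ℕ} (hx : x ∈ spor)
    (hr : OrdDiv.Real x.1 S) (hc : Nat.card S = x.2) : False := by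
  have hsim := h.simple
  have hq := h.q_ge
  have hn := h.hn
  have hN : Nat.card S ∈ NL := hc ▸ mem_NL x hx
  have hI : S.index ∣ 2 := by
    have h1 := h.index_dvd
    have h2 := out_le h.nonab hx hr
    have h3 : 0 < Nat.card (Cfsg.Out S) := by
      by_contra hcon
      have h4 : Nat.card (Cfsg.Out S) = 0 := by omega
      have h5 : Finite (Cfsg.Out S) := by
        have : Finite (MulAut S) := Finite.of_injective (fun f : MulAut S => (f : S → S)) DFunLike.coe_injective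
        unfold Cfsg.Out
        infer_instance
      exact Nat.card_pos.ne' h4
    have h4 : Nat.card (Cfsg.Out S) ∣ 2 := by
      interval_cases Nat.card (Cfsg.Out S) <;> norm_num
    exact h1.trans h4
  have heq : Nat.gcd 2 (p ^ f - 1) * M = (p ^ f) ^ n ^ 2 * AA n (p ^ f) := h.hY.eq
  have hM : Nat.card S ∣ (p ^ f) ^ n ^ 2 * AA n (p ^ f) := by
    rw [← heq]
    exact h.pi.trans (dvd_mul_left _ _)
  have hd : Nat.gcd 2 (p ^ f - 1) * (Nat.card S * S.index) ∣ 4 * Nat.card S := by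
    have h1 : Nat.gcd 2 (p ^ f - 1) ∣ 2 := Nat.gcd_dvd_left _ _
    have h2 := Nat.mul_dvd_mul h1 (Nat.mul_dvd_mul (dvd_refl (Nat.card S)) hI)
    refine h2.trans (dvd_of_eq ?_)
    ring
  by_cases h5 : 5 ≤ n
  · exact arith h5 hq hN hI (h.fr h32) hM
  by_cases h4 : n = 4
  · subst h4
    exact arith4 hq hN ((h.AA_dvd le_rfl h32).trans hd) hM
  have h3 : n = 3 := by omega
  subst h3
  refine arith3 hq hN ?_ hM
  obtain ⟨j, hj, hk⟩ := h.kap_pow (by norm_num) h32
  have hcard := h.card_eq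
  rw [← hcard, hk] at heq
  have hq0 : 0 < (p ^ f) ^ 6 := pow_pos (by omega) _
  refine dvd_trans ?_ hd
  have hj1 : j = 0 ∨ j = 1 := by omega
  rcases hj1 with rfl | rfl
  · have e : Nat.gcd 2 (p ^ f - 1) * (Nat.card S * S.index) = (p ^ f) ^ 3 * AA 3 (p ^ f) * (p ^ f) ^ 6 := by
      rw [mul_zero, pow_zero, one_mul] at heq
      rw [heq]
      ring
    rw [e]
    exact dvd_mul_right _ _
  · have e : (p ^ f) ^ 6 * (Nat.gcd 2 (p ^ f - 1) * (Nat.card S * S.index)) =
        (p ^ f) ^ 6 * ((p ^ f) ^ 3 * AA 3 (p ^ f)) := by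
      calc (p ^ f) ^ 6 * (Nat.gcd 2 (p ^ f - 1) * (Nat.card S * S.index))
          = Nat.gcd 2 (p ^ f - 1) * ((p ^ f) ^ (2 * 3 * 1) * (Nat.card S * S.index)) := by ring
        _ = (p ^ f) ^ 3 ^ 2 * AA 3 (p ^ f) := heq
        _ = _ := by ring
    rw [Nat.eq_of_mul_eq_mul_left hq0 e]

end Cfsg.Agent.H494.CS
end

private theorem dce_759e8f5a2a15 : _root_.True := by
  try have : _root_.True := by simp only [_root_.Cfsg.Agent.OrdDiv.Real.eq_6]
  try have : _root_.True := by simp only [_root_.Cfsg.Agent.OrdDiv.Real.eq_36]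
  try have : _root_.True := by simp only [_root_.Cfsg.Agent.OrdDiv.Real.eq_33]
  try have : _root_.True := by simp only [_root_.Cfsg.Agent.OrdDiv.Real.eq_12]
  try have : _root_.True := by simp only [_root_.Cfsg.Agent.OrdDiv.Real.eq_30]
  try have : _root_.True := by simp only [_root_.Cfsg.Agent.OrdDiv.Real.eq_39]
  try have : _root_.True := by simp only [_root_.Cfsg.Agent.OrdDiv.Real.eq_22]
  try have : _root_.True := by simp only [_root_.Cfsg.Agent.OrdDiv.Real.eq_2]
  try have : _root_.True := by simp only [_root_.Cfsg.Agent.OrdDiv.Real.eq_27]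
  try have : _root_.True := by simp only [_root_.Cfsg.Agent.OrdDiv.Real.eq_38]
  try have : _root_.True := by simp only [_root_.Cfsg.Agent.OrdDiv.Real.eq_35]
  try have : _root_.True := by simp only [_root_.Cfsg.Agent.OrdDiv.Real.eq_17]
  try have : _root_.True := by simp only [_root_.Cfsg.Agent.OrdDiv.Real.eq_29]
  try have : _root_.True := by simp only [_root_.Cfsg.Agent.OrdDiv.Real.eq_4]
  try have : _root_.True := by simp only [_root_.Cfsg.Agent.OrdDiv.Real.eq_8]
  try have : _root_.True := by simp only [_root_.Cfsg.Agent.OrdDiv.Real.eq_21]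
  try have : _root_.True := by simp only [_root_.Cfsg.Agent.OrdDiv.Real.eq_31]
  try have : _root_.True := by simp only [_root_.Cfsg.Agent.OrdDiv.Real.eq_10]
  try have : _root_.True := by simp only [_root_.Cfsg.Agent.OrdDiv.Real.eq_18]
  try have : _root_.True := by simp only [_root_.Cfsg.Agent.OrdDiv.Real.eq_7]
  try have : _root_.True := by simp only [_root_.Cfsg.Agent.OrdDiv.Real.eq_9]
  try have : _root_.True := by simp only [_root_.Cfsg.Agent.OrdDiv.Real.eq_32]
  try have : _root_.True := by simp only [_root_.Cfsg.Agent.OrdDiv.Real.eq_5]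
  try have : _root_.True := by simp only [_root_.Cfsg.Agent.H494.CS.ckQ.eq_1]
  try have : _root_.True := by simp only [_root_.Cfsg.Agent.OrdDiv.Real.eq_34]
  try have : _root_.True := by simp only [_root_.Cfsg.Agent.OrdDiv.Real.eq_19]
  try have : _root_.True := by simp only [_root_.Cfsg.Agent.OrdDiv.Real.eq_3]
  try have : _root_.True := by simp only [_root_.Cfsg.Agent.OrdDiv.Real.eq_11]
  try have : _root_.True := by simp only [_root_.Cfsg.Agent.OrdDiv.Real.eq_25]
  try have : _root_.True := by simp only [_root_.Cfsg.Agent.OrdDiv.Real.eq_41]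
  try have : _root_.True := by simp only [_root_.Cfsg.Agent.OrdDiv.Real.eq_14]
  try have : _root_.True := by simp only [_root_.Cfsg.Agent.OrdDiv.Real.eq_28]
  try have : _root_.True := by simp only [_root_.Cfsg.Agent.OrdDiv.Real.eq_43]
  try have : _root_.True := by simp only [_root_.Cfsg.Agent.OrdDiv.Real.eq_1]
  try have : _root_.True := by simp only [_root_.Cfsg.Agent.OrdDiv.Real.eq_15]
  try have : _root_.True := by simp only [_root_.Cfsg.Agent.OrdDiv.Real.eq_13]
  try have : _root_.True := by simp only [_root_.Cfsg.Agent.OrdDiv.Real.eq_24]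
  try have : _root_.True := by simp only [_root_.Cfsg.Agent.OrdDiv.Real.eq_42]
  try have : _root_.True := by simp only [_root_.Cfsg.Agent.OrdDiv.Real.eq_23]
  try have : _root_.True := by simp only [_root_.Cfsg.Agent.OrdDiv.Real.eq_16]
  try have : _root_.True := by simp only [_root_.Cfsg.Agent.OrdDiv.Real.eq_20]
  try have : _root_.True := by simp only [_root_.Cfsg.Agent.OrdDiv.Real.eq_44]
  try have : _root_.True := by simp only [_root_.Cfsg.Agent.OrdDiv.Real.eq_26]
  try have : _root_.True := by simp only [_root_.Cfsg.Agent.OrdDiv.Real.eq_37]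
  try have : _root_.True := by simp only [_root_.Cfsg.Agent.OrdDiv.Real.eq_40]
  try have : _root_.True := by simp only [_root_.Cfsg.Agent.H494.CS.ckA.eq_1]
  try have : _root_.True := by simp only [_root_.Cfsg.Agent.H494.CS.ckB.eq_1]
  exact _root_.True.intro
end

-- part: H370/AAM/Tail
section
prune_inst 0x3110754434e2000000000090510020246400059000200001f800034203075300000001004e801800000ea20010000020000800d0400000000a000000000400000028060010400000000000801084000000000000000000000000000000041004000000000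
set_option linter.all false
open scoped Cfsg.Agent.FastGrp

-- part: H370/AAM/Row
section
/-!
# The row theorem with two primes not adjacent to the characteristic, without exponents (helper370)

Variants of `H364.reduce` and `H364.TwoRow.main'` without a hypothesis on the orders of the `p`-elements.
-/

set_option autoImplicit false

namespace Cfsg.Agent.H370.AAM

open Subgroup Cfsg Cfsg.Agent.OrdDiv Cfsg.Agent.H364
open Cfsg.Agent.H363.Master Cfsg.Agent.H363.Frat

universe u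

/-- the output of the reduction -/
structure Red (G : Type u) [Group G] [Finite G] (p r s a b : ℕ) (K : Subgroup G) [K.Normal] (H : Subgroup (G ⧸ K)) :
    Prop where
  pK : ¬ p ∣ Nat.card K
  rK : ¬ r ∣ Nat.card K
  sK : ¬ s ∣ Nat.card K
  normal : H.Normal
  simple : IsSimpleGroup H
  nab : ¬ ∀ x y : H, x * y = y * x
  card_eq : Nat.card K * (H.index * Nat.card H) = Nat.card G
  out : H.index ∣ Nat.card (Cfsg.Out H)
  er : NoEdge H r p
  es : NoEdge H s p
  pH : p ∣ Nat.card H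
  rs : r ∣ Nat.card H ∨ s ∣ Nat.card H
  ar : ¬ r ∣ Nat.card H → a ∣ (Nat.card H).factorization p
  bs : ¬ s ∣ Nat.card H → b ∣ (Nat.card H).factorization p
  fr : r ∣ Nat.card H → p ^ H.index.factorization p ∣ r ^ (Nat.card H).factorization r - 1
  fs : s ∣ Nat.card H → p ^ H.index.factorization p ∣ s ^ (Nat.card H).factorization s - 1

/-- **Reduction without exponents.** -/
theorem reduce {G : Type u} [Group G] [Finite G] {p r s a b : ℕ} (hp : p.Prime) (hr : r.Prime) (hs : s.Prime)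
    (hrp : r ≠ p) (hsp : s ≠ p) (hpG : p ∣ Nat.card G) (hrG : r ∣ Nat.card G) (hsG : s ∣ Nat.card G)
    (hEr : NoEdge G r p) (hEs : NoEdge G s p)
    (ha : ∀ m, r ∣ p ^ m - 1 → a ∣ m) (hb : ∀ m, s ∣ p ^ m - 1 → b ∣ m)
    (hlcm : (Nat.card G).factorization p < Nat.lcm a b)
    (h1 : r ^ (Nat.card G).factorization r ≤ p ^ (Nat.card G).factorization p)
    (h2 : s ^ (Nat.card G).factorization s ≤ p ^ (Nat.card G).factorization p) :
    ∃ (K : Subgroup G) (_ : K.Normal) (H : Subgroup (G ⧸ K)), Red G p r s a b K H := by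
  have hnr : NonAdj G r p := hEr
  have hns : NonAdj G s p := hEs
  obtain ⟨K, hKn, hKc, hKm⟩ := H363.Master.exists_core G p
  have hpK : ¬ p ∣ Nat.card K := by
    rwa [Nat.coprime_comm, Nat.Prime.coprime_iff_not_dvd hp] at hKc
  have hrK := not_dvd_of_core hp hr hrp hnr hpK h1
  have hsK := not_dvd_of_core hp hs hsp hns hpK h2
  have hpQ := dvd_quotient hp hpK hpG
  have hrQ := dvd_quotient hr hrK hrG
  have hsQ := dvd_quotient hs hsK hsG
  have hnt : Nontrivial (G ⧸ K) := by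
    rw [← Finite.one_lt_card_iff_nontrivial]
    exact lt_of_lt_of_le hp.one_lt (Nat.le_of_dvd Nat.card_pos hpQ)
  have hnr' := hnr.quotient K
  have hns' := hns.quotient K
  have hcore : ∀ N : Subgroup (G ⧸ K), N.Normal → N ≠ ⊥ → p ∣ Nat.card N := by
    intro N hNn hN
    by_contra hcon
    apply hN
    apply H363.Master.core_quotient hKc hKm N hNn
    rw [Nat.coprime_comm, Nat.Prime.coprime_iff_not_dvd hp]
    exact hcon
  obtain ⟨N, hNn, hN, hmin⟩ := H363.Master.exists_minimal_normal (G ⧸ K)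
  have hpN : p ∣ Nat.card N := hcore N hNn hN
  have hN0 : Nat.card N ≠ 0 := Nat.card_pos.ne'
  have hj1 : 0 < (Nat.card N).factorization p := hp.factorization_pos_of_dvd hN0 hpN
  have hj2 : (Nat.card N).factorization p ≤ (Nat.card G).factorization p := by
    rw [← factorization_quotient hpK]
    exact (Nat.factorization_le_iff_dvd hN0 Nat.card_pos.ne').mpr (Subgroup.card_subgroup_dvd_card N) p
  have hkey : ∀ {t c : ℕ}, t.Prime → t ≠ p → t ∣ Nat.card (G ⧸ K) → NonAdj (G ⧸ K) t p →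
      (∀ m, t ∣ p ^ m - 1 → c ∣ m) →
      (¬ t ∣ Nat.card N → c ∣ (Nat.card N).factorization p) ∧
        (t ∣ Nat.card N → p ^ N.index.factorization p ∣ t ^ (Nat.card N).factorization t - 1) := by
    intro t c ht htp htG hE hc
    constructor
    · intro htN
      exact hc _ (dvd_pow_sub_one hp ht htp hE N htG htN)
    · intro _
      exact pow_dvd_of_normal hp ht htp.symm hE.symm N (Nat.ordProj_dvd _ _)
  have hkr := hkey hr hrp hrQ hnr' ha
  have hks := hkey hs hsp hsQ hns' hb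
  have hor : r ∣ Nat.card N ∨ s ∣ Nat.card N := by
    by_contra hcon
    push Not at hcon
    have h3 := Nat.le_of_dvd hj1 (Nat.lcm_dvd (hkr.1 hcon.1) (hks.1 hcon.2))
    omega
  obtain ⟨T, m, _, hT, hm, ⟨e⟩⟩ := Cfsg.Agent.Lib.MinNormal.exists_mulEquiv_pi N hN hmin
  have hcard : Nat.card N = Nat.card T ^ m := by
    rw [Nat.card_congr e.toEquiv, Nat.card_fun]
    simp only [Nat.card_eq_fintype_card, Fintype.card_fin]
  have hTf : Finite T := by
    have hc : Nat.card T ≠ 0 := by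
      intro h0
      rw [h0, zero_pow (by omega)] at hcard
      exact hN0 hcard
    exact Nat.finite_of_card_ne_zero hc
  have hdT : ∀ t, t.Prime → t ∣ Nat.card N → t ∣ Nat.card T := by
    intro t ht h
    rw [hcard] at h
    exact ht.dvd_of_dvd_pow h
  have hpT := hdT p hp hpN
  have hnab : ¬ ∀ a b : N, a * b = b * a := by
    intro hab
    have hcomm0 : ∀ a b : T, a * b = b * a := by
      intro a b
      have h4 := hab (e.symm (fun _ => a)) (e.symm (fun _ => b))
      rw [← map_mul, ← map_mul] at h4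
      exact congrFun (e.symm.injective h4) ⟨0, by omega⟩
    have hprime : (Nat.card T).Prime := by
      let : CommGroup T := { (inferInstance : Group T) with mul_comm := hcomm0 }
      exact IsSimpleGroup.prime_card
    have hpT' := (Nat.prime_dvd_prime_iff_eq hp hprime).mp hpT
    rcases hor with h | h
    · exact hrp (((Nat.prime_dvd_prime_iff_eq hr hprime).mp (hdT r hr h)).trans hpT'.symm)
    · exact hsp (((Nat.prime_dvd_prime_iff_eq hs hprime).mp (hdT s hs h)).trans hpT'.symm)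
  have key : ∀ t, t.Prime → t ≠ p → NonAdj (G ⧸ K) t p → t ∣ Nat.card N → m = 1 := by
    intro t ht htp hnt ht1
    by_contra hm1
    have : Fact p.Prime := ⟨hp⟩
    have : Fact t.Prime := ⟨ht⟩
    obtain ⟨a, ha⟩ := exists_prime_orderOf_dvd_card' t (hdT t ht ht1)
    obtain ⟨b, hb⟩ := exists_prime_orderOf_dvd_card' p hpT
    have h01 : (⟨0, by omega⟩ : Fin m) ≠ ⟨1, by omega⟩ := by
      intro h; exact absurd (congrArg Fin.val h) (by norm_num)
    have hnN : NonAdj N t p := hnt.subgroup N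
    have hc : Commute (e.symm (Pi.mulSingle ⟨0, by omega⟩ a)) (e.symm (Pi.mulSingle ⟨1, by omega⟩ b)) :=
      (Pi.mulSingle_commute (f := fun _ : Fin m => T) h01 a b).map e.symm
    have ho : ∀ (i : Fin m) (x : T), orderOf (e.symm (Pi.mulSingle i x)) = orderOf x := by
      intro i x
      rw [MulEquiv.orderOf_eq]
      exact orderOf_injective (MonoidHom.mulSingle (fun _ : Fin m => T) i)
        (fun x y hxy => Pi.mulSingle_injective (M := fun _ : Fin m => T) i hxy) x
    have h4 := eq_one_of_commute ht hp htp hnN ⟨1, by rw [ho, pow_one, ha]⟩ ⟨1, by rw [ho, pow_one, hb]⟩ hc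
      (by
        intro h5
        have := ho ⟨1, by omega⟩ b
        rw [h5, orderOf_one, hb] at this
        exact hp.one_lt.ne this)
    have := ho ⟨0, by omega⟩ a
    rw [h4, orderOf_one, ha] at this
    exact ht.one_lt.ne this
  have hm1 : m = 1 := by
    rcases hor with h | h
    · exact key r hr hrp hnr' h
    · exact key s hs hsp hns' h
  subst hm1
  have := hT
  have hsim : IsSimpleGroup N := (e.trans (MulEquiv.funUnique (Fin 1) T)).isSimpleGroup
  have hcen : centralizer (N : Set (G ⧸ K)) = ⊥ := by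
    by_contra hC
    have hpC := hcore (centralizer (N : Set (G ⧸ K))) inferInstance hC
    have hcomm : ∀ x ∈ N, ∀ y ∈ centralizer (N : Set (G ⧸ K)), Commute x y := fun x hx y hy =>
      (Subgroup.mem_centralizer_iff.1 hy x hx)
    rcases hor with h | h
    · exact H363.Master.false_of_subgroups hr hp hrp hnr' hcomm h hpC
    · exact H363.Master.false_of_subgroups hs hp hsp hns' hcomm h hpC
  have hGK : Nat.card K * Nat.card (G ⧸ K) = Nat.card G := by
    rw [← Subgroup.card_mul_index K, Subgroup.index_eq_card]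
  refine ⟨K, hKn, N, hpK, hrK, hsK, hNn, hsim, hnab, ?_, index_dvd_out N hnab hcen, hnr'.subgroup N, hns'.subgroup N,
    hpN, hor, hkr.1, hks.1, hkr.2, hks.2⟩
  rw [mul_comm N.index, Subgroup.card_mul_index, hGK]

open Cfsg.Agent.H902 Cfsg.Agent.H364.ArithU in
/-- **The general row**, without exponents, with the elimination of the simple groups not of Lie type in
characteristic `p` as a hypothesis. -/
theorem main {G : Type u} [Group G] [Finite G] {Y : Art.Sh} {p f r s b : ℕ} (hY : Art.Real Y p f (Nat.card G))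
    (hr : r.Prime) (hro : orderOf (p : ZMod r) = f * Art.DM Y) (h6 : 6 ≤ f * Art.DM Y) (hs : s.Prime)
    (hso : orderOf (p : ZMod s) = b) (hb : 1 ≤ b) (hsG : s ∣ Nat.card G) (hEr : NoEdge G r p) (hEs : NoEdge G s p)
    (hlcm : f * Art.NN Y < Nat.lcm (f * Art.DM Y) b)
    (h1r : r ^ (Nat.card G).factorization r ≤ p ^ (f * Art.NN Y))
    (h1s : s ^ (Nat.card G).factorization s ≤ p ^ (f * Art.NN Y))
    (hkey : ∀ (S : Type u) [Group S] [Finite S] [IsSimpleGroup S], (¬ ∀ x y : S, x * y = y * x) → ∀ δ,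
      p ^ δ ∣ Nat.card (Cfsg.Out S) → Nat.card S * p ^ δ ≤ Nat.card G → Nat.card S ∣ Nat.card G →
      (Nat.card S).factorization p + δ = f * Art.NN Y →
      (¬ r ∣ Nat.card S → f * Art.DM Y ∣ (Nat.card S).factorization p) →
      (¬ s ∣ Nat.card S → b ∣ (Nat.card S).factorization p) →
      (r ∣ Nat.card S → p ^ δ ∣ r ^ (Nat.card S).factorization r - 1) →
      (s ∣ Nat.card S → p ^ δ ∣ s ^ (Nat.card S).factorization s - 1) →
      (r ∣ Nat.card S ∨ s ∣ Nat.card S) → IsLieTypeChar p S ∨ Nat.card S = Nat.card G) :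
    ∃ (K : Subgroup G) (_ : K.Normal) (H : Subgroup (G ⧸ K)), IsSimpleGroup H ∧ (¬ ∀ x y : H, x * y = y * x) ∧
      (Nat.card H = Nat.card G ∨ ∃ X g, Cfsg.Agent.H365.Near.Exc X Y p g f ∧ Art.Real X p g (Nat.card H)) := by
  have hp := hY.hp
  have hf := hY.hf
  have hpos : ∀ {t k : ℕ}, t.Prime → orderOf (p : ZMod t) = k → 1 ≤ k → p ≠ t ∧ (∀ m, t ∣ p ^ m - 1 → k ∣ m) := by
    intro t k ht ho hk
    refine ⟨fun h => ?_, fun m hm => ?_⟩
    · subst h
      rw [ZMod.natCast_self] at ho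
      have h1 : (0 : ZMod p) ^ k = 1 := by rw [← ho]; exact pow_orderOf_eq_one _
      rw [zero_pow (by omega)] at h1
      have := Fact.mk hp
      exact zero_ne_one h1
    · rwa [Cfsg.Agent.Lib.Zsigmondy.dvd_pow_sub_one_iff hp.one_le, ho] at hm
  obtain ⟨hpr, hrm⟩ := hpos hr hro (by omega)
  obtain ⟨hps, hsm⟩ := hpos hs hso hb
  have hrG : r ∣ Nat.card G := hY.dvd_of_order_DM hr hro (by omega)
  have hN : (Nat.card G).factorization p = f * Art.NN Y := fac_self hY
  have hNN : 1 ≤ f * Art.NN Y := by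
    by_contra hcon
    have h3 : f * Art.NN Y = 0 := by omega
    rw [h3, pow_zero] at h1r
    have h4 : 0 < (Nat.card G).factorization r := hr.factorization_pos_of_dvd Nat.card_pos.ne' hrG
    have := Nat.one_lt_pow h4.ne' hr.one_lt
    omega
  have hpG : p ∣ Nat.card G := by
    by_contra hcon
    rw [Nat.factorization_eq_zero_of_not_dvd hcon] at hN
    omega
  obtain ⟨K, hKn, H, hR⟩ :=
    reduce hp hr hs hpr.symm hps.symm hpG hrG hsG hEr hEs hrm hsm (by rw [hN]; exact hlcm) (by rw [hN]; exact h1r)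
      (by rw [hN]; exact h1s)
  have hHn := hR.normal
  have hHs := hR.simple
  refine ⟨K, hKn, H, hHs, hR.nab, ?_⟩
  have hHG := hR.card_eq
  have hK0 : Nat.card K ≠ 0 := Nat.card_pos.ne'
  have hH0 : Nat.card H ≠ 0 := Nat.card_pos.ne'
  have hI0 : H.index ≠ 0 := Subgroup.index_ne_zero_of_finite
  set! δ := H.index.factorization p with hδdef
  have hδ : (Nat.card H).factorization p + δ = (Nat.card G).factorization p := by
    rw [← hHG, Nat.factorization_mul hK0 (Nat.mul_ne_zero hI0 hH0), Finsupp.add_apply,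
      Nat.factorization_eq_zero_of_not_dvd hR.pK, Nat.factorization_mul hI0 hH0, Finsupp.add_apply, hδdef]
    omega
  have hpI : p ^ δ ∣ H.index := Nat.ordProj_dvd _ _
  have hHd : Nat.card H ∣ Nat.card G := by rw [← hHG]; exact (Dvd.intro_left _ rfl).trans (Dvd.intro_left _ rfl)
  have h3 : Nat.card H * p ^ δ ≤ Nat.card G := by
    calc Nat.card H * p ^ δ ≤ Nat.card H * H.index :=
          Nat.mul_le_mul_left _ (Nat.le_of_dvd (Nat.pos_of_ne_zero hI0) hpI)
      _ = H.index * Nat.card H := mul_comm _ _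
      _ ≤ Nat.card K * (H.index * Nat.card H) := Nat.le_mul_of_pos_left _ (Nat.pos_of_ne_zero hK0)
      _ = Nat.card G := hHG
  rcases hkey H hR.nab δ (hpI.trans hR.out) h3 hHd (by omega) hR.ar hR.bs hR.fr hR.fs hR.rs with hlie | hlie
  swap
  · exact Or.inl hlie
  obtain ⟨g, X, f', hg, hreal, hX⟩ := LieNam.lie_nam table hp hlie
  obtain ⟨c, hc1, hc2, hc3⟩ := OutLie.card_out hR.nab hg hreal hX
  have hI : OutDat X p f' H.index := ⟨c, by rw [← hc1]; exact hR.out, hc2, hc3⟩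
  have hrH : r ∣ Nat.card H := by
    have h1 : r ∣ Nat.card K * (H.index * Nat.card H) := by rw [hHG]; exact hrG
    exact ((hr.dvd_mul.1 ((hr.dvd_mul.1 h1).resolve_left hR.rK)).resolve_left
      (TwoRow.not_dvd_index hX hY hHd h6 hr hro hI))
  have hδ2 : f * Art.NN Y - f' * Art.NN X = δ := by
    have h1 := fac_self hX
    omega
  obtain ⟨h24, h6'⟩ := TwoRow.OutDat.dvd hX hI hpI
  rcases Cfsg.Agent.H365.Near.near_out hX hY hHd hr hro (by omega) hrH (by rw [hδ2]; exact h24)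
      (by rw [hδ2]; exact h6') with ⟨rfl, rfl⟩ | h
  · left
    have h1 := hX.eq
    rw [← hY.eq] at h1
    exact Nat.eq_of_mul_eq_mul_left (Nat.pos_of_ne_zero hY.dd_ne) h1
  · exact Or.inr ⟨X, f', h, hX⟩

end Cfsg.Agent.H370.AAM
end

-- part: H370/AAM/Elim
section
/-!
# Elimination of the simple groups not of Lie type in characteristic `p` (helper370)
-/

set_option autoImplicit false

namespace Cfsg.Agent.H370.AAM

open Cfsg Cfsg.Agent.OrdDiv Finset
open Cfsg.Agent.H365.PPart Cfsg.Agent.H365.Cube Cfsg.Agent.H902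

universe u

/-- `S` a known simple group, not of Lie type in characteristic `p`, `|S|_p * p ^ δ = p ^ P`, `|S| * p ^ δ ≤ p ^ A`,
`p ^ δ ∣ |Out S|` -/
theorem elim {S : Type u} [Group S] [Finite S] [IsSimpleGroup S] (hk : IsKnownSimple' S)
    (hna : ¬ ∀ a b : S, a * b = b * a) {p P A δ : ℕ} (hp : p.Prime) (hlie : ¬ IsLieTypeChar p S)
    (hd : p ^ δ ∣ Nat.card (Cfsg.Out S)) (hle : Nat.card S * p ^ δ ≤ p ^ A)
    (hv : (Nat.card S).factorization p + δ = P) (hPA : P ≤ A) :
    (3 * P ≤ A + 2 * δ ∧ 2 ^ (p ^ δ) ≤ p ^ (3 * (A - P))) ∨ 3 * P < A + ce p := by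
  have hp1 := hp.one_lt
  rcases known_cube table hk hna hp with h | h | h
  · left
    constructor
    · rw [pt, ← pow_mul] at h
      have h1 : p ^ ((Nat.card S).factorization p * 3 + δ) ≤ p ^ A := by
        rw [pow_add]
        exact (Nat.mul_le_mul_right _ h).trans hle
      have h2 := (Nat.pow_le_pow_iff_right hp1).1 h1
      omega
    · have h1 := two_pow_out hk hna hp hd (B := p ^ (A - P)) (by
        rw [← pow_add]
        have h2 : (Nat.card S).factorization p + (A - P) + δ = A := by omega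
        refine Nat.le_of_mul_le_mul_right (?_ : _ * p ^ δ ≤ _) (pow_pos hp.pos δ)
        rwa [← pow_add, h2])
      rwa [← pow_mul, mul_comm (A - P)] at h1
  · exact absurd h hlie
  · right
    have h1 := exc_out table hna hp hlie h hd
    rw [pt, ← pow_mul] at h1
    have h2 : p ^ ((Nat.card S).factorization p * 3 + 2 * δ + δ) < p ^ (ce p + A) := by
      calc p ^ ((Nat.card S).factorization p * 3 + 2 * δ + δ)
          = p ^ ((Nat.card S).factorization p * 3) * p ^ (2 * δ) * p ^ δ := by rw [pow_add, pow_add]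
        _ < p ^ ce p * Nat.card S * p ^ δ := Nat.mul_lt_mul_of_pos_right h1 (pow_pos hp.pos δ)
        _ = p ^ ce p * (Nat.card S * p ^ δ) := by ring
        _ ≤ p ^ ce p * p ^ A := Nat.mul_le_mul_left _ hle
        _ = _ := by rw [pow_add]
    have h3 := (Nat.pow_lt_pow_iff_right hp1).1 h2
    omega

/-! ### numbers -/

theorem num2 {δ k : ℕ} (h : 2 ^ (2 ^ δ) ≤ 2 ^ (k * δ)) (hk : k ≤ 18) : δ ≤ 6 := by
  have h1 := (Nat.pow_le_pow_iff_right (by norm_num : 1 < 2)).1 h
  by_contra hcon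
  have key : ∀ t, 7 ≤ t → 18 * t < 2 ^ t := by
    intro t ht
    induction t, ht using Nat.le_induction with
    | base => norm_num
    | succ t ht ih => rw [pow_succ]; omega
  have h2 := key δ (by omega)
  have h3 : k * δ ≤ 18 * δ := Nat.mul_le_mul_right _ hk
  omega

theorem num3 {δ k : ℕ} (h : 2 ^ (3 ^ δ) ≤ 3 ^ (k * δ)) : 5 * 3 ^ δ ≤ 8 * (k * δ) := by
  have h1 : 2 ^ (3 ^ δ * 5) ≤ 2 ^ (8 * (k * δ)) := by
    calc 2 ^ (3 ^ δ * 5) = (2 ^ (3 ^ δ)) ^ 5 := by rw [pow_mul]
      _ ≤ (3 ^ (k * δ)) ^ 5 := Nat.pow_le_pow_left h 5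
      _ = (3 ^ 5) ^ (k * δ) := by rw [← pow_mul, ← pow_mul, mul_comm]
      _ ≤ (2 ^ 8) ^ (k * δ) := Nat.pow_le_pow_left (by norm_num) _
      _ = _ := by rw [← pow_mul]
  have := (Nat.pow_le_pow_iff_right (by norm_num : 1 < 2)).1 h1
  omega

theorem pow_fifteen {p : ℕ} (hp : 5 ≤ p) : p ^ 15 ≤ 2 ^ (7 * p) := by
  have key : ∀ t, 5 ≤ t → t ^ 15 ≤ 2 ^ (7 * t) := by
    intro t ht
    induction t, ht using Nat.le_induction with
    | base => norm_num
    | succ t ht ih =>
      have h1 : 5 * (t + 1) ≤ 6 * t := by omega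
      have h2 : 5 ^ 15 * (t + 1) ^ 15 ≤ 6 ^ 15 * t ^ 15 := by
        rw [← mul_pow, ← mul_pow]; exact Nat.pow_le_pow_left h1 15
      have h3 : 6 ^ 15 * t ^ 15 ≤ 6 ^ 15 * 2 ^ (7 * t) := Nat.mul_le_mul_left _ ih
      have h4 : (6 : ℕ) ^ 15 ≤ 5 ^ 15 * 2 ^ 7 := by norm_num
      have h5 : 5 ^ 15 * (t + 1) ^ 15 ≤ 5 ^ 15 * 2 ^ (7 * (t + 1)) := by
        calc 5 ^ 15 * (t + 1) ^ 15 ≤ 6 ^ 15 * 2 ^ (7 * t) := h2.trans h3
          _ ≤ 5 ^ 15 * 2 ^ 7 * 2 ^ (7 * t) := Nat.mul_le_mul_right _ h4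
          _ = _ := by rw [mul_add, pow_add]; ring
      exact Nat.le_of_mul_le_mul_left h5 (by norm_num)
  exact key p hp

theorem num5 {p δ k : ℕ} (hp : 5 ≤ p) (h : 2 ^ (p ^ δ) ≤ p ^ (k * δ)) : 15 * p ^ δ ≤ 7 * p * (k * δ) := by
  have h1 : 2 ^ (p ^ δ * 15) ≤ 2 ^ (7 * p * (k * δ)) := by
    calc 2 ^ (p ^ δ * 15) = (2 ^ (p ^ δ)) ^ 15 := by rw [pow_mul]
      _ ≤ (p ^ (k * δ)) ^ 15 := Nat.pow_le_pow_left h 15
      _ = (p ^ 15) ^ (k * δ) := by rw [← pow_mul, ← pow_mul, mul_comm]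
      _ ≤ (2 ^ (7 * p)) ^ (k * δ) := Nat.pow_le_pow_left (pow_fifteen hp) _
      _ = _ := by rw [← pow_mul]
  have := (Nat.pow_le_pow_iff_right (by norm_num : 1 < 2)).1 h1
  rw [mul_comm] at this
  exact this

/-- the exceptional parameters for `L n`, `U n` -/
def exLU (p f n : ℕ) : Prop :=
  (p = 2 ∧ n = 4 ∧ f ≤ 4) ∨ (p = 2 ∧ n = 5 ∧ f ≤ 2) ∨ (p = 2 ∧ n = 6 ∧ f = 1) ∨ (p = 3 ∧ n = 4 ∧ f ≤ 2) ∨
    (p = 3 ∧ n = 5 ∧ f = 1) ∨ (p = 5 ∧ n = 4 ∧ f ≤ 2) ∨ (p = 7 ∧ n = 4 ∧ f = 1)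

theorem small_n {f n c : ℕ} (hf : 1 ≤ f) (hn : 4 ≤ n) (h : f * ((n - 1) * (n - 2)) ≤ c) (hc : c < 30) :
    (n = 4 ∧ f * 6 ≤ c) ∨ (n = 5 ∧ f * 12 ≤ c) ∨ (n = 6 ∧ f = 1 ∧ 20 ≤ c) := by
  have h7 : n < 7 := by
    by_contra hcon
    have h1 : 6 * 5 ≤ (n - 1) * (n - 2) := Nat.mul_le_mul (by omega) (by omega)
    have h2 : 1 * (6 * 5) ≤ f * ((n - 1) * (n - 2)) := Nat.mul_le_mul hf h1
    omega
  interval_cases n
  · left; exact ⟨rfl, by omega⟩
  · right; left; exact ⟨rfl, by omega⟩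
  · right; right; exact ⟨rfl, by omega, by omega⟩

/-- the exceptions for `L n`, `U n` -/
theorem excLU {p f n δ P A : ℕ} (hp : p.Prime) (hf : 1 ≤ f) (hn : 4 ≤ n) (hP : P = f * (n * (n - 1) / 2))
    (hA : A = f * (n ^ 2 - 1))
    (h : (3 * P ≤ A + 2 * δ ∧ 2 ^ (p ^ δ) ≤ p ^ (3 * (A - P))) ∨ 3 * P < A + ce p) : exLU p f n := by
  obtain ⟨k, rfl⟩ : ∃ k, n = k + 1 := ⟨n - 1, by omega⟩
  -- `2 * P = f * (k * (k + 1))`, `2 * (A - P) = f * (k * (k + 3))`
  have hP2 : 2 * P = f * ((k + 1) * k) := by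
    rw [hP, Nat.add_sub_cancel]
    have h1 : 2 * ((k + 1) * k / 2) = (k + 1) * k :=
      Nat.two_mul_div_two_of_even (by rw [mul_comm]; exact Nat.even_mul_succ_self k)
    calc 2 * (f * ((k + 1) * k / 2)) = f * (2 * ((k + 1) * k / 2)) := by ring
      _ = _ := by rw [h1]
  have hA1 : A = f * (k * (k + 2)) := by
    rw [hA]; congr 1
    have : (k + 1) ^ 2 = k * (k + 2) + 1 := by ring
    omega
  obtain ⟨x, hx⟩ : ∃ x, x = f * ((k + 1 - 1) * (k + 1 - 2)) := ⟨_, rfl⟩
  have hx1 : 6 * P = 2 * A + x := by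
    obtain ⟨j, rfl⟩ : ∃ j, k = j + 1 := ⟨k - 1, by omega⟩
    have e : j + 1 + 1 - 2 = j := by omega
    have e1 : j + 1 + 1 - 1 = j + 1 := by omega
    rw [e, e1] at hx
    have : 6 * P = 3 * (2 * P) := by ring
    rw [this, hP2, hA1, hx]; ring
  have hPA : P ≤ A := by
    have h1 : 2 * P ≤ 2 * A := by
      rw [hP2, hA1]
      calc f * ((k + 1) * k) ≤ f * (2 * (k * (k + 2))) := Nat.mul_le_mul_left _ (by nlinarith only [])
        _ = _ := by ring
    omega
  have hE : 2 * (A - P) ≤ 3 * x := by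
    -- `2 (A - P) = f k (k + 3) ≤ 3 f k (k - 1)`
    obtain ⟨j, rfl⟩ : ∃ j, k = j + 3 := ⟨k - 3, by omega⟩
    have e : j + 3 + 1 - 2 = j + 2 := by omega
    have e1 : j + 3 + 1 - 1 = j + 3 := by omega
    rw [e, e1] at hx
    have h2 : 2 * (A - P) = 2 * A - 2 * P := by (clear * - hPA hP hA hA1; omega)
    have h3 : 2 * A ≤ 2 * P + 3 * x := by
      rw [hP2, hA1, hx]
      have : (2 * ((j + 3) * (j + 3 + 2))) ≤ (j + 3 + 1) * (j + 3) + 3 * ((j + 3) * (j + 2)) := by nlinarith only []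
      calc 2 * (f * ((j + 3) * (j + 3 + 2))) = f * (2 * ((j + 3) * (j + 3 + 2))) := by ring
        _ ≤ f * ((j + 3 + 1) * (j + 3) + 3 * ((j + 3) * (j + 2))) := Nat.mul_le_mul_left _ this
        _ = _ := by ring
    (clear * - h3; omega)
  have hx6 : 6 ≤ x := by
    rw [hx]
    have h1 : 3 * 2 ≤ (k + 1 - 1) * (k + 1 - 2) := Nat.mul_le_mul (by omega) (by omega)
    calc 6 = 1 * (3 * 2) := by norm_num
      _ ≤ _ := Nat.mul_le_mul hf h1
  rw [exLU]
  rcases h with ⟨h1, h2⟩ | h1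
  · have hxd : x ≤ 4 * δ := by omega
    have hw : 2 ^ (p ^ δ) ≤ p ^ (18 * δ) := h2.trans (Nat.pow_le_pow_right hp.pos (by omega))
    rcases Nat.lt_or_ge p 5 with h5 | h5
    · have h23 : p = 2 ∨ p = 3 := by
        have := hp.two_le
        have h4 : p ≠ 4 := by rintro rfl; norm_num at hp
        omega
      rcases h23 with rfl | rfl
      · have h3 := num2 hw le_rfl
        rcases small_n hf hn (c := 24) (by omega) (by norm_num) with h4 | h4 | h4 <;> (clear * - hf h4; (solve | lia | omega))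
      · have h3 := num3 hw
        have h4 : δ ≤ 4 := by
          by_contra hcon
          have key : ∀ t, 5 ≤ t → 8 * (18 * t) < 5 * 3 ^ t := by
            intro t ht
            induction t, ht using Nat.le_induction with
            | base => norm_num
            | succ t ht ih => rw [pow_succ]; omega
          have := key δ (by omega)
          omega
        rcases small_n hf hn (c := 16) (by omega) (by norm_num) with h4 | h4 | h4 <;> (clear * - hf h4; omega)
    · have h3 := num5 h5 hw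
      have hδ2 : 2 ≤ δ := by omega
      have h4 : δ ≤ 3 ∧ p < 17 := by
        obtain ⟨e, rfl⟩ : ∃ e, δ = e + 1 := ⟨δ - 1, by omega⟩
        have h6 : 5 * p ^ e ≤ 42 * (e + 1) := by
          rw [pow_succ] at h3
          have : 5 * p ^ e * (3 * p) ≤ 42 * (e + 1) * (3 * p) := by linarith only [h3]
          exact Nat.le_of_mul_le_mul_right this (by omega)
        have key : ∀ t, 3 ≤ t → 42 * (t + 1) < 5 * 5 ^ t := by
          intro t ht
          induction t, ht using Nat.le_induction with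
          | base => norm_num
          | succ t ht ih => rw [pow_succ]; omega
        have he3 : e ≤ 2 := by
          by_contra hcon
          have h7 := key e (by omega)
          have h8 : 5 ^ e ≤ p ^ e := Nat.pow_le_pow_left h5 e
          omega
        refine ⟨by omega, ?_⟩
        have he1 : 1 ≤ e := by omega
        have h7 : p ^ 1 ≤ p ^ e := Nat.pow_le_pow_right hp.pos he1
        interval_cases e
        · rw [pow_one] at h6; omega
        · by_contra hcon
          have : 17 ^ 2 ≤ p ^ 2 := Nat.pow_le_pow_left (by omega) 2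
          omega
      have hs := small_n hf hn (c := 12) (by (clear * - hx hx1 h1 h4; omega)) (by norm_num)
      obtain ⟨h4, h17⟩ := h4
      -- exact checks
      have hAP : A - P = (f * (k * (k + 3))) / 2 := by
        have : 2 * (A - P) = f * (k * (k + 3)) := by
          have h7 : 2 * A = f * (k * (k + 3)) + 2 * P := by rw [hA1, hP2]; ring
          (clear * - h7; omega)
        omega
      have hpp : p = 5 ∨ p = 7 ∨ p = 11 ∨ p = 13 := by
        interval_cases p <;> first | (clear * -; omega) | (exfalso; revert hp; norm_num)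
      rcases hs with ⟨h6, h7⟩ | ⟨h6, h7⟩ | ⟨h6, h7, h8⟩
      · have hk3 : k = 3 := by omega
        subst hk3
        have hf2 : f ≤ 2 := by omega
        interval_cases f
        · rcases hpp with rfl | rfl | rfl | rfl
          · omega
          · omega
          · exfalso
            rw [hAP] at h2
            interval_cases δ
            · norm_num at h2
            · norm_num at h3
          · exfalso
            rw [hAP] at h2
            interval_cases δ
            · norm_num at h2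
            · norm_num at h3
        · have hδ3 : δ = 3 := by omega
          subst hδ3
          rw [hAP] at h2
          rcases hpp with rfl | rfl | rfl | rfl
          · omega
          all_goals
            exfalso
            norm_num at h3
      · have hk4 : k = 4 := by omega
        subst hk4
        have hf1 : f = 1 := by omega
        subst hf1
        have hδ3 : δ = 3 := by omega
        subst hδ3
        rw [hAP] at h2
        exfalso
        rcases hpp with rfl | rfl | rfl | rfl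
        · norm_num at h2
        all_goals norm_num at h3
      · omega
  · by_cases hp2 : p = 2
    · subst hp2
      have hc : ce 2 = 14 := rfl
      rcases small_n hf hn (c := 27) (by omega) (by norm_num) with h4 | h4 | h4 <;> (clear * - h4 hf; solve | lia | omega)
    · have hc : ce p = 3 := by rw [ce, if_neg hp2]
      omega

/-- the exceptions for `D n`, `DD n`: `3 P - A = f n (n - 2)`, `A - P = f n ^ 2` -/
theorem excD {p f n δ P A : ℕ} (hp : p.Prime) (hf : 1 ≤ f) (hn : 4 ≤ n) (hP : P = f * (n * (n - 1)))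
    (hA : A = f * (n * (2 * n - 1)))
    (h : (3 * P ≤ A + 2 * δ ∧ 2 ^ (p ^ δ) ≤ p ^ (3 * (A - P))) ∨ 3 * P < A + ce p) : p = 2 ∧ f = 1 ∧ n = 4 := by
  obtain ⟨k, rfl⟩ : ∃ k, n = k + 4 := ⟨n - 4, by omega⟩
  have e1 : k + 4 - 1 = k + 3 := rfl
  have e2 : 2 * (k + 4) - 1 = 2 * k + 7 := by omega
  rw [e1] at hP
  rw [e2] at hA
  obtain ⟨D, hD⟩ : ∃ D, D = f * ((k + 4) * (k + 2)) := ⟨_, rfl⟩
  have h3 : 3 * P = A + D := by rw [hP, hA, hD]; ring
  have hE : A - P = f * (k + 4) ^ 2 := by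
    have : A = f * (k + 4) ^ 2 + P := by rw [hP, hA]; ring
    omega
  have hE2 : A - P ≤ 2 * D := by
    rw [hE, hD]
    calc f * (k + 4) ^ 2 ≤ f * (2 * ((k + 4) * (k + 2))) := Nat.mul_le_mul_left _ (by nlinarith only [])
      _ = _ := by ring
  have hD8 : f * (8 + 6 * k) ≤ D := by
    rw [hD]; exact Nat.mul_le_mul_left _ (by nlinarith only [])
  have hsm : D < 15 → f = 1 ∧ k = 0 := by
    intro h15
    have h5 : f = 1 := by
      by_contra hcon
      have : 2 * 8 ≤ f * (8 + 6 * k) := Nat.mul_le_mul (by omega) (by omega)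
      omega
    subst h5
    rw [one_mul] at hD hD8
    refine ⟨rfl, ?_⟩
    by_contra hcon
    have : 5 * 3 ≤ (k + 4) * (k + 2) := Nat.mul_le_mul (by omega) (by omega)
    omega
  have hf8 : 8 ≤ D := by
    refine le_trans ?_ hD8
    calc 8 = 1 * 8 := by norm_num
      _ ≤ _ := Nat.mul_le_mul hf (by omega)
  rcases h with ⟨h1, h2⟩ | h1
  · have hDd : D ≤ 2 * δ := by omega
    have hw : 2 ^ (p ^ δ) ≤ p ^ (12 * δ) := h2.trans (Nat.pow_le_pow_right hp.pos (by omega))
    rcases Nat.lt_or_ge p 5 with h5 | h5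
    · have h23 : p = 2 ∨ p = 3 := by
        have := hp.two_le
        have h4 : p ≠ 4 := by rintro rfl; norm_num at hp
        omega
      rcases h23 with rfl | rfl
      · have h4 := num2 hw (by norm_num)
        have := hsm (by omega)
        omega
      · exfalso
        have h4 := num3 hw
        have key : ∀ t, 4 ≤ t → 8 * (12 * t) < 5 * 3 ^ t := by
          intro t ht
          induction t, ht using Nat.le_induction with
          | base => norm_num
          | succ t ht ih => rw [pow_succ]; (clear * - ht ih; solve | lia | omega)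
        have := key δ (by omega)
        omega
    · exfalso
      have h4 := num5 h5 hw
      obtain ⟨e, rfl⟩ : ∃ e, δ = e + 1 := ⟨δ - 1, by omega⟩
      have h6 : 5 * p ^ e ≤ 28 * (e + 1) := by
        rw [pow_succ] at h4
        have : 5 * p ^ e * (3 * p) ≤ 28 * (e + 1) * (3 * p) := by linarith only [h4]
        exact Nat.le_of_mul_le_mul_right this (by omega)
      have key : ∀ t, 3 ≤ t → 28 * (t + 1) < 5 * 5 ^ t := by
        intro t ht
        induction t, ht using Nat.le_induction with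
        | base => norm_num
        | succ t ht ih => rw [pow_succ]; omega
      have h7 := key e (by omega)
      have h8 : 5 ^ e ≤ p ^ e := Nat.pow_le_pow_left h5 e
      omega
  · by_cases hp2 : p = 2
    · subst hp2
      have hc : ce 2 = 14 := rfl
      have := hsm (by omega)
      omega
    · have hc : ce p = 3 := by rw [ce, if_neg hp2]
      omega

/-! ### upper bounds for the orders -/

theorem prodL_le (q k : ℕ) : ∏ i ∈ range k, (q ^ (i + 2) - 1) ≤ q ^ (k * (k + 3) / 2) := by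
  induction k with
  | zero => simp
  | succ k ih =>
    rw [Finset.prod_range_succ]
    have h1 : (k + 1) * (k + 1 + 3) / 2 = k * (k + 3) / 2 + (k + 2) := by
      have : (k + 1) * (k + 1 + 3) = k * (k + 3) + (k + 2) * 2 := by ring
      rw [this, Nat.add_mul_div_right _ _ (by norm_num)]
    rw [h1, pow_add q (k * (k + 3) / 2) (k + 2)]
    exact Nat.mul_le_mul ih (Nat.sub_le _ _)

theorem prodU_le (q k : ℕ) (hq : 1 ≤ q) :
    ∏ i ∈ range k, (if Even i then q ^ (i + 2) - 1 else q ^ (i + 2) + 1) ≤ q ^ (k * (k + 3) / 2) := by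
  have hev : ∀ j, ∏ i ∈ range (2 * j), (if Even i then q ^ (i + 2) - 1 else q ^ (i + 2) + 1) ≤
      q ^ (2 * j * (2 * j + 3) / 2) := by
    intro j
    induction j with
    | zero => simp only [_root_.MulZeroClass.mul_zero, _root_.Finset.range_zero, _root_.Finset.prod_empty, _root_.zero_add, _root_.MulZeroClass.zero_mul, _root_.Nat.zero_div, _root_.pow_zero, _root_.Std.le_refl]
    | succ j ih =>
      rw [show 2 * (j + 1) = 2 * j + 1 + 1 by ring, Finset.prod_range_succ, Finset.prod_range_succ,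
        if_pos (even_two_mul j), if_neg (Nat.not_even_two_mul_add_one j)]
      have h1 : (2 * j + 1 + 1) * (2 * j + 1 + 1 + 3) / 2 = 2 * j * (2 * j + 3) / 2 + (4 * j + 5) := by
        have : (2 * j + 1 + 1) * (2 * j + 1 + 1 + 3) = 2 * j * (2 * j + 3) + (4 * j + 5) * 2 := by ring
        rw [this, Nat.add_mul_div_right _ _ (by norm_num)]
      rw [h1, pow_add q (2 * j * (2 * j + 3) / 2) (4 * j + 5), mul_assoc]
      refine Nat.mul_le_mul ih ?_
      obtain ⟨x, hx⟩ : ∃ x, q ^ (2 * j + 2) = x + 1 := ⟨q ^ (2 * j + 2) - 1, by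
        have := Nat.one_le_pow (2 * j + 2) q hq; omega⟩
      have h2 : q ^ (2 * j + 1 + 2) = (x + 1) * q := by rw [← hx]; ring
      have h3 : q ^ (4 * j + 5) = (x + 1) * ((x + 1) * q) := by rw [← hx]; ring
      rw [hx, h2, h3, Nat.add_sub_cancel]
      linarith only [hq, Nat.mul_le_mul_left x hq]
  rcases Nat.even_or_odd' k with ⟨j, rfl | rfl⟩
  · exact hev j
  · rw [Finset.prod_range_succ, if_pos (even_two_mul j)]
    have h1 : (2 * j + 1) * (2 * j + 1 + 3) / 2 = 2 * j * (2 * j + 3) / 2 + (2 * j + 2) := by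
      have : (2 * j + 1) * (2 * j + 1 + 3) = 2 * j * (2 * j + 3) + (2 * j + 2) * 2 := by ring
      rw [this, Nat.add_mul_div_right _ _ (by norm_num)]
    rw [h1, pow_add q (2 * j * (2 * j + 3) / 2) (2 * j + 2)]
    exact Nat.mul_le_mul (hev j) (Nat.sub_le _ _)

theorem sumLU (k : ℕ) : (k + 1) * k / 2 + k * (k + 3) / 2 = (k + 1) ^ 2 - 1 := by
  have h1 : 2 * ((k + 1) * k / 2) = (k + 1) * k :=
    Nat.two_mul_div_two_of_even (by rw [mul_comm]; exact Nat.even_mul_succ_self k)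
  have h2 : 2 * (k * (k + 3) / 2) = k * (k + 3) := by
    apply Nat.two_mul_div_two_of_even
    have : k * (k + 3) = k * (k + 1) + 2 * k := by ring
    rw [this]
    exact (Nat.even_mul_succ_self k).add (even_two_mul k)
  have h3 : (k + 1) ^ 2 = (k * (k + 2)) + 1 := by ring
  have h4 : (k + 1) * k + k * (k + 3) = 2 * (k * (k + 2)) := by ring
  omega

theorem card_le_L {p f n M : ℕ} (hY : Art.Real (.L n) p f M) : M ≤ p ^ (f * (n ^ 2 - 1)) := by
  have hn : 2 ≤ n := hY.ok.1
  obtain ⟨k, rfl⟩ : ∃ k, n = k + 1 := ⟨n - 1, by omega⟩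
  refine hY.M_le.trans ?_
  show (p ^ f) ^ ((k + 1) * k / 2) * ∏ i ∈ range k, ((p ^ f) ^ (i + 2) - 1) ≤ _
  rw [pow_mul, ← sumLU, pow_add]
  exact Nat.mul_le_mul_left _ (prodL_le _ _)

theorem card_le_U {p f n M : ℕ} (hY : Art.Real (.U n) p f M) : M ≤ p ^ (f * (n ^ 2 - 1)) := by
  have hn : 3 ≤ n := hY.ok.1
  have hq := hY.q_ge
  obtain ⟨k, rfl⟩ : ∃ k, n = k + 1 := ⟨n - 1, by omega⟩
  refine hY.M_le.trans ?_
  show (p ^ f) ^ ((k + 1) * k / 2) *
    ∏ i ∈ range k, (if Even i then (p ^ f) ^ (i + 2) - 1 else (p ^ f) ^ (i + 2) + 1) ≤ _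
  rw [pow_mul, ← sumLU, pow_add]
  exact Nat.mul_le_mul_left _ (prodU_le _ _ (by omega))

/-! ### the theorems -/

section main

variable {S : Type u} [Group S] [Finite S] [IsSimpleGroup S] (hk : IsKnownSimple' S)
  (hna : ¬ ∀ a b : S, a * b = b * a) {p f n M δ : ℕ} (hd : p ^ δ ∣ Nat.card (Cfsg.Out S))
  (hle : Nat.card S * p ^ δ ≤ M)
include hk hna hd hle

theorem elimL (hY : Art.Real (.L n) p f M) (hn : 4 ≤ n)
    (hv : (Nat.card S).factorization p + δ = f * Art.NN (.L n)) : IsLieTypeChar p S ∨ exLU p f n := by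
  by_cases hlie : IsLieTypeChar p S
  · exact Or.inl hlie
  have hP : Art.NN (.L n) = n * (n - 1) / 2 := rfl
  have hPA : f * (n * (n - 1) / 2) ≤ f * (n ^ 2 - 1) := by
    apply Nat.mul_le_mul_left
    obtain ⟨k, rfl⟩ : ∃ k, n = k + 1 := ⟨n - 1, by omega⟩
    rw [← sumLU, Nat.add_sub_cancel]; omega
  rw [hP] at hv
  exact Or.inr (excLU hY.hp hY.hf hn rfl rfl (elim hk hna hY.hp hlie hd (hle.trans (card_le_L hY)) hv hPA))

theorem elimU (hY : Art.Real (.U n) p f M) (hn : 4 ≤ n)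
    (hv : (Nat.card S).factorization p + δ = f * Art.NN (.U n)) : IsLieTypeChar p S ∨ exLU p f n := by
  by_cases hlie : IsLieTypeChar p S
  · exact Or.inl hlie
  have hP : Art.NN (.U n) = n * (n - 1) / 2 := rfl
  have hPA : f * (n * (n - 1) / 2) ≤ f * (n ^ 2 - 1) := by
    apply Nat.mul_le_mul_left
    obtain ⟨k, rfl⟩ : ∃ k, n = k + 1 := ⟨n - 1, by omega⟩
    rw [← sumLU, Nat.add_sub_cancel]; omega
  rw [hP] at hv
  exact Or.inr (excLU hY.hp hY.hf hn rfl rfl (elim hk hna hY.hp hlie hd (hle.trans (card_le_U hY)) hv hPA))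

theorem elimD (hY : Art.Real (.D n) p f M)
    (hv : (Nat.card S).factorization p + δ = f * Art.NN (.D n)) : IsLieTypeChar p S ∨ (p = 2 ∧ f = 1 ∧ n = 4) := by
  by_cases hlie : IsLieTypeChar p S
  · exact Or.inl hlie
  have hn : 4 ≤ n := hY.ok
  have hP : Art.NN (.D n) = n * (n - 1) := rfl
  have hPA : f * (n * (n - 1)) ≤ f * (n * (2 * n - 1)) :=
    Nat.mul_le_mul_left _ (Nat.mul_le_mul_left _ (by omega))
  rw [hP] at hv
  exact Or.inr (excD hY.hp hY.hf hn rfl rfl
    (elim hk hna hY.hp hlie hd (hle.trans (Cfsg.Agent.H364.OrthRow.card_le_plus hY)) hv hPA))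

theorem elimDD (hY : Art.Real (.DD n) p f M)
    (hv : (Nat.card S).factorization p + δ = f * Art.NN (.DD n)) : IsLieTypeChar p S ∨ (p = 2 ∧ f = 1 ∧ n = 4) := by
  by_cases hlie : IsLieTypeChar p S
  · exact Or.inl hlie
  have hn : 4 ≤ n := hY.ok
  have hP : Art.NN (.DD n) = n * (n - 1) := rfl
  have hPA : f * (n * (n - 1)) ≤ f * (n * (2 * n - 1)) :=
    Nat.mul_le_mul_left _ (Nat.mul_le_mul_left _ (by omega))
  rw [hP] at hv
  exact Or.inr (excD hY.hp hY.hf hn rfl rfl
    (elim hk hna hY.hp hlie hd (hle.trans (Cfsg.Agent.H364.OrthRow.card_le_minus hY)) hv hPA))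

end main

end Cfsg.Agent.H370.AAM
end

-- part: H370/AAM/Small
section
/-!
# The finitely many small linear and unitary groups: elimination with one prime (helper370)
-/

set_option autoImplicit false

namespace Cfsg.Agent.H370.AAM

open Cfsg Cfsg.Agent.OrdDiv Cfsg.Agent.H902
open Cfsg.Agent.H365.PPart Cfsg.Agent.H365.CubeF

universe u

/-- the `p`-adic valuation, for the kernel -/
def vl (p o : ℕ) : ℕ := (List.range 70).countP fun i => o % p ^ (i + 1) == 0

theorem countP_lt (v n : ℕ) : (List.range n).countP (fun i => decide (i < v)) = min n v := by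
  induction n with
  | zero => simp
  | succ n ih =>
    rw [List.range_succ, List.countP_append, ih, List.countP_singleton]
    by_cases h : n < v
    · simp only [h, decide_true, if_true]; omega
    · simp only [h, decide_false, Bool.false_eq_true, if_false]; omega

theorem vl_eq {p o : ℕ} (hp : p.Prime) (ho : o ≠ 0) (h : o < 2 ^ 70) : vl p o = o.factorization p := by
  have h1 : o.factorization p < 70 := by
    by_contra hcon
    have h2 : p ^ o.factorization p ≤ o := Nat.le_of_dvd (Nat.pos_of_ne_zero ho) (Nat.ordProj_dvd o p)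
    have h3 : 2 ^ 70 ≤ p ^ o.factorization p :=
      (Nat.pow_le_pow_right (by norm_num) (by omega : 70 ≤ o.factorization p)).trans (Nat.pow_le_pow_left hp.two_le _)
    omega
  have h2 : (fun i => o % p ^ (i + 1) == 0) = (fun i => decide (i < o.factorization p)) := by
    funext i
    rw [Bool.eq_iff_iff]
    simp only [beq_iff_eq, decide_eq_true_eq]
    rw [← Nat.dvd_iff_mod_eq_zero, hp.pow_dvd_iff_le_factorization ho]
    exact Nat.succ_le_iff
  rw [vl, h2, countP_lt]
  omega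

/-- the test: `true` if the order `o` is impossible -/
def bad (p P s o : ℕ) : Bool :=
  (o % s != 0) || ((s ^ vl s o - 1) % p ^ (P - vl p o) != 0) ||
    Nat.ble (3 * (Nat.log2 (o / p ^ vl p o) + 1)) (p ^ (P - vl p o))

/-- the names of Lie type in characteristic `p` which occur -/
def lieB (p : ℕ) : Grp → Bool
  | .ominus m q => Nat.ble 4 m && (q == p || q == p ^ 2)
  | .oplus m q => Nat.ble 4 m && (q == p || q == p ^ 2)
  | .psp m q => Nat.ble 3 m && (q == p || q == p ^ 2)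
  | _ => false

theorem dvd_of_or {p q : ℕ} (h : q = p ∨ q = p ^ 2) : p ∣ q := by
  rcases h with rfl | rfl
  · exact dvd_rfl
  · exact dvd_pow_self p (by norm_num)

theorem lieB_spec {S : Type u} [Group S] {p : ℕ} (hp : p.Prime) {g : Grp} (hg : lieB p g = true) (hr : OrdDiv.Real g S) :
    IsLieTypeChar p S := by
  cases g with
  | ominus m q =>
    simp only [lieB, Bool.and_eq_true, Nat.ble_eq, Bool.or_eq_true, beq_iff_eq] at hg
    obtain ⟨F, _, _, a, b, hF, hab, ⟨e⟩⟩ := hr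
    exact Or.inr (Or.inr (Or.inr (Or.inr (Or.inr (Or.inl ⟨F, inferInstance, inferInstance,
      charP_of_dvd hp (by rw [hF]; exact dvd_of_or hg.2), m, a, b, hg.1, hab, ⟨e⟩⟩)))))
  | oplus m q =>
    simp only [lieB, Bool.and_eq_true, Nat.ble_eq, Bool.or_eq_true, beq_iff_eq] at hg
    obtain ⟨F, _, _, hF, ⟨e⟩⟩ := hr
    exact Or.inr (Or.inr (Or.inr (Or.inr (Or.inl ⟨F, inferInstance, inferInstance,
      charP_of_dvd hp (by rw [hF]; exact dvd_of_or hg.2), m, hg.1, ⟨e⟩⟩))))
  | psp m q =>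
    simp only [lieB, Bool.and_eq_true, Nat.ble_eq, Bool.or_eq_true, beq_iff_eq] at hg
    obtain ⟨F, _, _, hF, ⟨e⟩⟩ := hr
    exact Or.inr (Or.inl ⟨F, inferInstance, inferInstance, charP_of_dvd hp (by rw [hF]; exact dvd_of_or hg.2), m,
      by omega, fun h => by omega, ⟨e⟩⟩)
  | _ => exact absurd hg (by simp only [lieB, Bool.false_eq_true, not_false_eq_true])

/-- the order condition on `s`: `q` (`u = false`) or `-q` (`u = true`) has order `k` modulo `s` -/
def okB (u : Bool) (q k s : ℕ) : Bool :=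
  (if u && k % 2 == 1 then (q ^ k + 1) % s == 0 else (q ^ k - 1) % s == 0) &&
    (List.range (k - 1)).all fun j =>
      if u && (j + 1) % 2 == 1 then (q ^ (j + 1) + 1) % s != 0 else (q ^ (j + 1) - 1) % s != 0

theorem modL {q k s : ℕ} (hq : 1 ≤ q) : (q ^ k - 1) % s = 0 ↔ ((q : ℕ) : ZMod s) ^ k = 1 := by
  rw [← Nat.dvd_iff_mod_eq_zero, ← ZMod.natCast_eq_zero_iff, Nat.cast_sub (Nat.one_le_pow _ _ hq), sub_eq_zero]
  push_cast
  rfl

theorem modU {q k s : ℕ} : (q ^ k + 1) % s = 0 ↔ ((q : ℕ) : ZMod s) ^ k = -1 := by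
  rw [← Nat.dvd_iff_mod_eq_zero, ← ZMod.natCast_eq_zero_iff]
  push_cast
  rw [add_eq_zero_iff_eq_neg]

theorem okB_L {q k s : ℕ} (hq : 1 ≤ q) (hk : 1 ≤ k) (ho : orderOf ((q : ℕ) : ZMod s) = k) : okB false q k s = true := by
  simp only [okB, Bool.false_and, Bool.false_eq_true, if_false, Bool.and_eq_true, beq_iff_eq, List.all_eq_true,
    List.mem_range, bne_iff_ne, ne_eq]
  rw [modL hq]
  refine ⟨by rw [← ho]; exact pow_orderOf_eq_one _, fun j hj => ?_⟩
  rw [modL hq]
  intro h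
  have := Nat.le_of_dvd (by omega) (orderOf_dvd_of_pow_eq_one h)
  omega

theorem negpow {q k s : ℕ} : (-((q : ℕ) : ZMod s)) ^ k = 1 ↔
    (if k % 2 = 1 then ((q : ℕ) : ZMod s) ^ k = -1 else ((q : ℕ) : ZMod s) ^ k = 1) := by
  by_cases hk : k % 2 = 1
  · rw [if_pos hk, Odd.neg_pow (Nat.odd_iff.2 hk), neg_eq_iff_eq_neg]
  · rw [if_neg hk, Even.neg_pow (Nat.even_iff.2 (by omega))]

theorem okB_U {q k s : ℕ} (hq : 1 ≤ q) (hk : 1 ≤ k) (ho : orderOf (-((q : ℕ) : ZMod s)) = k) :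
    okB true q k s = true := by
  have key : ∀ j, (if (j % 2 == 1) = true then (q ^ j + 1) % s = 0 else (q ^ j - 1) % s = 0) ↔
      (-((q : ℕ) : ZMod s)) ^ j = 1 := by
    intro j
    rw [negpow]
    by_cases hj : j % 2 = 1
    · simp only [hj, beq_self_eq_true, if_true, modU]
    · rw [if_neg hj, if_neg (by simpa using hj), modL hq]
  simp only [okB, Bool.true_and, Bool.and_eq_true, List.all_eq_true, List.mem_range]
  constructor
  · have h1 := (key k).2 (by rw [← ho]; exact pow_orderOf_eq_one _)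
    by_cases hk2 : (k % 2 == 1) = true
    · rw [if_pos hk2] at h1 ⊢; simpa using h1
    · rw [if_neg hk2] at h1 ⊢; simpa only [_root_.beq_iff_eq] using h1
  · intro j hj
    have h1 : ¬ (-((q : ℕ) : ZMod s)) ^ (j + 1) = 1 := by
      intro h
      have := Nat.le_of_dvd (by omega) (orderOf_dvd_of_pow_eq_one h)
      omega
    rw [← key] at h1
    by_cases hk2 : ((j + 1) % 2 == 1) = true
    · rw [if_pos hk2] at h1 ⊢; simpa using h1
    · rw [if_neg hk2] at h1 ⊢; simpa only [_root_.bne_iff_ne, _root_.ne_eq] using h1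

/-- the check; `w = true`: the names of Lie type are allowed -/
def chkS (w u : Bool) (q k : ℕ) (l : List (ℕ × ℕ)) (M p P : ℕ) : Bool :=
  l.all fun x => !(okB u q k x.1) || (cands l M).all fun g => ordN g == M || (w && lieB p g) || bad p P x.1 (ordN g)

theorem of_chkS {S : Type u} [Group S] [Finite S] [IsSimpleGroup S] (hk : IsKnownSimple' S)
    (hna : ¬ ∀ a b : S, a * b = b * a) {w u : Bool} {q k : ℕ} {l : List (ℕ × ℕ)} {M p P s δ : ℕ}
    (hv : valid l M = true) (hM : M < 2 ^ 70) (hd : Nat.card S ∣ M) (hp : p.Prime) (hs : s.Prime)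
    (hδ : p ^ δ ∣ Nat.card (Cfsg.Out S)) (hP : (Nat.card S).factorization p + δ = P) (hsS : s ∣ Nat.card S)
    (hsδ : p ^ δ ∣ s ^ (Nat.card S).factorization s - 1) (hok : okB u q k s = true)
    (hc : chkS w u q k l M p P = true) : (w = true ∧ IsLieTypeChar p S) ∨ Nat.card S = M := by
  obtain ⟨j, hj, -⟩ := exists_pair hv hs le_rfl ((by rw [pow_one]; exact hsS : s ^ 1 ∣ Nat.card S).trans hd)
  obtain ⟨g, hg, hr, ho⟩ := exists_good table hk hna hv hd
  rw [chkS, List.all_eq_true] at hc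
  have h1 := hc _ hj
  simp only [hok, Bool.not_true, Bool.false_or, List.all_eq_true] at h1
  have h2 := h1 g hg
  rw [← ho] at h2
  simp only [Bool.or_eq_true, Bool.and_eq_true, beq_iff_eq] at h2
  rcases h2 with (h2 | h2) | h2
  · exact Or.inr h2
  · exact Or.inl ⟨h2.1, lieB_spec hp h2.2 hr⟩
  exfalso
  have hS0 : Nat.card S ≠ 0 := Nat.card_pos.ne'
  have hM0 : M ≠ 0 := (valid_pos hv).ne'
  have hlt : Nat.card S < 2 ^ 70 := (Nat.le_of_dvd (Nat.pos_of_ne_zero hM0) hd).trans_lt hM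
  have hδ' : P - (Nat.card S).factorization p = δ := by omega
  rw [bad, vl_eq hs hS0 hlt, vl_eq hp hS0 hlt, hδ'] at h2
  simp only [Bool.or_eq_true, bne_iff_ne, ne_eq, Nat.ble_eq] at h2
  rcases h2 with (h2 | h2) | h2
  · exact h2 (Nat.mod_eq_zero_of_dvd hsS)
  · exact h2 (Nat.mod_eq_zero_of_dvd hsδ)
  · obtain ⟨B, hB⟩ := Nat.ordProj_dvd (Nat.card S) p
    have hpv : 0 < p ^ (Nat.card S).factorization p := pow_pos hp.pos _
    have hdiv : Nat.card S / p ^ (Nat.card S).factorization p = B := Nat.div_eq_of_eq_mul_right hpv hB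
    rw [hdiv] at h2
    have h3 := two_pow_out hk hna hp hδ (B := B) hB.le
    have h4 : B < 2 ^ (Nat.log2 B + 1) := Nat.lt_log2_self
    have h5 : B ^ 3 < (2 ^ (Nat.log2 B + 1)) ^ 3 := Nat.pow_lt_pow_left h4 (by norm_num)
    rw [← pow_mul] at h5
    have h6 := (Nat.pow_lt_pow_iff_right (by norm_num : 1 < 2)).1 (h3.trans_lt h5)
    omega

theorem card_of {X : Art.Sh} {p f M N : ℕ} (h : Art.Real X p f M)
    (hN : Art.dd X (p ^ f) * N = (p ^ f) ^ Art.NN X * Art.num X (p ^ f)) : M = N := by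
  have h1 := h.eq
  rw [← hN] at h1
  exact Nat.eq_of_mul_eq_mul_left (Nat.pos_of_ne_zero h.dd_ne) h1

section small

variable {S : Type u} [Group S] [Finite S] [IsSimpleGroup S] (hk : IsKnownSimple' S)
  (hna : ¬ ∀ a b : S, a * b = b * a) {M s δ : ℕ} (hd : Nat.card S ∣ M) (hs : s.Prime)
include hk hna hd hs

theorem sL421 (hM : Art.Real (.L 4) 2 1 M) (ho : orderOf (((2 ^ 1 : ℕ)) : ZMod s) = 3)
    (hδ : 2 ^ δ ∣ Nat.card (Cfsg.Out S)) (hP : (Nat.card S).factorization 2 + δ = 1 * Art.NN (.L 4))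
    (hsS : s ∣ Nat.card S) (hsδ : 2 ^ δ ∣ s ^ (Nat.card S).factorization s - 1) :
    Nat.card S = M := by
  obtain rfl : M = 20160 := card_of hM (by decide +kernel)
  rcases of_chkS hk hna (w := false) (u := false) (q := 2 ^ 1) (k := 3)
    (l := [(2, 6), (3, 2), (5, 1), (7, 1)]) (P := 6)
    (by decide +kernel) (by norm_num) hd hM.hp hs hδ hP hsS hsδ (okB_L (by norm_num) (by norm_num) ho)
    (by decide +kernel) with h | h
  · exact absurd h.1 (by decide)
  · exact h

theorem sL422 (hM : Art.Real (.L 4) 2 2 M) (ho : orderOf (((2 ^ 2 : ℕ)) : ZMod s) = 3)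
    (hδ : 2 ^ δ ∣ Nat.card (Cfsg.Out S)) (hP : (Nat.card S).factorization 2 + δ = 2 * Art.NN (.L 4))
    (hsS : s ∣ Nat.card S) (hsδ : 2 ^ δ ∣ s ^ (Nat.card S).factorization s - 1) :
    IsLieTypeChar 2 S ∨ Nat.card S = M := by
  obtain rfl : M = 987033600 := card_of hM (by decide +kernel)
  rcases of_chkS hk hna (w := true) (u := false) (q := 2 ^ 2) (k := 3)
    (l := [(2, 12), (3, 4), (5, 2), (7, 1), (17, 1)]) (P := 12)
    (by decide +kernel) (by norm_num) hd hM.hp hs hδ hP hsS hsδ (okB_L (by norm_num) (by norm_num) ho)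
    (by decide +kernel) with h | h
  · exact Or.inl h.2
  · exact Or.inr h

private noncomputable def _root_.Cfsg.Agent.LsF.ffd1303_0 : {f // @Cfsg.Agent.H370.AAM.okB = f} := ⟨_, by first | (delta Cfsg.Agent.H370.AAM.okB; rewrite [Cfsg.Agent.LsF.nadd_pat, Cfsg.Agent.LsF.nsub_pat, Cfsg.Agent.LsF.nmod_pat, Cfsg.Agent.LsF.npow_pat, Cfsg.Agent.LsF.nbeq_pat, Cfsg.Agent.LsF.nbne_pat, Cfsg.Agent.LsF.and_eq, Cfsg.Agent.LsF.all_eq, Cfsg.Agent.LsF.range_eq, Cfsg.Agent.LsF.dBoolEq_eq, Cfsg.Agent.LsF.ite_eq]; exact rfl) | exact rfl⟩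
private noncomputable def _root_.Cfsg.Agent.LsF.ffd1303_1 : {f // @Nat.factorial = f} := ⟨_, by first | (delta Nat.factorial Nat.brecOn.go Nat.brecOn Nat.factorial._f; rewrite [Cfsg.Agent.LsF.nmul_pat]; (try delta Nat.factorial.match_1); (try delta Nat.casesOn); first | dsimp -zeta only | exact rfl) | exact rfl⟩
private noncomputable def _root_.Cfsg.Agent.LsF.ffd1303_2 : {f // @Cfsg.Agent.OrdDiv.candAlt = f} := ⟨_, by first | (delta Cfsg.Agent.OrdDiv.candAlt; rewrite [Cfsg.Agent.LsF.ffd1303_1.2, Cfsg.Agent.LsF.nadd_pat, Cfsg.Agent.LsF.nmul_pat, Cfsg.Agent.LsF.nmod_pat, Cfsg.Agent.LsF.nbeq_pat, Cfsg.Agent.LsF.and_eq, Cfsg.Agent.LsF.flatMap_eq, Cfsg.Agent.LsF.filter_eq, Cfsg.Agent.LsF.range_eq, Cfsg.Agent.LsF.dBoolEq_eq, Cfsg.Agent.LsF.ite_eq]; exact rfl) | exact rfl⟩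
private noncomputable def _root_.Cfsg.Agent.LsF.ffd1303_4 : {f // @Cfsg.Agent.OrdDiv.cand = f} := ⟨_, by first | (delta Cfsg.Agent.OrdDiv.cand; rewrite [Cfsg.Agent.LsF.nmul_pat, Cfsg.Agent.LsF.nmod_pat, Cfsg.Agent.LsF.nbeq_pat, Cfsg.Agent.LsF.and_eq, Cfsg.Agent.LsF.filter_eq]; exact rfl) | exact rfl⟩
private noncomputable def _root_.Cfsg.Agent.LsF.ffd1303_5 : {f // @Cfsg.Agent.OrdDiv.glN = f} := ⟨_, by first | (delta Cfsg.Agent.OrdDiv.glN; rewrite [Cfsg.Agent.LsF.nsub_pat, Cfsg.Agent.LsF.npow_pat, Cfsg.Agent.LsF.map_eq, Cfsg.Agent.LsF.range_eq, Cfsg.Agent.LsF.prod_eq]; exact rfl) | exact rfl⟩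
private noncomputable def _root_.Cfsg.Agent.LsF.ffd1303_6 : {f // @Cfsg.Agent.OrdDiv.fPSL = f} := ⟨_, by first | (delta Cfsg.Agent.OrdDiv.fPSL; rewrite [Cfsg.Agent.LsF.ffd1303_5.2, Cfsg.Agent.LsF.nmul_pat, Cfsg.Agent.LsF.nsub_pat, Cfsg.Agent.LsF.ndiv_pat, Cfsg.Agent.LsF.and_eq, Cfsg.Agent.LsF.not_eq]; exact rfl) | exact rfl⟩
private noncomputable def _root_.Cfsg.Agent.LsF.ffd1303_7 : {f // @Cfsg.Agent.OrdDiv.prB = f} := ⟨_, by first | (delta Cfsg.Agent.OrdDiv.prB; rewrite [Cfsg.Agent.LsF.nadd_pat, Cfsg.Agent.LsF.nmul_pat, Cfsg.Agent.LsF.nsub_pat, Cfsg.Agent.LsF.npow_pat, Cfsg.Agent.LsF.map_eq, Cfsg.Agent.LsF.range_eq, Cfsg.Agent.LsF.prod_eq]; exact rfl) | exact rfl⟩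
private noncomputable def _root_.Cfsg.Agent.LsF.ffd1303_8 : {f // @Cfsg.Agent.OrdDiv.fPSp = f} := ⟨_, by first | (delta Cfsg.Agent.OrdDiv.fPSp; rewrite [Cfsg.Agent.LsF.ffd1303_7.2, Cfsg.Agent.LsF.nmul_pat, Cfsg.Agent.LsF.nsub_pat, Cfsg.Agent.LsF.npow_pat, Cfsg.Agent.LsF.and_eq, Cfsg.Agent.LsF.not_eq]; exact rfl) | exact rfl⟩
private noncomputable def _root_.Cfsg.Agent.LsF.ffd1303_9 : {f // @Cfsg.Agent.OrdDiv.prU = f} := ⟨_, by first | (delta Cfsg.Agent.OrdDiv.prU; rewrite [Cfsg.Agent.LsF.nadd_pat, Cfsg.Agent.LsF.nsub_pat, Cfsg.Agent.LsF.nmod_pat, Cfsg.Agent.LsF.npow_pat, Cfsg.Agent.LsF.map_eq, Cfsg.Agent.LsF.range_eq, Cfsg.Agent.LsF.prod_eq, Cfsg.Agent.LsF.dBoolEq_eq, Cfsg.Agent.LsF.ite_eq]; exact rfl) | exact rfl⟩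
private noncomputable def _root_.Cfsg.Agent.LsF.ffd1303_10 : {f // @Cfsg.Agent.OrdDiv.fPSU = f} := ⟨_, by first | (delta Cfsg.Agent.OrdDiv.fPSU; rewrite [Cfsg.Agent.LsF.ffd1303_9.2, Cfsg.Agent.LsF.nadd_pat, Cfsg.Agent.LsF.nmul_pat, Cfsg.Agent.LsF.nsub_pat, Cfsg.Agent.LsF.ndiv_pat, Cfsg.Agent.LsF.npow_pat, Cfsg.Agent.LsF.and_eq, Cfsg.Agent.LsF.not_eq]; exact rfl) | exact rfl⟩
private noncomputable def _root_.Cfsg.Agent.LsF.ffd1303_11 : {f // @Cfsg.Agent.OrdDiv.fOOdd = f} := ⟨_, by first | (delta Cfsg.Agent.OrdDiv.fOOdd; rewrite [Cfsg.Agent.LsF.ffd1303_7.2, Cfsg.Agent.LsF.nmul_pat, Cfsg.Agent.LsF.nmod_pat, Cfsg.Agent.LsF.npow_pat]; exact rfl) | exact rfl⟩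
private noncomputable def _root_.Cfsg.Agent.LsF.ffd1303_12 : {f // @Cfsg.Agent.OrdDiv.fOPlus = f} := ⟨_, by first | (delta Cfsg.Agent.OrdDiv.fOPlus; rewrite [Cfsg.Agent.LsF.ffd1303_7.2, Cfsg.Agent.LsF.nmul_pat, Cfsg.Agent.LsF.nsub_pat, Cfsg.Agent.LsF.npow_pat]; exact rfl) | exact rfl⟩
private noncomputable def _root_.Cfsg.Agent.LsF.ffd1303_13 : {f // @Cfsg.Agent.OrdDiv.fOMinus = f} := ⟨_, by first | (delta Cfsg.Agent.OrdDiv.fOMinus; rewrite [Cfsg.Agent.LsF.ffd1303_7.2, Cfsg.Agent.LsF.nadd_pat, Cfsg.Agent.LsF.nmul_pat, Cfsg.Agent.LsF.nsub_pat, Cfsg.Agent.LsF.npow_pat]; exact rfl) | exact rfl⟩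
private noncomputable def _root_.Cfsg.Agent.LsF.ffd1303_14 : {f // @Cfsg.Agent.OrdDiv.one = f} := ⟨_, by first | (delta Cfsg.Agent.OrdDiv.one; rewrite [Cfsg.Agent.LsF.nadd_pat, Cfsg.Agent.LsF.nmul_pat, Cfsg.Agent.LsF.npow_pat]; exact rfl) | exact rfl⟩
private noncomputable def _root_.Cfsg.Agent.LsF.ffd1303_15 : {f // @Cfsg.Agent.OrdDiv.fG2 = f} := ⟨_, by first | (delta Cfsg.Agent.OrdDiv.fG2; rewrite [Cfsg.Agent.LsF.ffd1303_14.2, Cfsg.Agent.LsF.nmul_pat, Cfsg.Agent.LsF.nsub_pat, Cfsg.Agent.LsF.npow_pat]; exact rfl) | exact rfl⟩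
private noncomputable def _root_.Cfsg.Agent.LsF.ffd1303_16 : {f // @Cfsg.Agent.OrdDiv.fF4 = f} := ⟨_, by first | (delta Cfsg.Agent.OrdDiv.fF4; rewrite [Cfsg.Agent.LsF.ffd1303_14.2, Cfsg.Agent.LsF.nmul_pat, Cfsg.Agent.LsF.nsub_pat, Cfsg.Agent.LsF.npow_pat]; exact rfl) | exact rfl⟩
private noncomputable def _root_.Cfsg.Agent.LsF.ffd1303_17 : {f // @Cfsg.Agent.OrdDiv.fE6 = f} := ⟨_, by first | (delta Cfsg.Agent.OrdDiv.fE6; rewrite [Cfsg.Agent.LsF.ffd1303_14.2, Cfsg.Agent.LsF.nmul_pat, Cfsg.Agent.LsF.nsub_pat, Cfsg.Agent.LsF.npow_pat]; exact rfl) | exact rfl⟩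
private noncomputable def _root_.Cfsg.Agent.LsF.ffd1303_18 : {f // @Cfsg.Agent.OrdDiv.fE7 = f} := ⟨_, by first | (delta Cfsg.Agent.OrdDiv.fE7; rewrite [Cfsg.Agent.LsF.ffd1303_14.2, Cfsg.Agent.LsF.nmul_pat, Cfsg.Agent.LsF.nsub_pat, Cfsg.Agent.LsF.npow_pat]; exact rfl) | exact rfl⟩
private noncomputable def _root_.Cfsg.Agent.LsF.ffd1303_19 : {f // @Cfsg.Agent.OrdDiv.fE8 = f} := ⟨_, by first | (delta Cfsg.Agent.OrdDiv.fE8; rewrite [Cfsg.Agent.LsF.ffd1303_14.2, Cfsg.Agent.LsF.nmul_pat, Cfsg.Agent.LsF.nsub_pat, Cfsg.Agent.LsF.npow_pat]; exact rfl) | exact rfl⟩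
private noncomputable def _root_.Cfsg.Agent.LsF.ffd1303_20 : {f // @Cfsg.Agent.OrdDiv.fTE6 = f} := ⟨_, by first | (delta Cfsg.Agent.OrdDiv.fTE6; rewrite [Cfsg.Agent.LsF.ffd1303_14.2, Cfsg.Agent.LsF.nadd_pat, Cfsg.Agent.LsF.nmul_pat, Cfsg.Agent.LsF.nsub_pat, Cfsg.Agent.LsF.npow_pat]; exact rfl) | exact rfl⟩
private noncomputable def _root_.Cfsg.Agent.LsF.ffd1303_21 : {f // @Cfsg.Agent.OrdDiv.fTD4 = f} := ⟨_, by first | (delta Cfsg.Agent.OrdDiv.fTD4; rewrite [Cfsg.Agent.LsF.ffd1303_14.2, Cfsg.Agent.LsF.nadd_pat, Cfsg.Agent.LsF.nmul_pat, Cfsg.Agent.LsF.nsub_pat, Cfsg.Agent.LsF.npow_pat]; exact rfl) | exact rfl⟩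
private noncomputable def _root_.Cfsg.Agent.LsF.ffd1303_22 : {f // @Cfsg.Agent.OrdDiv.fSz = f} := ⟨_, by first | (delta Cfsg.Agent.OrdDiv.fSz; rewrite [Cfsg.Agent.LsF.ffd1303_14.2, Cfsg.Agent.LsF.nadd_pat, Cfsg.Agent.LsF.nmul_pat, Cfsg.Agent.LsF.nsub_pat, Cfsg.Agent.LsF.nmod_pat, Cfsg.Agent.LsF.npow_pat, Cfsg.Agent.LsF.and_eq]; exact rfl) | exact rfl⟩
private noncomputable def _root_.Cfsg.Agent.LsF.ffd1303_23 : {f // @Cfsg.Agent.OrdDiv.fRee = f} := ⟨_, by first | (delta Cfsg.Agent.OrdDiv.fRee; rewrite [Cfsg.Agent.LsF.ffd1303_14.2, Cfsg.Agent.LsF.nadd_pat, Cfsg.Agent.LsF.nmul_pat, Cfsg.Agent.LsF.nsub_pat, Cfsg.Agent.LsF.nmod_pat, Cfsg.Agent.LsF.npow_pat, Cfsg.Agent.LsF.and_eq]; exact rfl) | exact rfl⟩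
private noncomputable def _root_.Cfsg.Agent.LsF.ffd1303_24 : {f // @Cfsg.Agent.OrdDiv.fTF4 = f} := ⟨_, by first | (delta Cfsg.Agent.OrdDiv.fTF4; rewrite [Cfsg.Agent.LsF.ffd1303_14.2, Cfsg.Agent.LsF.nadd_pat, Cfsg.Agent.LsF.nmul_pat, Cfsg.Agent.LsF.nsub_pat, Cfsg.Agent.LsF.nmod_pat, Cfsg.Agent.LsF.npow_pat, Cfsg.Agent.LsF.and_eq]; exact rfl) | exact rfl⟩
private noncomputable def _root_.Cfsg.Agent.LsF.ffd1303_25 : {f // @Cfsg.Agent.OrdDiv.cands = f} := ⟨_, by first | (delta Cfsg.Agent.OrdDiv.cands; rewrite [Cfsg.Agent.LsF.ffd1303_2.2, Cfsg.Agent.LsF.ffd1303_4.2, Cfsg.Agent.LsF.ffd1303_6.2, Cfsg.Agent.LsF.ffd1303_8.2, Cfsg.Agent.LsF.ffd1303_10.2, Cfsg.Agent.LsF.ffd1303_11.2, Cfsg.Agent.LsF.ffd1303_12.2, Cfsg.Agent.LsF.ffd1303_13.2, Cfsg.Agent.LsF.ffd1303_15.2, Cfsg.Agent.LsF.ffd1303_16.2, Cfsg.Agent.LsF.ffd1303_17.2, Cfsg.Agent.LsF.ffd1303_18.2, Cfsg.Agent.LsF.ffd1303_19.2, Cfsg.Agent.LsF.ffd1303_20.2, Cfsg.Agent.LsF.ffd1303_21.2, Cfsg.Agent.LsF.ffd1303_22.2,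 Cfsg.Agent.LsF.ffd1303_23.2, Cfsg.Agent.LsF.ffd1303_24.2, Cfsg.Agent.LsF.nmod_pat, Cfsg.Agent.LsF.nbeq_pat, Cfsg.Agent.LsF.map_eq, Cfsg.Agent.LsF.flatten_eq, Cfsg.Agent.LsF.filter_eq]; exact rfl) | exact rfl⟩
private noncomputable def _root_.Cfsg.Agent.LsF.ffd1303_26 : {f // @Cfsg.Agent.OrdDiv.instDecidableEqGrp.decEq = f} := ⟨_, by first | (delta Cfsg.Agent.OrdDiv.instDecidableEqGrp.decEq; rewrite [Cfsg.Agent.LsF.instDecEq_eq, Cfsg.Agent.LsF.dite_eq]; (try delta Cfsg.Agent.OrdDiv.instDecidableEqGrp.decEq.match_1); (try delta Decidable.casesOn); exact rfl) | exact rfl⟩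
private noncomputable def _root_.Cfsg.Agent.LsF.ffd1303_27 : {f // @Cfsg.Agent.OrdDiv.instDecidableEqGrp = f} := ⟨_, by first | (delta Cfsg.Agent.OrdDiv.instDecidableEqGrp; rewrite [Cfsg.Agent.LsF.ffd1303_26.2]; exact rfl) | exact rfl⟩
private noncomputable def _root_.Cfsg.Agent.LsF.ffd1303_28 : {f // @Cfsg.Agent.OrdDiv.ordN = f} := ⟨_, by first | (delta Cfsg.Agent.OrdDiv.ordN Option.map; rewrite [Cfsg.Agent.LsF.ffd1303_1.2, Cfsg.Agent.LsF.ffd1303_6.2, Cfsg.Agent.LsF.ffd1303_8.2, Cfsg.Agent.LsF.ffd1303_10.2, Cfsg.Agent.LsF.ffd1303_11.2, Cfsg.Agent.LsF.ffd1303_12.2, Cfsg.Agent.LsF.ffd1303_13.2, Cfsg.Agent.LsF.ffd1303_15.2, Cfsg.Agent.LsF.ffd1303_16.2, Cfsg.Agent.LsF.ffd1303_17.2, Cfsg.Agent.LsF.ffd1303_18.2, Cfsg.Agent.LsF.ffd1303_19.2, Cfsg.Agent.LsF.ffd1303_20.2, Cfsg.Agent.LsF.ffd1303_21.2, Cfsg.Agent.LsF.ffd1303_22.2, Cfsg.Agent.LsF.ffd1303_23.2, Cfsg.Agent.LsF.ffd1303_24.2, Cfsg.Agent.LsF.ffd1303_27.2, Cfsg.Agent.LsF.ndiv_pat, Cfsg.Agent.LsF.find?_eq,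 Cfsg.Agent.LsF.ogetD_eq, Cfsg.Agent.LsF.decide_eq]; (try delta Cfsg.Agent.OrdDiv.ordN.match_1); (try delta Cfsg.Agent.OrdDiv.ordN._sparseCasesOn_1); (try delta Option.getD.match_1); (try delta Option.casesOn); exact rfl) | exact rfl⟩
private noncomputable def _root_.Cfsg.Agent.LsF.ffd1303_29 : {f // @Cfsg.Agent.H370.AAM.lieB = f} := ⟨_, by first | (delta Cfsg.Agent.H370.AAM.lieB; rewrite [Cfsg.Agent.LsF.npow_pat, Cfsg.Agent.LsF.nbeq_pat, Cfsg.Agent.LsF.and_eq, Cfsg.Agent.LsF.or_eq]; (try delta Cfsg.Agent.H370.AAM.lieB.match_1); (try delta Cfsg.Agent.H370.AAM.lieB._sparseCasesOn_1); exact rfl) | exact rfl⟩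
private noncomputable def _root_.Cfsg.Agent.LsF.ffd1303_30 : {f // @Cfsg.Agent.H370.AAM.vl = f} := ⟨_, by first | (delta Cfsg.Agent.H370.AAM.vl; rewrite [Cfsg.Agent.LsF.nadd_pat, Cfsg.Agent.LsF.nmod_pat, Cfsg.Agent.LsF.npow_pat, Cfsg.Agent.LsF.nbeq_pat, Cfsg.Agent.LsF.range_eq, Cfsg.Agent.LsF.countP_eq]; exact rfl) | exact rfl⟩
private noncomputable def _root_.Cfsg.Agent.LsF.ffd1303_31 : {f // @Cfsg.Agent.H370.AAM.bad = f} := ⟨_, by first | (delta Cfsg.Agent.H370.AAM.bad; rewrite [Cfsg.Agent.LsF.ffd1303_30.2, Cfsg.Agent.LsF.nadd_pat, Cfsg.Agent.LsF.nmul_pat, Cfsg.Agent.LsF.nsub_pat, Cfsg.Agent.LsF.ndiv_pat, Cfsg.Agent.LsF.nmod_pat, Cfsg.Agent.LsF.npow_pat, Cfsg.Agent.LsF.nbne_pat, Cfsg.Agent.LsF.or_eq, Cfsg.Agent.LsF.log2_eq]; exact rfl) | exact rfl⟩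
private noncomputable def _root_.Cfsg.Agent.LsF.ffd1303_32 : {f // @Cfsg.Agent.H370.AAM.chkS = f} := ⟨_, by first | (delta Cfsg.Agent.H370.AAM.chkS; rewrite [Cfsg.Agent.LsF.ffd1303_0.2, Cfsg.Agent.LsF.ffd1303_25.2, Cfsg.Agent.LsF.ffd1303_28.2, Cfsg.Agent.LsF.ffd1303_29.2, Cfsg.Agent.LsF.ffd1303_31.2, Cfsg.Agent.LsF.nbeq_pat, Cfsg.Agent.LsF.and_eq, Cfsg.Agent.LsF.or_eq, Cfsg.Agent.LsF.not_eq, Cfsg.Agent.LsF.all_eq]; exact rfl) | exact rfl⟩
theorem sL423 (hM : Art.Real (.L 4) 2 3 M) (ho : orderOf (((2 ^ 3 : ℕ)) : ZMod s) = 3)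
    (hδ : 2 ^ δ ∣ Nat.card (Cfsg.Out S)) (hP : (Nat.card S).factorization 2 + δ = 3 * Art.NN (.L 4))
    (hsS : s ∣ Nat.card S) (hsδ : 2 ^ δ ∣ s ^ (Nat.card S).factorization s - 1) :
    Nat.card S = M := by
  obtain rfl : M = 34558531338240 := card_of hM (by decide +kernel)
  rcases of_chkS hk hna (w := false) (u := false) (q := 2 ^ 3) (k := 3)
    (l := [(2, 18), (3, 4), (5, 1), (7, 3), (13, 1), (73, 1)]) (P := 18)
    (by decide +kernel) (by norm_num) hd hM.hp hs hδ hP hsS hsδ (okB_L (by norm_num) (by norm_num) ho)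
    (by ((try (rewrite [Cfsg.Agent.LsF.ffd1303_32.2, Cfsg.Agent.LsF.npow_pat])); decide +kernel)) with h | h
  · exact absurd h.1 (by decide)
  · exact h

theorem sL424 (hM : Art.Real (.L 4) 2 4 M) (ho : orderOf (((2 ^ 4 : ℕ)) : ZMod s) = 3)
    (hδ : 2 ^ δ ∣ Nat.card (Cfsg.Out S)) (hP : (Nat.card S).factorization 2 + δ = 4 * Art.NN (.L 4))
    (hsS : s ∣ Nat.card S) (hsδ : 2 ^ δ ∣ s ^ (Nat.card S).factorization s - 1) :
    IsLieTypeChar 2 S ∨ Nat.card S = M := by
  obtain rfl : M = 1148120010326016000 := card_of hM (by decide +kernel)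
  rcases of_chkS hk hna (w := true) (u := false) (q := 2 ^ 4) (k := 3)
    (l := [(2, 24), (3, 4), (5, 3), (7, 1), (13, 1), (17, 2), (257, 1)]) (P := 24)
    (by decide +kernel) (by norm_num) hd hM.hp hs hδ hP hsS hsδ (okB_L (by norm_num) (by norm_num) ho)
    (by ((try (rewrite [Cfsg.Agent.LsF.ffd1303_32.2, Cfsg.Agent.LsF.npow_pat])); decide +kernel)) with h | h
  · exact Or.inl h.2
  · exact Or.inr h

theorem sL521 (hM : Art.Real (.L 5) 2 1 M) (ho : orderOf (((2 ^ 1 : ℕ)) : ZMod s) = 4)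
    (hδ : 2 ^ δ ∣ Nat.card (Cfsg.Out S)) (hP : (Nat.card S).factorization 2 + δ = 1 * Art.NN (.L 5))
    (hsS : s ∣ Nat.card S) (hsδ : 2 ^ δ ∣ s ^ (Nat.card S).factorization s - 1) :
    Nat.card S = M := by
  obtain rfl : M = 9999360 := card_of hM (by decide +kernel)
  rcases of_chkS hk hna (w := false) (u := false) (q := 2 ^ 1) (k := 4)
    (l := [(2, 10), (3, 2), (5, 1), (7, 1), (31, 1)]) (P := 10)
    (by decide +kernel) (by norm_num) hd hM.hp hs hδ hP hsS hsδ (okB_L (by norm_num) (by norm_num) ho)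
    (by decide +kernel) with h | h
  · exact absurd h.1 (by decide)
  · exact h

theorem sL522 (hM : Art.Real (.L 5) 2 2 M) (ho : orderOf (((2 ^ 2 : ℕ)) : ZMod s) = 4)
    (hδ : 2 ^ δ ∣ Nat.card (Cfsg.Out S)) (hP : (Nat.card S).factorization 2 + δ = 2 * Art.NN (.L 5))
    (hsS : s ∣ Nat.card S) (hsδ : 2 ^ δ ∣ s ^ (Nat.card S).factorization s - 1) :
    IsLieTypeChar 2 S ∨ Nat.card S = M := by
  obtain rfl : M = 258492255436800 := card_of hM (by decide +kernel)
  rcases of_chkS hk hna (w := true) (u := false) (q := 2 ^ 2) (k := 4)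
    (l := [(2, 20), (3, 5), (5, 2), (7, 1), (11, 1), (17, 1), (31, 1)]) (P := 20)
    (by decide +kernel) (by norm_num) hd hM.hp hs hδ hP hsS hsδ (okB_L (by norm_num) (by norm_num) ho)
    (by decide +kernel) with h | h
  · exact Or.inl h.2
  · exact Or.inr h

theorem sL621 (hM : Art.Real (.L 6) 2 1 M) (ho : orderOf (((2 ^ 1 : ℕ)) : ZMod s) = 5)
    (hδ : 2 ^ δ ∣ Nat.card (Cfsg.Out S)) (hP : (Nat.card S).factorization 2 + δ = 1 * Art.NN (.L 6))
    (hsS : s ∣ Nat.card S) (hsδ : 2 ^ δ ∣ s ^ (Nat.card S).factorization s - 1) :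
    Nat.card S = M := by
  obtain rfl : M = 20158709760 := card_of hM (by decide +kernel)
  rcases of_chkS hk hna (w := false) (u := false) (q := 2 ^ 1) (k := 5)
    (l := [(2, 15), (3, 4), (5, 1), (7, 2), (31, 1)]) (P := 15)
    (by decide +kernel) (by norm_num) hd hM.hp hs hδ hP hsS hsδ (okB_L (by norm_num) (by norm_num) ho)
    (by decide +kernel) with h | h
  · exact absurd h.1 (by decide)
  · exact h

theorem sL431 (hM : Art.Real (.L 4) 3 1 M) (ho : orderOf (((3 ^ 1 : ℕ)) : ZMod s) = 3)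
    (hδ : 3 ^ δ ∣ Nat.card (Cfsg.Out S)) (hP : (Nat.card S).factorization 3 + δ = 1 * Art.NN (.L 4))
    (hsS : s ∣ Nat.card S) (hsδ : 3 ^ δ ∣ s ^ (Nat.card S).factorization s - 1) :
    Nat.card S = M := by
  obtain rfl : M = 6065280 := card_of hM (by decide +kernel)
  rcases of_chkS hk hna (w := false) (u := false) (q := 3 ^ 1) (k := 3)
    (l := [(2, 7), (3, 6), (5, 1), (13, 1)]) (P := 6)
    (by decide +kernel) (by norm_num) hd hM.hp hs hδ hP hsS hsδ (okB_L (by norm_num) (by norm_num) ho)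
    (by decide +kernel) with h | h
  · exact absurd h.1 (by decide)
  · exact h

theorem sL432 (hM : Art.Real (.L 4) 3 2 M) (ho : orderOf (((3 ^ 2 : ℕ)) : ZMod s) = 3)
    (hδ : 3 ^ δ ∣ Nat.card (Cfsg.Out S)) (hP : (Nat.card S).factorization 3 + δ = 2 * Art.NN (.L 4))
    (hsS : s ∣ Nat.card S) (hsδ : 3 ^ δ ∣ s ^ (Nat.card S).factorization s - 1) :
    IsLieTypeChar 3 S ∨ Nat.card S = M := by
  obtain rfl : M = 50759843097600 := card_of hM (by decide +kernel)
  rcases of_chkS hk hna (w := true) (u := false) (q := 3 ^ 2) (k := 3)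
    (l := [(2, 10), (3, 12), (5, 2), (7, 1), (13, 1), (41, 1)]) (P := 12)
    (by decide +kernel) (by norm_num) hd hM.hp hs hδ hP hsS hsδ (okB_L (by norm_num) (by norm_num) ho)
    (by ((try (rewrite [Cfsg.Agent.LsF.ffd1303_32.2, Cfsg.Agent.LsF.npow_pat])); decide +kernel)) with h | h
  · exact Or.inl h.2
  · exact Or.inr h

theorem sL531 (hM : Art.Real (.L 5) 3 1 M) (ho : orderOf (((3 ^ 1 : ℕ)) : ZMod s) = 4)
    (hδ : 3 ^ δ ∣ Nat.card (Cfsg.Out S)) (hP : (Nat.card S).factorization 3 + δ = 1 * Art.NN (.L 5))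
    (hsS : s ∣ Nat.card S) (hsδ : 3 ^ δ ∣ s ^ (Nat.card S).factorization s - 1) :
    Nat.card S = M := by
  obtain rfl : M = 237783237120 := card_of hM (by decide +kernel)
  rcases of_chkS hk hna (w := false) (u := false) (q := 3 ^ 1) (k := 4)
    (l := [(2, 9), (3, 10), (5, 1), (11, 2), (13, 1)]) (P := 10)
    (by decide +kernel) (by norm_num) hd hM.hp hs hδ hP hsS hsδ (okB_L (by norm_num) (by norm_num) ho)
    (by ((try (rewrite [Cfsg.Agent.LsF.ffd1303_32.2, Cfsg.Agent.LsF.npow_pat])); decide +kernel)) with h | h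
  · exact absurd h.1 (by decide)
  · exact h

theorem sL451 (hM : Art.Real (.L 4) 5 1 M) (ho : orderOf (((5 ^ 1 : ℕ)) : ZMod s) = 3)
    (hδ : 5 ^ δ ∣ Nat.card (Cfsg.Out S)) (hP : (Nat.card S).factorization 5 + δ = 1 * Art.NN (.L 4))
    (hsS : s ∣ Nat.card S) (hsδ : 5 ^ δ ∣ s ^ (Nat.card S).factorization s - 1) :
    Nat.card S = M := by
  obtain rfl : M = 7254000000 := card_of hM (by decide +kernel)
  rcases of_chkS hk hna (w := false) (u := false) (q := 5 ^ 1) (k := 3)
    (l := [(2, 7), (3, 2), (5, 6), (13, 1), (31, 1)]) (P := 6)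
    (by decide +kernel) (by norm_num) hd hM.hp hs hδ hP hsS hsδ (okB_L (by norm_num) (by norm_num) ho)
    (by decide +kernel) with h | h
  · exact absurd h.1 (by decide)
  · exact h

theorem sL452 (hM : Art.Real (.L 4) 5 2 M) (ho : orderOf (((5 ^ 2 : ℕ)) : ZMod s) = 3)
    (hδ : 5 ^ δ ∣ Nat.card (Cfsg.Out S)) (hP : (Nat.card S).factorization 5 + δ = 2 * Art.NN (.L 4))
    (hsS : s ∣ Nat.card S) (hsδ : 5 ^ δ ∣ s ^ (Nat.card S).factorization s - 1) :
    IsLieTypeChar 5 S ∨ Nat.card S = M := by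
  obtain rfl : M = 232442642250000000000 := card_of hM (by decide +kernel)
  rcases of_chkS hk hna (w := true) (u := false) (q := 5 ^ 2) (k := 3)
    (l := [(2, 10), (3, 4), (5, 12), (7, 1), (13, 2), (31, 1), (313, 1)]) (P := 12)
    (by decide +kernel) (by norm_num) hd hM.hp hs hδ hP hsS hsδ (okB_L (by norm_num) (by norm_num) ho)
    (by ((try (rewrite [Cfsg.Agent.LsF.ffd1303_32.2, Cfsg.Agent.LsF.npow_pat])); decide +kernel)) with h | h
  · exact Or.inl h.2
  · exact Or.inr h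

theorem sL471 (hM : Art.Real (.L 4) 7 1 M) (ho : orderOf (((7 ^ 1 : ℕ)) : ZMod s) = 3)
    (hδ : 7 ^ δ ∣ Nat.card (Cfsg.Out S)) (hP : (Nat.card S).factorization 7 + δ = 1 * Art.NN (.L 4))
    (hsS : s ∣ Nat.card S) (hsδ : 7 ^ δ ∣ s ^ (Nat.card S).factorization s - 1) :
    Nat.card S = M := by
  obtain rfl : M = 2317591180800 := card_of hM (by decide +kernel)
  rcases of_chkS hk hna (w := false) (u := false) (q := 7 ^ 1) (k := 3)
    (l := [(2, 9), (3, 4), (5, 2), (7, 6), (19, 1)]) (P := 6)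
    (by decide +kernel) (by norm_num) hd hM.hp hs hδ hP hsS hsδ (okB_L (by norm_num) (by norm_num) ho)
    (by decide +kernel) with h | h
  · exact absurd h.1 (by decide)
  · exact h

theorem sU422 (hM : Art.Real (.U 4) 2 2 M) (ho : orderOf (-((2 ^ 2 : ℕ) : ZMod s)) = 3)
    (hδ : 2 ^ δ ∣ Nat.card (Cfsg.Out S)) (hP : (Nat.card S).factorization 2 + δ = 2 * Art.NN (.U 4))
    (hsS : s ∣ Nat.card S) (hsδ : 2 ^ δ ∣ s ^ (Nat.card S).factorization s - 1) :
    Nat.card S = M := by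
  obtain rfl : M = 1018368000 := card_of hM (by decide +kernel)
  rcases of_chkS hk hna (w := false) (u := true) (q := 2 ^ 2) (k := 3)
    (l := [(2, 12), (3, 2), (5, 3), (13, 1), (17, 1)]) (P := 12)
    (by decide +kernel) (by norm_num) hd hM.hp hs hδ hP hsS hsδ (okB_U (by norm_num) (by norm_num) ho)
    (by ((try (rewrite [Cfsg.Agent.LsF.ffd1303_32.2, Cfsg.Agent.LsF.npow_pat])); decide +kernel)) with h | h
  · exact absurd h.1 (by decide)
  · exact h

theorem sU423 (hM : Art.Real (.U 4) 2 3 M) (ho : orderOf (-((2 ^ 3 : ℕ) : ZMod s)) = 3)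
    (hδ : 2 ^ δ ∣ Nat.card (Cfsg.Out S)) (hP : (Nat.card S).factorization 2 + δ = 3 * Art.NN (.U 4))
    (hsS : s ∣ Nat.card S) (hsδ : 2 ^ δ ∣ s ^ (Nat.card S).factorization s - 1) :
    Nat.card S = M := by
  obtain rfl : M = 34693789777920 := card_of hM (by decide +kernel)
  rcases of_chkS hk hna (w := false) (u := true) (q := 2 ^ 3) (k := 3)
    (l := [(2, 18), (3, 7), (5, 1), (7, 2), (13, 1), (19, 1)]) (P := 18)
    (by decide +kernel) (by norm_num) hd hM.hp hs hδ hP hsS hsδ (okB_U (by norm_num) (by norm_num) ho)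
    (by ((try (rewrite [Cfsg.Agent.LsF.ffd1303_32.2, Cfsg.Agent.LsF.npow_pat])); decide +kernel)) with h | h
  · exact absurd h.1 (by decide)
  · exact h

theorem sU424 (hM : Art.Real (.U 4) 2 4 M) (ho : orderOf (-((2 ^ 4 : ℕ) : ZMod s)) = 3)
    (hδ : 2 ^ δ ∣ Nat.card (Cfsg.Out S)) (hP : (Nat.card S).factorization 2 + δ = 4 * Art.NN (.U 4))
    (hsS : s ∣ Nat.card S) (hsδ : 2 ^ δ ∣ s ^ (Nat.card S).factorization s - 1) :
    Nat.card S = M := by
  obtain rfl : M = 1148680752699801600 := card_of hM (by decide +kernel)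
  rcases of_chkS hk hna (w := false) (u := true) (q := 2 ^ 4) (k := 3)
    (l := [(2, 24), (3, 2), (5, 2), (17, 3), (241, 1), (257, 1)]) (P := 24)
    (by decide +kernel) (by norm_num) hd hM.hp hs hδ hP hsS hsδ (okB_U (by norm_num) (by norm_num) ho)
    (by decide +kernel) with h | h
  · exact absurd h.1 (by decide)
  · exact h

theorem sU521 (hM : Art.Real (.U 5) 2 1 M) (ho : orderOf (-((2 ^ 1 : ℕ) : ZMod s)) = 4)
    (hδ : 2 ^ δ ∣ Nat.card (Cfsg.Out S)) (hP : (Nat.card S).factorization 2 + δ = 1 * Art.NN (.U 5))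
    (hsS : s ∣ Nat.card S) (hsδ : 2 ^ δ ∣ s ^ (Nat.card S).factorization s - 1) :
    Nat.card S = M := by
  obtain rfl : M = 13685760 := card_of hM (by decide +kernel)
  rcases of_chkS hk hna (w := false) (u := true) (q := 2 ^ 1) (k := 4)
    (l := [(2, 10), (3, 5), (5, 1), (11, 1)]) (P := 10)
    (by decide +kernel) (by norm_num) hd hM.hp hs hδ hP hsS hsδ (okB_U (by norm_num) (by norm_num) ho)
    (by ((try (rewrite [Cfsg.Agent.LsF.ffd1303_32.2, Cfsg.Agent.LsF.npow_pat])); decide +kernel)) with h | h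
  · exact absurd h.1 (by decide)
  · exact h

theorem sU522 (hM : Art.Real (.U 5) 2 2 M) (ho : orderOf (-((2 ^ 2 : ℕ) : ZMod s)) = 4)
    (hδ : 2 ^ δ ∣ Nat.card (Cfsg.Out S)) (hP : (Nat.card S).factorization 2 + δ = 2 * Art.NN (.U 5))
    (hsS : s ∣ Nat.card S) (hsδ : 2 ^ δ ∣ s ^ (Nat.card S).factorization s - 1) :
    Nat.card S = M := by
  obtain rfl : M = 53443952640000 := card_of hM (by decide +kernel)
  rcases of_chkS hk hna (w := false) (u := true) (q := 2 ^ 2) (k := 4)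
    (l := [(2, 20), (3, 2), (5, 4), (13, 1), (17, 1), (41, 1)]) (P := 20)
    (by decide +kernel) (by norm_num) hd hM.hp hs hδ hP hsS hsδ (okB_U (by norm_num) (by norm_num) ho)
    (by decide +kernel) with h | h
  · exact absurd h.1 (by decide)
  · exact h

theorem sU621 (hM : Art.Real (.U 6) 2 1 M) (ho : orderOf (-((2 ^ 1 : ℕ) : ZMod s)) = 5)
    (hδ : 2 ^ δ ∣ Nat.card (Cfsg.Out S)) (hP : (Nat.card S).factorization 2 + δ = 1 * Art.NN (.U 6))
    (hsS : s ∣ Nat.card S) (hsδ : 2 ^ δ ∣ s ^ (Nat.card S).factorization s - 1) :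
    Nat.card S = M := by
  obtain rfl : M = 9196830720 := card_of hM (by decide +kernel)
  rcases of_chkS hk hna (w := false) (u := true) (q := 2 ^ 1) (k := 5)
    (l := [(2, 15), (3, 6), (5, 1), (7, 1), (11, 1)]) (P := 15)
    (by decide +kernel) (by norm_num) hd hM.hp hs hδ hP hsS hsδ (okB_U (by norm_num) (by norm_num) ho)
    (by decide +kernel) with h | h
  · exact absurd h.1 (by decide)
  · exact h

theorem sU431 (hM : Art.Real (.U 4) 3 1 M) (ho : orderOf (-((3 ^ 1 : ℕ) : ZMod s)) = 3)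
    (hδ : 3 ^ δ ∣ Nat.card (Cfsg.Out S)) (hP : (Nat.card S).factorization 3 + δ = 1 * Art.NN (.U 4))
    (hsS : s ∣ Nat.card S) (hsδ : 3 ^ δ ∣ s ^ (Nat.card S).factorization s - 1) :
    Nat.card S = M := by
  obtain rfl : M = 3265920 := card_of hM (by decide +kernel)
  rcases of_chkS hk hna (w := false) (u := true) (q := 3 ^ 1) (k := 3)
    (l := [(2, 7), (3, 6), (5, 1), (7, 1)]) (P := 6)
    (by decide +kernel) (by norm_num) hd hM.hp hs hδ hP hsS hsδ (okB_U (by norm_num) (by norm_num) ho)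
    (by decide +kernel) with h | h
  · exact absurd h.1 (by decide)
  · exact h

theorem sU432 (hM : Art.Real (.U 4) 3 2 M) (ho : orderOf (-((3 ^ 2 : ℕ) : ZMod s)) = 3)
    (hδ : 3 ^ δ ∣ Nat.card (Cfsg.Out S)) (hP : (Nat.card S).factorization 3 + δ = 2 * Art.NN (.U 4))
    (hsS : s ∣ Nat.card S) (hsδ : 3 ^ δ ∣ s ^ (Nat.card S).factorization s - 1) :
    Nat.card S = M := by
  obtain rfl : M = 101798586432000 := card_of hM (by decide +kernel)
  rcases of_chkS hk hna (w := false) (u := true) (q := 3 ^ 2) (k := 3)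
    (l := [(2, 9), (3, 12), (5, 3), (41, 1), (73, 1)]) (P := 12)
    (by decide +kernel) (by norm_num) hd hM.hp hs hδ hP hsS hsδ (okB_U (by norm_num) (by norm_num) ho)
    (by decide +kernel) with h | h
  · exact absurd h.1 (by decide)
  · exact h

theorem sU531 (hM : Art.Real (.U 5) 3 1 M) (ho : orderOf (-((3 ^ 1 : ℕ) : ZMod s)) = 4)
    (hδ : 3 ^ δ ∣ Nat.card (Cfsg.Out S)) (hP : (Nat.card S).factorization 3 + δ = 1 * Art.NN (.U 5))
    (hsS : s ∣ Nat.card S) (hsδ : 3 ^ δ ∣ s ^ (Nat.card S).factorization s - 1) :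
    Nat.card S = M := by
  obtain rfl : M = 258190571520 := card_of hM (by decide +kernel)
  rcases of_chkS hk hna (w := false) (u := true) (q := 3 ^ 1) (k := 4)
    (l := [(2, 11), (3, 10), (5, 1), (7, 1), (61, 1)]) (P := 10)
    (by decide +kernel) (by norm_num) hd hM.hp hs hδ hP hsS hsδ (okB_U (by norm_num) (by norm_num) ho)
    (by ((try (rewrite [Cfsg.Agent.LsF.ffd1303_32.2, Cfsg.Agent.LsF.npow_pat])); decide +kernel)) with h | h
  · exact absurd h.1 (by decide)
  · exact h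

theorem sU451 (hM : Art.Real (.U 4) 5 1 M) (ho : orderOf (-((5 ^ 1 : ℕ) : ZMod s)) = 3)
    (hδ : 5 ^ δ ∣ Nat.card (Cfsg.Out S)) (hP : (Nat.card S).factorization 5 + δ = 1 * Art.NN (.U 4))
    (hsS : s ∣ Nat.card S) (hsδ : 5 ^ δ ∣ s ^ (Nat.card S).factorization s - 1) :
    Nat.card S = M := by
  obtain rfl : M = 14742000000 := card_of hM (by decide +kernel)
  rcases of_chkS hk hna (w := false) (u := true) (q := 5 ^ 1) (k := 3)
    (l := [(2, 7), (3, 4), (5, 6), (7, 1), (13, 1)]) (P := 6)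
    (by decide +kernel) (by norm_num) hd hM.hp hs hδ hP hsS hsδ (okB_U (by norm_num) (by norm_num) ho)
    (by ((try (rewrite [Cfsg.Agent.LsF.ffd1303_32.2, Cfsg.Agent.LsF.npow_pat])); decide +kernel)) with h | h
  · exact absurd h.1 (by decide)
  · exact h

theorem sU452 (hM : Art.Real (.U 4) 5 2 M) (ho : orderOf (-((5 ^ 2 : ℕ) : ZMod s)) = 3)
    (hδ : 5 ^ δ ∣ Nat.card (Cfsg.Out S)) (hP : (Nat.card S).factorization 5 + δ = 2 * Art.NN (.U 4))
    (hsS : s ∣ Nat.card S) (hsδ : 5 ^ δ ∣ s ^ (Nat.card S).factorization s - 1) :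
    Nat.card S = M := by
  obtain rfl : M = 464944793625000000000 := card_of hM (by decide +kernel)
  rcases of_chkS hk hna (w := false) (u := true) (q := 5 ^ 2) (k := 3)
    (l := [(2, 9), (3, 2), (5, 12), (13, 3), (313, 1), (601, 1)]) (P := 12)
    (by decide +kernel) (by norm_num) hd hM.hp hs hδ hP hsS hsδ (okB_U (by norm_num) (by norm_num) ho)
    (by decide +kernel) with h | h
  · exact absurd h.1 (by decide)
  · exact h

theorem sU471 (hM : Art.Real (.U 4) 7 1 M) (ho : orderOf (-((7 ^ 1 : ℕ) : ZMod s)) = 3)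
    (hδ : 7 ^ δ ∣ Nat.card (Cfsg.Out S)) (hP : (Nat.card S).factorization 7 + δ = 1 * Art.NN (.U 4))
    (hsS : s ∣ Nat.card S) (hsδ : 7 ^ δ ∣ s ^ (Nat.card S).factorization s - 1) :
    Nat.card S = M := by
  obtain rfl : M = 1165572172800 := card_of hM (by decide +kernel)
  rcases of_chkS hk hna (w := false) (u := true) (q := 7 ^ 1) (k := 3)
    (l := [(2, 10), (3, 2), (5, 2), (7, 6), (43, 1)]) (P := 6)
    (by decide +kernel) (by norm_num) hd hM.hp hs hδ hP hsS hsδ (okB_U (by norm_num) (by norm_num) ho)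
    (by decide +kernel) with h | h
  · exact absurd h.1 (by decide)
  · exact h

/-- **Elimination of the simple groups not of Lie type in characteristic `p`, type `L n`, `n ≥ 4`.** -/
theorem elimL' {p f n : ℕ} (hY : Art.Real (.L n) p f M) (hn : 4 ≤ n) (ho : orderOf (((p ^ f : ℕ)) : ZMod s) = n - 1)
    (hδ : p ^ δ ∣ Nat.card (Cfsg.Out S)) (hle : Nat.card S * p ^ δ ≤ M)
    (hP : (Nat.card S).factorization p + δ = f * Art.NN (.L n))
    (hsS : s ∣ Nat.card S) (hsδ : p ^ δ ∣ s ^ (Nat.card S).factorization s - 1) :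
    IsLieTypeChar p S ∨ Nat.card S = M := by
  rcases elimL hk hna hδ hle hY hn hP with h | h
  · exact Or.inl h
  have hf := hY.hf
  rcases h with ⟨rfl, rfl, h⟩ | ⟨rfl, rfl, h⟩ | ⟨rfl, rfl, rfl⟩ | ⟨rfl, rfl, h⟩ | ⟨rfl, rfl, rfl⟩ | ⟨rfl, rfl, h⟩ |
    ⟨rfl, rfl, rfl⟩
  · interval_cases f
    · exact Or.inr (sL421 hk hna hd hs hY ho hδ hP hsS hsδ)
    · exact sL422 hk hna hd hs hY ho hδ hP hsS hsδ
    · exact Or.inr (sL423 hk hna hd hs hY ho hδ hP hsS hsδ)
    · exact sL424 hk hna hd hs hY ho hδ hP hsS hsδ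
  · interval_cases f
    · exact Or.inr (sL521 hk hna hd hs hY ho hδ hP hsS hsδ)
    · exact sL522 hk hna hd hs hY ho hδ hP hsS hsδ
  · exact Or.inr (sL621 hk hna hd hs hY ho hδ hP hsS hsδ)
  · interval_cases f
    · exact Or.inr (sL431 hk hna hd hs hY ho hδ hP hsS hsδ)
    · exact sL432 hk hna hd hs hY ho hδ hP hsS hsδ
  · exact Or.inr (sL531 hk hna hd hs hY ho hδ hP hsS hsδ)
  · interval_cases f
    · exact Or.inr (sL451 hk hna hd hs hY ho hδ hP hsS hsδ)
    · exact sL452 hk hna hd hs hY ho hδ hP hsS hsδ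
  · exact Or.inr (sL471 hk hna hd hs hY ho hδ hP hsS hsδ)

/-- **Elimination of the simple groups not of Lie type in characteristic `p`, type `U n`, `n ≥ 4`.** -/
theorem elimU' {p f n : ℕ} (hY : Art.Real (.U n) p f M) (hn : 4 ≤ n) (ho : orderOf (-((p ^ f : ℕ) : ZMod s)) = n - 1)
    (h42 : ¬ (n = 4 ∧ p = 2 ∧ f = 1))
    (hδ : p ^ δ ∣ Nat.card (Cfsg.Out S)) (hle : Nat.card S * p ^ δ ≤ M)
    (hP : (Nat.card S).factorization p + δ = f * Art.NN (.U n))
    (hsS : s ∣ Nat.card S) (hsδ : p ^ δ ∣ s ^ (Nat.card S).factorization s - 1) :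
    IsLieTypeChar p S ∨ Nat.card S = M := by
  rcases elimU hk hna hδ hle hY hn hP with h | h
  · exact Or.inl h
  have hf := hY.hf
  rcases h with ⟨rfl, rfl, h⟩ | ⟨rfl, rfl, h⟩ | ⟨rfl, rfl, rfl⟩ | ⟨rfl, rfl, h⟩ | ⟨rfl, rfl, rfl⟩ | ⟨rfl, rfl, h⟩ |
    ⟨rfl, rfl, rfl⟩
  · interval_cases f
    · exact absurd ⟨rfl, rfl, rfl⟩ h42
    · exact Or.inr (sU422 hk hna hd hs hY ho hδ hP hsS hsδ)
    · exact Or.inr (sU423 hk hna hd hs hY ho hδ hP hsS hsδ)
    · exact Or.inr (sU424 hk hna hd hs hY ho hδ hP hsS hsδ)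
  · interval_cases f
    · exact Or.inr (sU521 hk hna hd hs hY ho hδ hP hsS hsδ)
    · exact Or.inr (sU522 hk hna hd hs hY ho hδ hP hsS hsδ)
  · exact Or.inr (sU621 hk hna hd hs hY ho hδ hP hsS hsδ)
  · interval_cases f
    · exact Or.inr (sU431 hk hna hd hs hY ho hδ hP hsS hsδ)
    · exact Or.inr (sU432 hk hna hd hs hY ho hδ hP hsS hsδ)
  · exact Or.inr (sU531 hk hna hd hs hY ho hδ hP hsS hsδ)
  · interval_cases f
    · exact Or.inr (sU451 hk hna hd hs hY ho hδ hP hsS hsδ)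
    · exact Or.inr (sU452 hk hna hd hs hY ho hδ hP hsS hsδ)
  · exact Or.inr (sU471 hk hna hd hs hY ho hδ hP hsS hsδ)

end small

end Cfsg.Agent.H370.AAM
end

-- part: H370/AAM/Tail
section
/-!
# From a simple section to the conclusion, `PSL_n` and `PSU_n` (helper370)
-/

set_option autoImplicit false
set_option linter.style.haveILetI false

namespace Cfsg.Agent.H370.AAM

open Subgroup Cfsg Cfsg.Agent.OrdDiv Cfsg.Agent.H364 Cfsg.Agent.H902
open Cfsg.Agent.H364.ArithU Cfsg.Agent.H363.Frat Cfsg.Agent.H363.Master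

universe u v

/-- the largest exponent of a divisor is not larger -/
theorem le_DM' {X Y : Art.Sh} {p f g MX MY : ℕ} (hX : Art.Real X p g MX) (hY : Art.Real Y p f MY) (hdvd : MX ∣ MY)
    (h3' : 3 ≤ f * Art.DM Y) (h6 : p = 2 → 6 ≤ f * Art.DM Y) : g * Art.DM X ≤ f * Art.DM Y := by
  by_cases h3 : 3 ≤ g * Art.DM X
  · by_cases hex : p = 2 ∧ g * Art.DM X = 6
    · have := h6 hex.1
      omega
    · obtain ⟨t, ht, htp, ho⟩ := exists_ppd hX.hp h3 hex
      have h1 : t ∣ MX := hX.dvd_of_order_DM ht ho h3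
      have hYl := Art.BM_lt hY
      rcases hY.order_cases ht htp (h1.trans hdvd) with h2 | ⟨e, he1, he2, h2⟩
      · rw [ho] at h2
        exact Nat.le_of_dvd (by omega) h2
      · rw [ho] at h2
        have h4 := Nat.le_of_dvd (Nat.mul_pos (by have := hY.hf; omega) he1) h2
        exact h4.trans (Nat.mul_le_mul_left f (by omega))
  · omega

/-- a primitive prime divisor of the largest exponent does not divide an outer index -/
theorem not_dvd_index' {X Y : Art.Sh} {p f g MX MY I r : ℕ} (hX : Art.Real X p g MX) (hY : Art.Real Y p f MY)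
    (hdvd : MX ∣ MY) (h4 : 4 ≤ f * Art.DM Y) (h6 : p = 2 → 6 ≤ f * Art.DM Y) (hr : r.Prime)
    (hro : orderOf (p : ZMod r) = f * Art.DM Y) (hI : OutDat X p g I) : ¬ r ∣ I := by
  intro hrI
  have hg := hX.hf
  have hDle := le_DM' hX hY hdvd (by omega) h6
  have hge := Art.DM_ge hX
  have hr1 : f * Art.DM Y ∣ r - 1 := by
    rw [← hro]
    have := Fact.mk hr
    have hne : (p : ZMod r) ≠ 0 := by
      intro h0
      rw [h0] at hro
      have h1 : (0 : ZMod r) ^ (f * Art.DM Y) = 1 := by rw [← hro]; exact pow_orderOf_eq_one _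
      rw [zero_pow (by omega)] at h1
      exact zero_ne_one h1
    exact orderOf_dvd_of_pow_eq_one (ZMod.pow_card_sub_one_eq_one hne)
  have hr7 : f * Art.DM Y ≤ r - 1 := Nat.le_of_dvd (by have := hr.two_le; omega) hr1
  rcases hI.prime hX hr (by omega) hrI with h1 | ⟨h1, -⟩ | ⟨h1, h2⟩
  · have h3 := Nat.le_of_dvd (by omega) h1
    have h4 : g * 2 ≤ g * Art.DM X := Nat.mul_le_mul_left _ hge.1
    omega
  · rw [hro] at h1
    have h3 := Nat.le_of_dvd (by omega) h1
    have h4 : g * 2 ≤ g * Art.DM X := Nat.mul_le_mul_left _ hge.1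
    omega
  · rw [hro] at h1
    have h3 := Nat.le_of_dvd (by omega) h1
    have h4 : g * 3 ≤ g * Art.DM X := Nat.mul_le_mul_left _ (hge.2 h2)
    omega

/-- the data of a group of outer index -/
theorem outDat {H : Type u} [Group H] [Finite H] [IsSimpleGroup H] (hna : ¬ ∀ x y : H, x * y = y * x) {p : ℕ}
    (hp : p.Prime) {I : ℕ} (hout : I ∣ Nat.card (Cfsg.Out H)) (hlie : IsLieTypeChar p H) :
    ∃ X g, Art.Real X p g (Nat.card H) ∧ OutDat X p g I := by
  obtain ⟨g, X, f', hg, hreal, hX⟩ := LieNam.lie_nam table hp hlie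
  obtain ⟨c, hc1, hc2, hc3⟩ := OutLie.card_out hna hg hreal hX
  exact ⟨X, f', hX, ⟨c, by rw [← hc1]; exact hout, hc2, hc3⟩⟩

/-- **The tail of the row theorem.** `k` is the order of a section prime to `p`, `r`. -/
theorem tail {H : Type u} [Group H] [Finite H] [IsSimpleGroup H] (hna : ¬ ∀ x y : H, x * y = y * x) {Y : Art.Sh}
    {p f r k I M : ℕ} (hY : Art.Real Y p f M) (hr : r.Prime) (hro : orderOf (p : ZMod r) = f * Art.DM Y)
    (h4 : 4 ≤ f * Art.DM Y) (h6 : p = 2 → 6 ≤ f * Art.DM Y) (hpk : ¬ p ∣ k) (hrk : ¬ r ∣ k)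
    (hcard : k * (I * Nat.card H) = M) (hout : I ∣ Nat.card (Cfsg.Out H))
    (hlie : IsLieTypeChar p H ∨ Nat.card H = M) :
    Nat.card H = M ∨
      ∃ X g, Cfsg.Agent.H365.Near.Exc X Y p g f ∧ Art.Real X p g (Nat.card H) ∧ OutDat X p g I := by
  rcases hlie with hlie | hlie
  swap
  · exact Or.inl hlie
  have hp := hY.hp
  have hM0 : M ≠ 0 := hY.M_ne
  have hk0 : k ≠ 0 := by rintro rfl; rw [zero_mul] at hcard; exact hM0 hcard.symm
  have hI0 : I ≠ 0 := by rintro rfl; rw [zero_mul, mul_zero] at hcard; exact hM0 hcard.symm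
  have hH0 : Nat.card H ≠ 0 := Nat.card_pos.ne'
  obtain ⟨X, f', hX, hI⟩ := outDat hna hp hout hlie
  have hHd : Nat.card H ∣ M := by rw [← hcard]; exact (Dvd.intro_left _ rfl).trans (Dvd.intro_left _ rfl)
  set! δ := I.factorization p with hδdef
  have hδ : (Nat.card H).factorization p + δ = M.factorization p := by
    rw [← hcard, Nat.factorization_mul hk0 (Nat.mul_ne_zero hI0 hH0), Finsupp.add_apply,
      Nat.factorization_eq_zero_of_not_dvd hpk, Nat.factorization_mul hI0 hH0, Finsupp.add_apply, hδdef]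
    omega
  have hpI : p ^ δ ∣ I := Nat.ordProj_dvd _ _
  have hrG : r ∣ M := hY.dvd_of_order_DM hr hro (by omega)
  have hrH : r ∣ Nat.card H := by
    have h1 : r ∣ k * (I * Nat.card H) := by rw [hcard]; exact hrG
    exact ((hr.dvd_mul.1 ((hr.dvd_mul.1 h1).resolve_left hrk)).resolve_left
      (not_dvd_index' hX hY hHd h4 h6 hr hro hI))
  have hδ2 : f * Art.NN Y - f' * Art.NN X = δ := by
    have h1 := fac_self hX
    have h2 := fac_self hY
    omega
  obtain ⟨h24, h6'⟩ := TwoRow.OutDat.dvd hX hI hpI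
  rcases Cfsg.Agent.H365.Near.near_out hX hY hHd hr hro (by omega) hrH (by rw [hδ2]; exact h24)
      (by rw [hδ2]; exact h6') with ⟨rfl, rfl⟩ | h
  · left
    have h1 := hX.eq
    rw [← hY.eq] at h1
    exact Nat.eq_of_mul_eq_mul_left (Nat.pos_of_ne_zero hY.dd_ne) h1
  · exact Or.inr ⟨X, f', h, hX, hI⟩

/-- `PΩ⁻(2n, q₀)` is not an outer-index subgroup of a group of order `|PSL_n(q₀²)|` -/
theorem DDL_false {n p g MX MY I : ℕ} (hn : 4 ≤ n) (hX : Art.Real (.DD n) p g MX) (hY : Art.Real (.L n) p (2 * g) MY)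
    (hpar : Even n ∨ p ^ g = 3) (hMY : I * MX = MY) (hI : OutDat (.DD n) p g I) : False := by
  have hp := hX.hp
  have hg := hX.hf
  have hq := hX.q_ge
  have eX := hX.eq
  have eY := hY.eq
  set q := p ^ g with hqd
  have hq2 : p ^ (2 * g) = q ^ 2 := by rw [hqd, ← pow_mul, mul_comm]
  rw [hq2] at eY
  obtain ⟨m, rfl⟩ : ∃ m, n = m + 2 := ⟨n - 2, by omega⟩
  -- the equation `I * dL * (q ^ 2 - 1) = dDD * (q ^ n - 1)`
  have hNN : (q ^ 2) ^ Art.NN (.L (m + 2)) = q ^ Art.NN (.DD (m + 2)) := by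
    rw [← pow_mul]
    congr 1
    show 2 * ((m + 2) * (m + 2 - 1) / 2) = (m + 2) * (m + 2 - 1)
    apply Nat.two_mul_div_two_of_even
    have e1 : m + 2 - 1 = m + 1 := rfl
    rw [e1, mul_comm]
    exact Nat.even_mul_succ_self (m + 1)
  have hnumX : Art.num (.DD (m + 2)) q = (q ^ (m + 2) + 1) * ∏ i ∈ Finset.range (m + 1), (q ^ (2 * (i + 1)) - 1) := rfl
  have hnumY : Art.num (.L (m + 2)) (q ^ 2) = ∏ i ∈ Finset.range (m + 1), ((q ^ 2) ^ (i + 2) - 1) := rfl
  set! R := ∏ i ∈ Finset.range m, (q ^ (2 * (i + 2)) - 1) with hR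
  have h1 : ∏ i ∈ Finset.range (m + 1), (q ^ (2 * (i + 1)) - 1) = R * (q ^ 2 - 1) := by
    rw [Finset.prod_range_succ', hR]
  have h2 : ∏ i ∈ Finset.range (m + 1), ((q ^ 2) ^ (i + 2) - 1) = R * (q ^ (2 * (m + 2)) - 1) := by
    rw [Finset.prod_range_succ, hR]
    simp only [← pow_mul]
  have hRpos : 0 < R := by
    apply Finset.prod_pos
    intro i _
    have : q ^ 1 < q ^ (2 * (i + 2)) := Nat.pow_lt_pow_right (by omega) (by omega)
    rw [pow_one] at this
    omega
  have hsq : q ^ (2 * (m + 2)) - 1 = (q ^ (m + 2) - 1) * (q ^ (m + 2) + 1) := by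
    have : q ^ (2 * (m + 2)) = q ^ (m + 2) * q ^ (m + 2) := by rw [← pow_add]; congr 1; ring
    rw [this, mul_comm (q ^ (m + 2) - 1), ← Nat.mul_self_sub_mul_self_eq, one_mul]
  have key : Art.dd (.L (m + 2)) (q ^ 2) * I * (q ^ 2 - 1) = Art.dd (.DD (m + 2)) q * (q ^ (m + 2) - 1) := by
    have h3 : Art.dd (.L (m + 2)) (q ^ 2) * (I * MX) = q ^ Art.NN (.DD (m + 2)) * (R * ((q ^ (m + 2) - 1) * (q ^ (m + 2) + 1))) := by
      rw [hMY, eY, hNN, hnumY, h2, hsq]
    have h4 : Art.dd (.DD (m + 2)) q * MX = q ^ Art.NN (.DD (m + 2)) * ((q ^ (m + 2) + 1) * (R * (q ^ 2 - 1))) := by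
      rw [eX, hnumX, h1]
    have hpos : 0 < MX * (R * (q ^ (m + 2) + 1) * q ^ Art.NN (.DD (m + 2))) :=
      Nat.mul_pos (Nat.pos_of_ne_zero hX.M_ne) (Nat.mul_pos (Nat.mul_pos hRpos (by omega)) (pow_pos (by omega) _))
    apply Nat.eq_of_mul_eq_mul_right hpos
    calc Art.dd (.L (m + 2)) (q ^ 2) * I * (q ^ 2 - 1) * (MX * (R * (q ^ (m + 2) + 1) * q ^ Art.NN (.DD (m + 2))))
        = Art.dd (.L (m + 2)) (q ^ 2) * (I * MX) * (q ^ Art.NN (.DD (m + 2)) * ((q ^ (m + 2) + 1) * (R * (q ^ 2 - 1)))) := by ring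
      _ = q ^ Art.NN (.DD (m + 2)) * (R * ((q ^ (m + 2) - 1) * (q ^ (m + 2) + 1))) * (Art.dd (.DD (m + 2)) q * MX) := by
          rw [h3, h4]
      _ = _ := by ring
  -- the prime `t` of order `g * n`
  have fin : ∀ t : ℕ, t.Prime → 5 ≤ t → g < t → t ∣ I → False := by
    intro t ht h5 hgt htI
    rcases hI.prime hX ht h5 htI with h | ⟨-, n, h⟩ | ⟨-, n, h⟩
    · have := Nat.le_of_dvd (by omega) h
      omega
    · exact absurd h (by simp)
    · exact absurd h (by simp)
  by_cases hex : p = 2 ∧ g * (m + 2) = 6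
  · obtain ⟨rfl, h6⟩ := hex
    have h7 : g = 1 ∧ m = 4 := by
      have hd : m + 2 ∣ 6 := Dvd.intro_left _ h6
      have hle := Nat.le_of_dvd (by norm_num) hd
      have h8 : m + 2 = 4 ∨ m + 2 = 5 ∨ m + 2 = 6 := by omega
      rcases h8 with h8 | h8 | h8
      · rw [h8] at hd; norm_num at hd
      · rw [h8] at hd; norm_num at hd
      · rw [h8] at h6
        omega
    obtain ⟨rfl, rfl⟩ := h7
    have hq2' : q = 2 := by rw [hqd]; norm_num
    rw [hq2'] at key
    have e1 : Art.dd (.L (4 + 2)) (2 ^ 2) = 3 := by decide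
    have e2 : Art.dd (.DD (4 + 2)) 2 = 1 := by decide
    rw [e1, e2] at key
    norm_num at key
    have h8 : I = 7 := by omega
    exact fin 7 (by norm_num) (by norm_num) (by norm_num) (by rw [h8])
  · have h4 : 4 ≤ g * (m + 2) := hn.trans (Nat.le_mul_of_pos_left _ hg)
    obtain ⟨t, ht, htp, hto⟩ := exists_ppd (p := p) (n := g * (m + 2)) hp (by omega) hex
    have hF := Fact.mk ht
    have htm : g * (m + 2) ∣ t - 1 := by
      rw [← hto]
      have hne : (p : ZMod t) ≠ 0 := by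
        intro h0
        rw [h0] at hto
        have h1 : (0 : ZMod t) ^ (g * (m + 2)) = 1 := by rw [← hto]; exact pow_orderOf_eq_one _
        rw [zero_pow (by omega)] at h1
        exact zero_ne_one h1
      exact orderOf_dvd_of_pow_eq_one (ZMod.pow_card_sub_one_eq_one hne)
    have ht5 := Nat.le_of_dvd (by have := ht.two_le; omega) htm
    have hg4 : g * 2 ≤ g * (m + 2) := Nat.mul_le_mul_left _ (by omega)
    have htq : t ∣ q ^ (m + 2) - 1 := (Art.dvd_iff hp (m + 2)).2 (by rw [hto])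
    have htq2 : ¬ t ∣ q ^ 2 - 1 := fun h => by
      have h5 := (Art.dvd_iff hp 2).1 h
      rw [hto] at h5
      have h6 := Nat.le_of_dvd (by omega) h5
      have h7 : g * 4 ≤ g * (m + 2) := Nat.mul_le_mul_left _ (by omega)
      omega
    have htd : ¬ t ∣ Art.dd (.L (m + 2)) (q ^ 2) := fun h => htq2 (h.trans (Nat.gcd_dvd_right _ _))
    have h5 : t ∣ Art.dd (.L (m + 2)) (q ^ 2) * I * (q ^ 2 - 1) := by
      rw [key]; exact htq.mul_left _
    exact fin t ht (by omega) (by omega) (((ht.dvd_mul.1 ((ht.dvd_mul.1 h5).resolve_right htq2))).resolve_left htd)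

/-! ### the rows -/

section rows

variable {G : Type u} [Group G] [Finite G] {n p f s : ℕ} {K : Subgroup G} [K.Normal] {H : Subgroup (G ⧸ K)} [H.Normal]
  [IsSimpleGroup H] (hna : ¬ ∀ x y : H, x * y = y * x) (hout : H.index ∣ Nat.card (Cfsg.Out H))
include hna hout

/-- the data for the elimination -/
theorem elim_data (hp : p.Prime) (hs : s.Prime) (hsp : s ≠ p) (hnadj : NonAdj (G ⧸ K) s p)
    (hpK : ¬ p ∣ Nat.card K) :
    ∃ δ, p ^ δ ∣ Nat.card (Cfsg.Out H) ∧ Nat.card H * p ^ δ ≤ Nat.card G ∧ Nat.card H ∣ Nat.card G ∧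
      (Nat.card H).factorization p + δ = (Nat.card G).factorization p ∧
      (s ∣ Nat.card H → p ^ δ ∣ s ^ (Nat.card H).factorization s - 1) ∧
      Nat.card K * (H.index * Nat.card H) = Nat.card G := by
  have hK0 : Nat.card K ≠ 0 := Nat.card_pos.ne'
  have hH0 : Nat.card H ≠ 0 := Nat.card_pos.ne'
  have hI0 : H.index ≠ 0 := Subgroup.index_ne_zero_of_finite
  have hHG : Nat.card K * (H.index * Nat.card H) = Nat.card G := by
    rw [mul_comm H.index, Subgroup.card_mul_index, ← Subgroup.card_mul_index K, Subgroup.index_eq_card]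
  refine ⟨H.index.factorization p, (Nat.ordProj_dvd _ _).trans hout, ?_, ?_, ?_, ?_, hHG⟩
  · calc Nat.card H * p ^ H.index.factorization p ≤ Nat.card H * H.index :=
          Nat.mul_le_mul_left _ (Nat.le_of_dvd (Nat.pos_of_ne_zero hI0) (Nat.ordProj_dvd _ _))
      _ = H.index * Nat.card H := mul_comm _ _
      _ ≤ Nat.card K * (H.index * Nat.card H) := Nat.le_mul_of_pos_left _ (Nat.pos_of_ne_zero hK0)
      _ = Nat.card G := hHG
  · rw [← hHG]; exact (Dvd.intro_left _ rfl).trans (Dvd.intro_left _ rfl)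
  · rw [← hHG, Nat.factorization_mul hK0 (Nat.mul_ne_zero hI0 hH0), Finsupp.add_apply,
      Nat.factorization_eq_zero_of_not_dvd hpK, Nat.factorization_mul hI0 hH0, Finsupp.add_apply]
    omega
  · intro _
    exact pow_dvd_of_normal hp hs hsp.symm hnadj.symm H (Nat.ordProj_dvd _ _)

/-- **The tail for `PSL_n(q)`, `n ≥ 4`**: `G` itself is almost simple. -/
theorem rowL (hY : Art.Real (.L n) p f (Nat.card G)) (hn : 4 ≤ n) (hs : s.Prime) (hsp : s ≠ p)
    (hso : orderOf ((p ^ f : ℕ) : ZMod s) = n - 1) (hnadj : NonAdj (G ⧸ K) s p) (hsH : s ∣ Nat.card H)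
    (hK : Nat.card K = 1) : IsSimpleGroup G := by
  have hp := hY.hp
  have hf := hY.hf
  have hpK : ¬ p ∣ Nat.card K := by
    rw [hK]
    exact fun h => hp.one_lt.ne' (Nat.dvd_one.1 h)
  obtain ⟨δ, hδ, hle, hd, hv, hfs, hcard⟩ := elim_data hna hout hp hs hsp hnadj hpK
  rw [fac_self hY] at hv
  have hk := Cfsg.Agent.S0000.result (G := H)
  apply OrthRow.isSimple_of
  refine ⟨K, inferInstance, H, inferInstance, hna, ?_⟩
  have hfs' := hfs hsH
  by_cases h421 : p = 2 ∧ f * n < 6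
  · obtain ⟨rfl, h6⟩ := h421
    have h7 : f = 1 := by
      by_contra hcon
      have : 2 * 4 ≤ f * n := Nat.mul_le_mul (by omega) hn
      omega
    subst h7
    have h8 : n = 4 ∨ n = 5 := by omega
    rcases h8 with rfl | rfl
    · exact sL421 hk hna hd hs hY hso hδ hv hsH hfs'
    · exact sL521 hk hna hd hs hY hso hδ hv hsH hfs'
  by_cases h621 : p = 2 ∧ f * n = 6
  · obtain ⟨rfl, h6⟩ := h621
    have h7 : f = 1 := by
      by_contra hcon
      have : 2 * 4 ≤ f * n := Nat.mul_le_mul (by omega) hn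
      omega
    subst h7
    have h8 : n = 6 := by omega
    subst h8
    exact sL621 hk hna hd hs hY hso hδ hv hsH hfs'
  · have h4 : 4 ≤ f * n := hn.trans (Nat.le_mul_of_pos_left _ hf)
    obtain ⟨r, hr, hrp, hro⟩ := exists_ppd (p := p) (n := f * n) hp (by omega) h621
    have hrK : ¬ r ∣ Nat.card K := by
      rw [hK]
      exact fun h => hr.one_lt.ne' (Nat.dvd_one.1 h)
    rcases tail hna hY hr hro h4 (fun h => by
      show 6 ≤ f * n
      have : ¬ f * n < 6 := fun h' => h421 ⟨h, h'⟩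
      omega) hpK hrK hcard hout (elimL' hk hna hd hs hY hn hso hδ hle hv hsH hfs') with h | ⟨X, g, hE, hX, hI⟩
    · exact h
    · rcases hE with ⟨h1, h2, h3, h4, h5⟩ | ⟨-, h, -⟩ | ⟨m, h1, h2, h3, h4, h5⟩ | ⟨-, h, -⟩ | ⟨-, h, -⟩ | ⟨-, h, -⟩ |
        ⟨-, h, -⟩ | ⟨-, h, -⟩
      · exfalso
        apply h421
        have : n = 4 := by simpa using h2
        exact ⟨h3, by rw [h5, this]; norm_num⟩
      · exfalso
        have : n = 3 := by simpa using h
        omega
      · exfalso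
        have h6 : n = m := by simpa using h3
        subst h6
        rw [h2] at hX hI
        rw [h4] at hY
        exact DDL_false hn hX hY h5 (by rw [← hcard, hK, one_mul]) hI
      · exfalso
        have : n = 3 := by simpa using h
        omega
      · exact absurd h (by simp)
      · exfalso
        have : n = 2 := by simpa using h
        omega
      · exact absurd h (by simp)
      · exact absurd h (by simp)

/-- **The tail for `PSU_n(q)`, `n ≥ 4`.** -/
theorem rowU (hY : Art.Real (.U n) p f (Nat.card G)) (hn : 4 ≤ n) (h42 : ¬ (n = 4 ∧ p = 2 ∧ f = 1)) (hs : s.Prime)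
    (hsp : s ≠ p) (hso : orderOf (-((p ^ f : ℕ) : ZMod s)) = n - 1) (hnadj : NonAdj (G ⧸ K) s p)
    (hsH : s ∣ Nat.card H) (hpK : ¬ p ∣ Nat.card K)
    (hrK : ∀ r : ℕ, r.Prime → r ≠ p → orderOf (p : ZMod r) = f * Art.DM (.U n) → ¬ r ∣ Nat.card K) :
    IsSimpleGroup G := by
  have hp := hY.hp
  have hf := hY.hf
  obtain ⟨δ, hδ, hle, hd, hv, hfs, hcard⟩ := elim_data hna hout hp hs hsp hnadj hpK
  rw [fac_self hY] at hv
  have hk := Cfsg.Agent.S0000.result (G := H)
  apply OrthRow.isSimple_of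
  refine ⟨K, inferInstance, H, inferInstance, hna, ?_⟩
  have hfs' := hfs hsH
  have h6 := six_le (m := n) hf hn
  have hex : ¬ (p = 2 ∧ f * Art.DM (.U n) = 6) := by
    rintro ⟨h1, h2⟩
    rw [DM_U] at h2
    have h3 : f * oo n = 3 := by
      have : f * (2 * oo n) = 2 * (f * oo n) := by ring
      omega
    have h4 : 3 ≤ oo n := by unfold oo; split_ifs <;> omega
    have h5 : f = 1 := by
      by_contra hcon
      have : 2 * 3 ≤ f * oo n := Nat.mul_le_mul (by omega) h4
      omega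
    subst h5
    apply h42
    refine ⟨?_, h1, rfl⟩
    rw [one_mul] at h3
    unfold oo at h3
    split_ifs at h3 <;> omega
  obtain ⟨r, hr, hrp, hro⟩ := exists_ppd (p := p) (n := f * Art.DM (.U n)) hp (by omega) hex
  rcases tail hna hY hr hro (by omega) (fun _ => h6) hpK (hrK r hr hrp hro) hcard hout
      (elimU' hk hna hd hs hY hn hso h42 hδ hle hv hsH hfs') with h | ⟨X, g, hE, hX, hI⟩
  · exact h
  · exfalso
    rcases hE with ⟨-, h, -⟩ | ⟨-, h, -⟩ | ⟨_, -, -, h, -⟩ | ⟨-, h, -⟩ | ⟨-, h, -⟩ | ⟨-, h, -⟩ | ⟨-, h, -⟩ | ⟨-, h, -⟩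
    · exact absurd h (by simp)
    · exact absurd h (by simp)
    · exact absurd h (by simp)
    · exact absurd h (by simp)
    · exact absurd h (by simp)
    · exact absurd h (by simp)
    · have : n = 3 := by simpa using h
      omega
    · exact absurd h (by simp)

end rows

end Cfsg.Agent.H370.AAM
end

private theorem dce_ee711ac95e12 : _root_.True := by
  try have : _root_.True := by simp only [_root_.Cfsg.Agent.H370.AAM.bad.eq_1]
  try have : _root_.True := by simp only [_root_.Cfsg.Agent.H370.AAM.chkS.eq_1]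
  try have : _root_.True := by simp only [_root_.Cfsg.Agent.H370.AAM.exLU.eq_1]
  try have : _root_.True := by simp only [_root_.Cfsg.Agent.H370.AAM.lieB.eq_3]
  try have : _root_.True := by simp only [_root_.Cfsg.Agent.H370.AAM.vl.eq_1]
  try have : _root_.True := by simp only [_root_.Cfsg.Agent.H370.AAM.okB.eq_1]
  try have : _root_.True := by simp only [_root_.Cfsg.Agent.H370.AAM.lieB.eq_4]
  try have : _root_.True := by simp only [_root_.Cfsg.Agent.H370.AAM.lieB._sparseCasesOn_1.else_eq]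
  try have : _root_.True := by simp only [_root_.Cfsg.Agent.H370.AAM.lieB.eq_2]
  try have : _root_.True := by simp only [_root_.Cfsg.Agent.H370.AAM.lieB.eq_1]
  exact _root_.True.intro
end

-- part: H812/CS/Abel_mg
section
prune_inst 0x100304408c0000000000090d10020044400059000200001d900074202065300000009004c801d001028a20000000020010000d00010000000000000000000001028460012400108200000801085180c00000000000000000000000000041004000000000
set_option linter.all false
open scoped Cfsg.Agent.FastGrp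

-- part: H812/CS/Iso
section
/-!
# Isolated abelian Hall subgroups (helper812)

The structure theorem `H364.Isol.struct` for an abelian (instead of cyclic) isolated Hall subgroup.
-/

set_option autoImplicit false

namespace Cfsg.Agent.H812.CS

open Subgroup Cfsg.Agent.H364

/-- `T` is an abelian Hall subgroup of order `m` and no element of prime order `r ∣ m` commutes with an element of
prime order `s ∤ m`. -/
structure IsolA (G : Type*) [Group G] (T : Subgroup G) (m : ℕ) : Prop where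
  comm' : ∀ a ∈ T, ∀ b ∈ T, Commute a b
  card : Nat.card T = m
  cop : m.Coprime (Nat.card G / m)
  edge : ∀ r s : ℕ, r.Prime → s.Prime → r ∣ m → ¬ s ∣ m → NoEdge G r s

namespace IsolA

variable {G : Type*} [Group G] [Finite G] {T : Subgroup G} {m : ℕ}

theorem pos (h : IsolA G T m) : 0 < m := h.card ▸ Nat.card_pos

omit [Finite G] in
theorem dvd (h : IsolA G T m) : m ∣ Nat.card G := h.card ▸ Subgroup.card_subgroup_dvd_card T

omit [Finite G] in
theorem comm (h : IsolA G T m) {a b : G} (ha : a ∈ T) (hb : b ∈ T) : Commute a b := h.comm' a ha b hb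

omit [Finite G] in
theorem mul_eq (h : IsolA G T m) : m * (Nat.card G / m) = Nat.card G := Nat.mul_div_cancel' h.dvd

/-- A subgroup containing `T` with only primes dividing `m` is `T`. -/
theorem eq_of_primes (h : IsolA G T m) {C : Subgroup G} (hTC : T ≤ C)
    (hp : ∀ s, s.Prime → s ∣ Nat.card C → s ∣ m) : C = T := by
  have h1 : Nat.card T * T.relIndex C = Nat.card C := by
    rw [← Subgroup.relIndex_bot_left T, ← Subgroup.relIndex_bot_left C]
    exact Subgroup.relIndex_mul_relIndex _ _ _ bot_le hTC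
  have h2 : Nat.card C ∣ Nat.card G := Subgroup.card_subgroup_dvd_card C
  have h3 : T.relIndex C ∣ Nat.card G / m := by
    rw [← h1, h.card, ← h.mul_eq] at h2
    exact Nat.dvd_of_mul_dvd_mul_left h.pos h2
  have h4 : T.relIndex C = 1 := by
    by_contra hne
    obtain ⟨s, hs, hsd⟩ := Nat.exists_prime_and_dvd hne
    have h5 : s ∣ m := hp s hs (hsd.trans (h1 ▸ Dvd.intro_left _ rfl))
    have h6 : s ∣ Nat.card G / m := hsd.trans h3
    have := Nat.dvd_gcd h5 h6
    rw [h.cop] at this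
    exact hs.one_lt.ne' (Nat.dvd_one.1 this)
  exact le_antisymm (Subgroup.relIndex_eq_one.1 h4) hTC

/-- The centralizer of a nontrivial element of `T` is `T`. -/
theorem commute_mem (h : IsolA G T m) {t x : G} (ht : t ∈ T) (ht1 : t ≠ 1) (hx : Commute t x) : x ∈ T := by
  have hTC : T ≤ centralizer ({t} : Set G) := fun a ha => by
    rw [Subgroup.mem_centralizer_singleton_iff]
    exact (h.comm ha ht).eq
  have hC : centralizer ({t} : Set G) = T := by
    refine h.eq_of_primes hTC fun s hs hsd => ?_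
    by_contra hsm
    have := Fact.mk hs
    obtain ⟨b, hb⟩ := exists_prime_orderOf_dvd_card' s hsd
    have hn1 : orderOf t ≠ 1 := fun h => ht1 (orderOf_eq_one_iff.1 h)
    obtain ⟨r, hr, hrd⟩ := Nat.exists_prime_and_dvd hn1
    have hrm : r ∣ m := by
      rw [← h.card]
      refine hrd.trans ?_
      have := _root_.orderOf_dvd_natCard (⟨t, ht⟩ : T)
      rwa [← Subgroup.orderOf_coe] at this
    have hbt : Commute t (b : G) := by
      have := Subgroup.mem_centralizer_singleton_iff.1 b.2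
      exact (show (b : G) * t = t * b from this).symm
    refine (h.edge r s hr hs hrm hsm).false_of_dvd hr hs ?_ hbt hrd ?_
    · rintro rfl; exact hsm hrm
    · rw [Subgroup.orderOf_coe, hb]
  rw [← hC, Subgroup.mem_centralizer_singleton_iff]
  exact hx.eq.symm

/-- `N_G(A) ≤ N_G(T)` for a nontrivial subgroup `A` of `T`. -/
theorem normalizer_le (h : IsolA G T m) {A : Subgroup G} (hA : A ≤ T) (hA1 : A ≠ ⊥) :
    normalizer (A : Set G) ≤ normalizer (T : Set G) := by
  obtain ⟨a, ha⟩ := Subgroup.ne_bot_iff_exists_ne_one.1 hA1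
  obtain ⟨a, haA, ha1⟩ : ∃ a : G, a ∈ A ∧ a ≠ 1 := ⟨(a : G), a.2, fun h => ha (Subtype.ext h)⟩
  have key : ∀ g ∈ normalizer (A : Set G), ∀ x ∈ T, g * x * g⁻¹ ∈ T := by
    intro g hg x hx
    have h1 : g * a * g⁻¹ ∈ A := (Subgroup.mem_normalizer_iff.1 hg a).1 haA
    refine h.commute_mem (hA h1) ?_ ?_
    · intro h2
      apply ha1
      have : g⁻¹ * (g * a * g⁻¹) * g = 1 := by rw [h2]; simp
      simpa [mul_assoc] using this
    · have h3 := h.comm (hA haA) hx
      change (g * a * g⁻¹) * (g * x * g⁻¹) = (g * x * g⁻¹) * (g * a * g⁻¹)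
      have h4 : a * x = x * a := h3
      calc (g * a * g⁻¹) * (g * x * g⁻¹) = g * (a * x) * g⁻¹ := by group
        _ = g * (x * a) * g⁻¹ := by rw [h4]
        _ = _ := by group
  intro g hg
  rw [Subgroup.mem_normalizer_iff]
  intro x
  refine ⟨key g hg x, fun hx => ?_⟩
  have := key g⁻¹ (inv_mem hg) _ hx
  simpa [mul_assoc] using this

theorem not_mem_conj (h : IsolA G T m) {g t : G} (ht : t ∈ T) (ht1 : t ≠ 1) (hg : g ∉ T) : g * t * g⁻¹ ≠ t := by
  intro h1
  exact hg (h.commute_mem ht ht1 ((mul_inv_eq_iff_eq_mul.1 h1 : g * t = t * g)).symm)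

/-- The order of the normaliser: `|N(T)| = m * n` with `n ∣ m - 1`. -/
theorem exists_n (h : IsolA G T m) : ∃ n, Nat.card (normalizer (T : Set G)) = m * n ∧ n ∣ m - 1 := by
  have hTN : T ≤ normalizer (T : Set G) := Subgroup.le_normalizer
  obtain ⟨n, hn⟩ : m ∣ Nat.card (normalizer (T : Set G)) := by
    rw [← h.card]; exact Subgroup.card_dvd_of_le hTN
  refine ⟨n, hn, ?_⟩
  have hmpos := h.pos
  -- nontrivial elements
  let Y : Type _ := {t : T // t ≠ 1}
  have hY : Nat.card Y = m - 1 := by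
    have := Fintype.ofFinite T
    classical
    rw [← h.card, Nat.card_eq_fintype_card, Nat.card_eq_fintype_card, Fintype.card_subtype_compl,
      Fintype.card_subtype_eq]
  have hN : ∀ (x : normalizer (T : Set G)) (t : T), (x : G) * t * (x : G)⁻¹ ∈ T := fun x t =>
    (Subgroup.mem_normalizer_iff.1 x.2 t).1 t.2
  have hact1 : ∀ (x : normalizer (T : Set G)) (t : Y),
      (⟨(x : G) * (t.1 : G) * (x : G)⁻¹, hN x t.1⟩ : T) ≠ 1 := by
    intro x t h1
    apply t.2
    apply Subtype.ext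
    have h2 : (x : G) * (t.1 : G) * (x : G)⁻¹ = 1 := congrArg Subtype.val h1
    have : (x : G)⁻¹ * ((x : G) * (t.1 : G) * (x : G)⁻¹) * x = 1 := by rw [h2]; simp
    simpa only [mul_assoc, _root_.ne_eq, _root_.OneMemClass.coe_one, _root_.OneMemClass.coe_eq_one, _root_.inv_mul_cancel_left, _root_.inv_mul_cancel, _root_.mul_one] using this
  let act : MulAction (normalizer (T : Set G)) Y :=
    { smul := fun x t => ⟨⟨(x : G) * (t.1 : G) * (x : G)⁻¹, hN x t.1⟩, hact1 x t⟩
      one_smul := fun t => Subtype.ext (Subtype.ext (by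
        change ((1 : normalizer (T : Set G)) : G) * (t.1 : G) * ((1 : normalizer (T : Set G)) : G)⁻¹ = t.1
        simp only [_root_.OneMemClass.coe_one, _root_.ne_eq, _root_.one_mul, _root_.inv_one, _root_.mul_one]))
      mul_smul := fun x y t => Subtype.ext (Subtype.ext (by
        change ((x * y : normalizer (T : Set G)) : G) * (t.1 : G) * ((x * y : normalizer (T : Set G)) : G)⁻¹ =
          (x : G) * ((y : G) * (t.1 : G) * (y : G)⁻¹) * (x : G)⁻¹
        simp only [mul_assoc, _root_.Subgroup.coe_mul, _root_.ne_eq, _root_.mul_inv_rev])) }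
  have hstab : ∀ t : Y, Nat.card (MulAction.stabilizer (normalizer (T : Set G)) t) = m := by
    intro t
    have h1 : MulAction.stabilizer (normalizer (T : Set G)) t = T.subgroupOf (normalizer (T : Set G)) := by
      ext x
      rw [MulAction.mem_stabilizer_iff, Subgroup.mem_subgroupOf]
      have ht1 : ((t.1 : T) : G) ≠ 1 := fun h => t.2 (Subtype.ext h)
      constructor
      · intro hx
        have h2 : (x : G) * (t.1 : G) * (x : G)⁻¹ = t.1 := congrArg (fun y : Y => ((y.1 : T) : G)) hx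
        by_contra h3
        exact h.not_mem_conj t.1.2 ht1 h3 h2
      · intro hx
        apply Subtype.ext
        apply Subtype.ext
        change (x : G) * (t.1 : G) * (x : G)⁻¹ = t.1
        exact mul_inv_eq_iff_eq_mul.2 (h.comm hx t.1.2)
    rw [h1, Nat.card_congr (Subgroup.subgroupOfEquivOfLe hTN).toEquiv, h.card]
  obtain ⟨k, hk⟩ := Cfsg.Agent.Lib.ActCount.exists_card_mul (H := normalizer (T : Set G)) (Y := Y) m hstab
  rw [hn, hY] at hk
  have hk2 : m * (m - 1) = m * (k * n) := by rw [hk]; ring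
  have hk3 : m - 1 = k * n := Nat.eq_of_mul_eq_mul_left hmpos hk2
  exact Dvd.intro_left _ hk3.symm

omit [Finite G] in
theorem not_dvd_div (h : IsolA G T m) {r : ℕ} (hr : r.Prime) (hrm : r ∣ m) : ¬ r ∣ Nat.card G / m := fun h3 => by
  have := Nat.dvd_gcd hrm h3
  rw [h.cop] at this
  exact hr.one_lt.ne' (Nat.dvd_one.1 this)

theorem div_ne_zero (h : IsolA G T m) : Nat.card G / m ≠ 0 := fun h4 => by
  have := h.mul_eq
  rw [h4, mul_zero] at this
  exact Nat.card_pos.ne this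

theorem factorization_eq (h : IsolA G T m) {r : ℕ} (hr : r.Prime) (hrm : r ∣ m) :
    m.factorization r = (Nat.card G).factorization r := by
  rw [← h.mul_eq, Nat.factorization_mul h.pos.ne' h.div_ne_zero, Finsupp.add_apply,
    Nat.factorization_eq_zero_of_not_dvd (h.not_dvd_div hr hrm), add_zero]

/-- `T` contains a Sylow `r`-subgroup of `G`. -/
theorem exists_sylow (h : IsolA G T m) {r : ℕ} [hr : Fact r.Prime] (hrm : r ∣ m) :
    ∃ R : Sylow r G, (R : Subgroup G) ≤ T := by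
  obtain ⟨R⟩ : Nonempty (Sylow r T) := inferInstance
  have h1 : Nat.card ((R : Subgroup T).map T.subtype) = r ^ (Nat.card G).factorization r := by
    rw [Subgroup.card_map_of_injective T.subtype_injective, R.card_eq_multiplicity, h.card]
    rw [h.factorization_eq hr.out hrm]
  exact ⟨Sylow.ofCard _ h1, fun x hx => by
    obtain ⟨y, _, rfl⟩ := Subgroup.mem_map.1 hx
    exact y.2⟩

/-- The normalizer of `T` controls the index: `|G| / m ≡ n mod m`. -/
theorem modEq (h : IsolA G T m) {n : ℕ} (hn : Nat.card (normalizer (T : Set G)) = m * n) :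
    Nat.card G / m ≡ n [MOD m] := by
  have hTN : T ≤ normalizer (T : Set G) := Subgroup.le_normalizer
  -- `T` acts on the cosets of `N(T)`
  set N := normalizer (T : Set G) with hN
  let Y : Type _ := {c : G ⧸ N // c ≠ ((1 : G) : G ⧸ N)}
  have h1 : ∀ (t : T), (t : G) • ((1 : G) : G ⧸ N) = ((1 : G) : G ⧸ N) := by
    intro t
    change (((t : G) * 1 : G) : G ⧸ N) = _
    rw [mul_one]
    exact (QuotientGroup.eq.2 (by simpa using hTN t.2)).symm
  let act : MulAction T Y :=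
    { smul := fun t c => ⟨(t : G) • c.1, fun hc => c.2 (by
        have h2 : (t : G)⁻¹ • ((t : G) • c.1) = (t : G)⁻¹ • ((1 : G) : G ⧸ N) := by rw [hc]
        rw [inv_smul_smul] at h2
        have h3 := h1 t⁻¹
        rw [Subgroup.coe_inv] at h3
        rw [h2, h3])⟩
      one_smul := fun c => Subtype.ext (one_smul G c.1)
      mul_smul := fun s t c => Subtype.ext (mul_smul (s : G) (t : G) c.1) }
  have hstab : ∀ c : Y, Nat.card (MulAction.stabilizer T c) = 1 := by
    intro c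
    rw [Subgroup.card_eq_one, eq_bot_iff]
    intro t ht
    rw [Subgroup.mem_bot]
    by_contra ht1
    have ht1' : (t : G) ≠ 1 := fun h => ht1 (Subtype.ext h)
    have h2 : (t : G) • c.1 = c.1 := congrArg Subtype.val (MulAction.mem_stabilizer_iff.1 ht)
    obtain ⟨⟨g⟩, hg⟩ := c
    apply hg
    change (((t : G) * g : G) : G ⧸ N) = ((g : G) : G ⧸ N) at h2
    have h3 : g⁻¹ * (t : G) * g ∈ N := by
      have := QuotientGroup.eq.1 h2.symm
      simpa only [mul_assoc] using this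
    -- `g⁻¹ t g ∈ T`
    have hord : orderOf (g⁻¹ * (t : G) * g) ∣ m := by
      have h4 : orderOf (g⁻¹ * (t : G) * g) = orderOf (t : G) := by
        have := (MulAut.conj g⁻¹).orderOf_eq (t : G)
        simpa only [_root_.orderOf_submonoid, _root_.map_inv, _root_.MulAut.inv_apply, _root_.MulAut.conj_symm_apply] using this
      rw [h4, ← h.card, Subgroup.orderOf_coe]
      exact _root_.orderOf_dvd_natCard t
    have h5 : g⁻¹ * (t : G) * g ∈ T := by
      -- the image in `N / T` has order prime to `m`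
      have hcop : m.Coprime n := by
        have h6 : n ∣ Nat.card G / m := by
          have h7 : m * n ∣ Nat.card G := hn ▸ Subgroup.card_subgroup_dvd_card N
          rw [← h.mul_eq] at h7
          exact Nat.dvd_of_mul_dvd_mul_left h.pos h7
        exact Nat.Coprime.coprime_dvd_right h6 h.cop
      have hTn : (T.subgroupOf N).Normal := by
        rw [Subgroup.normal_subgroupOf_iff_le_normalizer hTN]
      have hidx : (T.subgroupOf N).index = n := by
        have h6 := Subgroup.card_mul_index (T.subgroupOf N)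
        rw [hn, Nat.card_congr (Subgroup.subgroupOfEquivOfLe hTN).toEquiv, h.card] at h6
        exact Nat.eq_of_mul_eq_mul_left h.pos h6
      have h7 : orderOf (QuotientGroup.mk' (T.subgroupOf N) ⟨_, h3⟩) = 1 := by
        apply Nat.eq_one_of_dvd_coprimes hcop
        · refine (orderOf_map_dvd _ _).trans ?_
          rwa [Subgroup.orderOf_mk]
        · rw [← hidx, Subgroup.index_eq_card]
          exact _root_.orderOf_dvd_natCard _
      rw [orderOf_eq_one_iff] at h7
      exact Subgroup.mem_subgroupOf.1 ((QuotientGroup.eq_one_iff (N := T.subgroupOf N) _).1 h7)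
    have h6 : g⁻¹ * (t : G) * g ≠ 1 := by
      intro h7
      apply ht1'
      have : g * (g⁻¹ * (t : G) * g) * g⁻¹ = 1 := by rw [h7]; simp
      simpa only [mul_assoc, _root_.OneMemClass.coe_eq_one, _root_.mul_inv_cancel_left, _root_.mul_inv_cancel, _root_.mul_one] using this
    -- `g T g⁻¹ = T`
    have h7 : g ∈ N := by
      have key : ∀ x ∈ T, g * x * g⁻¹ ∈ T := by
        intro x hx
        refine h.commute_mem t.2 ht1' ?_
        have h8 := h.comm h5 hx
        have h9 := h8.map (MulAut.conj g).toMonoidHom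
        simpa only [mul_assoc, _root_.MulEquiv.toMonoidHom_eq_coe, _root_.MonoidHom.coe_coe, _root_.MulAut.conj_apply, _root_.mul_inv_cancel_left, _root_.mul_inv_cancel, _root_.mul_one] using h9
      have key2 : ∀ x ∈ T, g⁻¹ * x * g ∈ T := by
        intro x hx
        refine h.commute_mem h5 h6 ?_
        have h8 := h.comm t.2 hx
        have h9 := h8.map (MulAut.conj g⁻¹).toMonoidHom
        simpa only [mul_assoc, _root_.map_inv, _root_.MulEquiv.toMonoidHom_eq_coe, _root_.MonoidHom.coe_coe, _root_.MulAut.inv_apply, _root_.MulAut.conj_symm_apply] using h9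
      rw [hN, Subgroup.mem_normalizer_iff]
      intro x
      refine ⟨key x, fun hx => ?_⟩
      have := key2 _ hx
      simpa [mul_assoc] using this
    exact (QuotientGroup.eq.2 (by simpa using N.inv_mem h7))
  obtain ⟨k, hk⟩ := Cfsg.Agent.Lib.ActCount.exists_card_mul (H := T) (Y := Y) 1 hstab
  have hY : Nat.card Y = N.index - 1 := by
    have := Fintype.ofFinite (G ⧸ N)
    classical
    rw [Subgroup.index_eq_card, Nat.card_eq_fintype_card, Nat.card_eq_fintype_card, Fintype.card_subtype_compl,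
      Fintype.card_subtype_eq]
  rw [hY, h.card, one_mul] at hk
  have hpos : 0 < N.index := Nat.pos_of_ne_zero Subgroup.index_ne_zero_of_finite
  have h2 : N.index ≡ 1 [MOD m] := by
    have : 1 ≤ N.index := hpos
    exact ((Nat.modEq_iff_dvd' this).2 (hk ▸ Dvd.intro_left _ rfl)).symm
  have h3 := Subgroup.card_mul_index N
  rw [hn, mul_assoc] at h3
  have h4 : Nat.card G / m = n * N.index := by
    rw [← h3]; exact Nat.mul_div_cancel_left _ h.pos
  rw [h4]
  simpa using h2.mul_left n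

/-- Conjugates of isolated subgroups are isolated. -/
theorem conj {G : Type*} [Group G] {T : Subgroup G} {m : ℕ} (h : IsolA G T m) (g : G) :
    IsolA G (T.map (MulAut.conj g).toMonoidHom) m where
  comm' := by
    rintro _ ⟨a, ha, rfl⟩ _ ⟨b, hb, rfl⟩
    exact (h.comm ha hb).map _
  card := by rw [Subgroup.card_map_of_injective (MulAut.conj g).injective, h.card]
  cop := h.cop
  edge := h.edge

theorem card_normalizer_conj {G : Type*} [Group G] [Finite G] {T : Subgroup G} {m n : ℕ} (_h : IsolA G T m)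
    (hn : Nat.card (normalizer (T : Set G)) = m * n) (g : G) :
    Nat.card (normalizer ((T.map (MulAut.conj g).toMonoidHom : Subgroup G) : Set G)) = m * n := by
  rw [← hn]
  have h1 := Subgroup.map_equiv_normalizer_eq T (MulAut.conj g)
  change (normalizer (T : Set G)).map (MulAut.conj g).toMonoidHom =
    normalizer ((T.map (MulAut.conj g).toMonoidHom : Subgroup G) : Set G) at h1
  rw [← h1, Subgroup.card_map_of_injective (MulAut.conj g).injective]

/-- **Structure theorem**, core free case. -/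
theorem struct_core {G : Type*} [Group G] [Finite G] {T : Subgroup G} {m n : ℕ} (h : IsolA G T m) (hm : 1 < m)
    (h2 : ¬ 2 ∣ m) (hn : Nat.card (normalizer (T : Set G)) = m * n)
    (hcor : ∀ L : Subgroup G, L.Normal → (Nat.card L).Coprime m → L = ⊥) :
    Nat.card G = m * n ∨ ∃ N : Subgroup G, N.Normal ∧ IsSimpleGroup N ∧ (¬ ∀ a b : N, a * b = b * a) ∧
      centralizer (N : Set G) = ⊥ ∧ T ≤ N ∧ ∃ n', 1 < n' ∧ n' * N.index = n := by
  have hnt : Nontrivial G := by
    rw [← Finite.one_lt_card_iff_nontrivial]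
    exact lt_of_lt_of_le hm (Nat.le_of_dvd Nat.card_pos h.dvd)
  obtain ⟨N, hNn, hN, hmin⟩ := exists_minimal_normal G
  obtain ⟨r, hr, hrN, hrm⟩ := Nat.Prime.not_coprime_iff_dvd.1 (fun hc => hN (hcor N hNn hc))
  have := Fact.mk hr
  rcases minimal_normal_cases N hN hmin hr hrN with hpg | ⟨k, S, hk, hSN, hS, hSna, hSr, hScard, hScomm, hSsup⟩
  · left
    obtain ⟨R, hRT⟩ := h.exists_sylow hrm
    have h1 : N ≤ T := (hpg.le_sylow_of_normal R).trans hRT
    have h3 := h.normalizer_le h1 hN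
    rw [Subgroup.normalizer_eq_top, top_le_iff] at h3
    rw [h3, Subgroup.card_top] at hn
    exact hn
  · right
    have hS2 : ∀ i, 2 ∣ Nat.card (S i) := fun i => by
      have := hS i
      exact two_dvd_card (hSna i)
    have hr2 : r ≠ 2 := by rintro rfl; exact h2 hrm
    have hk1 : k = 1 := by
      by_contra hne
      have h01 : (⟨0, hk⟩ : Fin k) ≠ ⟨1, by omega⟩ := by
        intro h; simp at h
      exact (h.edge r 2 hr Nat.prime_two hrm h2).false_of_subgroups hr Nat.prime_two hr2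
        (hScomm _ _ h01) (hSr _) (hS2 _)
    subst hk1
    have hNS : S 0 = N := by
      rw [← hSsup]
      exact (iSup_unique (f := S)).symm
    have hNs : IsSimpleGroup N := hNS ▸ hS 0
    have hNna : ¬ ∀ a b : N, a * b = b * a := hNS ▸ hSna 0
    have hN2 : 2 ∣ Nat.card N := hNS ▸ hS2 0
    have hcent : centralizer (N : Set G) = ⊥ := by
      refine hcor _ inferInstance ?_
      by_contra hc
      obtain ⟨r', hr', hr'C, hr'm⟩ := Nat.Prime.not_coprime_iff_dvd.1 hc
      refine (h.edge r' 2 hr' Nat.prime_two hr'm h2).false_of_subgroups hr' Nat.prime_two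
        (by rintro rfl; exact h2 hr'm) (A := centralizer (N : Set G)) (B := N) ?_ hr'C hN2
      intro a ha b hb
      exact (Subgroup.mem_centralizer_iff.1 ha b hb).symm
    obtain ⟨Q⟩ : Nonempty (Sylow r N) := inferInstance
    -- a conjugate `T'` of `T` containing the Sylow subgroup of `N`
    have hQp : IsPGroup r ((Q : Subgroup N).map N.subtype) := Q.isPGroup'.map _
    obtain ⟨R, hRT⟩ := h.exists_sylow hrm
    obtain ⟨g, hg⟩ : ∃ g : G, (Q : Subgroup N).map N.subtype ≤ T.map (MulAut.conj g).toMonoidHom := by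
      obtain ⟨R', hR'⟩ := hQp.exists_le_sylow
      obtain ⟨g, hg⟩ := MulAction.exists_smul_eq G R R'
      refine ⟨g, hR'.trans ?_⟩
      rw [← hg]
      exact Subgroup.map_mono hRT
    have h' := h.conj g
    set T' : Subgroup G := T.map (MulAut.conj g).toMonoidHom with hT'
    have hn' : Nat.card (normalizer (T' : Set G)) = m * n := h.card_normalizer_conj hn g
    set Q' : Subgroup G := (Q : Subgroup N).map N.subtype with hQ'
    have hQ1 : (Q : Subgroup N) ≠ ⊥ := Q.ne_bot_of_dvd_card hrN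
    have hQ'1 : Q' ≠ ⊥ := fun h => hQ1 ((Subgroup.map_eq_bot_iff_of_injective _ N.subtype_injective).1 h)
    have hle : normalizer (Q' : Set G) ≤ normalizer (T' : Set G) := h'.normalizer_le hg hQ'1
    have hsup : normalizer (T' : Set G) ⊔ N = ⊤ := by
      rw [eq_top_iff, ← Sylow.normalizer_sup_eq_top Q]
      exact sup_le_sup_right hle N
    obtain ⟨x, hxN, hxT, hxN'⟩ : ∃ x ∈ N, x ∉ T' ∧ x ∈ normalizer (T' : Set G) := by
      by_contra hcon
      push Not at hcon
      have hle2 : normalizer ((Q : Subgroup N) : Set N) ≤ centralizer ((Q : Subgroup N) : Set N) := by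
        intro x hx
        have h3 : (x : G) ∈ normalizer (Q' : Set G) := by
          rw [Subgroup.mem_normalizer_iff] at hx ⊢
          intro y
          rw [hQ', Subgroup.mem_map, Subgroup.mem_map]
          constructor
          · rintro ⟨z, hz, rfl⟩
            exact ⟨x * z * x⁻¹, (hx z).1 hz, rfl⟩
          · rintro ⟨z, hz, hzy⟩
            refine ⟨x⁻¹ * z * x, (hx _).2 (by simpa only [mul_assoc, _root_.mul_inv_cancel_left, _root_.mul_inv_cancel, _root_.mul_one] using hz), ?_⟩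
            have : (x : G)⁻¹ * (N.subtype z) * x = y := by rw [hzy]; simp [mul_assoc]
            rw [← this]; rfl
        have h4 : (x : G) ∈ T' := by
          by_contra h5
          exact hcon x x.2 h5 (hle h3)
        rw [Subgroup.mem_centralizer_iff]
        intro y hy
        apply Subtype.ext
        have h5 : (y : G) ∈ T' := hg ⟨y, hy, rfl⟩
        exact (h'.comm h5 h4).eq
      have hcompl := MonoidHom.ker_transferSylow_isComplement' Q hle2
      rcases (inferInstance : (MonoidHom.transferSylow Q hle2).ker.Normal).eq_bot_or_eq_top with h3 | h3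
      · rw [h3, Subgroup.isComplement'_bot_left] at hcompl
        apply hNna
        intro a b
        have ha : a ∈ (Q : Subgroup N) := hcompl ▸ Subgroup.mem_top a
        have hb : b ∈ (Q : Subgroup N) := hcompl ▸ Subgroup.mem_top b
        exact (Subgroup.mem_centralizer_iff.1 (hle2 (Subgroup.le_normalizer hb)) a ha)
      · rw [h3, Subgroup.isComplement'_top_left] at hcompl
        exact hQ1 hcompl
    have hT'N : T' ≤ N := by
      have hmem : ∀ t : T', x * t * x⁻¹ * (t : G)⁻¹ ∈ T' := fun t =>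
        T'.mul_mem ((Subgroup.mem_normalizer_iff.1 hxN' t).1 t.2) (T'.inv_mem t.2)
      let φ : T' → T' := fun t => ⟨x * t * x⁻¹ * (t : G)⁻¹, hmem t⟩
      have hinj : Function.Injective φ := by
        intro s t hst
        by_contra hne
        have h3 : x * s * x⁻¹ * (s : G)⁻¹ = x * t * x⁻¹ * (t : G)⁻¹ := congrArg Subtype.val hst
        have hu : ((t : G)⁻¹ * s) ∈ T' := T'.mul_mem (T'.inv_mem t.2) s.2
        have hu1 : ((t : G)⁻¹ * s) ≠ 1 := fun h5 => hne (Subtype.ext (inv_mul_eq_one.1 h5).symm)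
        apply h'.not_mem_conj hu hu1 hxT
        have h4 : Commute ((x : G) * t * x⁻¹) ((t : G)⁻¹) :=
          h'.comm ((Subgroup.mem_normalizer_iff.1 hxN' t).1 t.2) (T'.inv_mem t.2)
        calc x * ((t : G)⁻¹ * s) * x⁻¹ = (x * t * x⁻¹)⁻¹ * (x * s * x⁻¹ * (s : G)⁻¹) * s := by group
          _ = (x * t * x⁻¹)⁻¹ * ((x * t * x⁻¹) * (t : G)⁻¹) * s := by rw [h3]
          _ = (t : G)⁻¹ * s := by group
      have hsurj := Finite.surjective_of_injective hinj
      intro t ht
      obtain ⟨s, hs⟩ := hsurj ⟨t, ht⟩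
      have h3 : x * s * x⁻¹ * (s : G)⁻¹ = t := congrArg Subtype.val hs
      rw [← h3]
      have h4 : x * s * x⁻¹ * (s : G)⁻¹ = x * ((s : G) * x⁻¹ * (s : G)⁻¹) := by group
      rw [h4]
      exact N.mul_mem hxN (hNn.conj_mem _ (N.inv_mem hxN) _)
    have hTN : T ≤ N := by
      intro t ht
      have h3 : g * t * g⁻¹ ∈ N := hT'N ⟨t, ht, rfl⟩
      have := hNn.conj_mem _ h3 g⁻¹
      simpa [mul_assoc] using this
    refine ⟨N, hNn, hNs, hNna, hcent, hTN, ?_⟩
    -- indices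
    have h3 : N.index = N.relIndex (normalizer (T' : Set G)) := by
      rw [← Subgroup.relIndex_top_right, ← hsup, Subgroup.relIndex_sup_right]
    have h4 : Nat.card (N ⊓ normalizer (T' : Set G) : Subgroup G) * N.relIndex (normalizer (T' : Set G)) =
        Nat.card (normalizer (T' : Set G)) := by
      rw [← Subgroup.inf_relIndex_right N, ← Subgroup.relIndex_bot_left (N ⊓ normalizer (T' : Set G)),
        ← Subgroup.relIndex_bot_left (normalizer (T' : Set G))]
      exact Subgroup.relIndex_mul_relIndex _ _ _ bot_le inf_le_right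
    have h5 : T' ≤ N ⊓ normalizer (T' : Set G) := le_inf hT'N Subgroup.le_normalizer
    obtain ⟨n', hn''⟩ : m ∣ Nat.card (N ⊓ normalizer (T' : Set G) : Subgroup G) := by
      rw [← h'.card]; exact Subgroup.card_dvd_of_le h5
    refine ⟨n', ?_, ?_⟩
    · by_contra hlt
      have h6 : Nat.card (N ⊓ normalizer (T' : Set G) : Subgroup G) ≤ Nat.card T' := by
        rw [hn'', h'.card]
        calc m * n' ≤ m * 1 := Nat.mul_le_mul_left _ (by omega)
          _ = m := mul_one m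
      have h7 := Subgroup.eq_of_le_of_card_ge h5 h6
      exact hxT (h7 ▸ (⟨hxN, hxN'⟩ : x ∈ N ⊓ normalizer (T' : Set G)))
    · rw [hn', hn'', ← h3, mul_assoc] at h4
      exact Nat.eq_of_mul_eq_mul_left h.pos h4

theorem quotient (h : IsolA G T m) {K : Subgroup G} [K.Normal] (hK : (Nat.card K).Coprime m) :
    IsolA (G ⧸ K) (T.map (QuotientGroup.mk' K)) m := by
  have hdisj : T ⊓ K = ⊥ := by
    rw [← Subgroup.card_eq_one]
    have h1 : Nat.card (T ⊓ K : Subgroup G) ∣ m := h.card ▸ Subgroup.card_dvd_of_le inf_le_left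
    have h2 : Nat.card (T ⊓ K : Subgroup G) ∣ Nat.card K := Subgroup.card_dvd_of_le inf_le_right
    exact Nat.eq_one_of_dvd_coprimes hK h2 h1
  have hcard : Nat.card (T.map (QuotientGroup.mk' K)) = m := by
    rw [← h.card]
    refine (Nat.card_congr (Equiv.ofBijective (fun t : T => (⟨QuotientGroup.mk' K t, Subgroup.mem_map_of_mem _ t.2⟩ :
      T.map (QuotientGroup.mk' K))) ⟨?_, ?_⟩)).symm
    · intro s t hst
      have h1 : QuotientGroup.mk' K (s : G) = QuotientGroup.mk' K (t : G) := congrArg Subtype.val hst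
      have h2 : (s : G)⁻¹ * t ∈ K := QuotientGroup.eq.1 h1
      have h3 : (s : G)⁻¹ * t ∈ T ⊓ K := ⟨T.mul_mem (T.inv_mem s.2) t.2, h2⟩
      rw [hdisj, Subgroup.mem_bot] at h3
      exact Subtype.ext (inv_mul_eq_one.1 h3)
    · rintro ⟨x, hx⟩
      obtain ⟨t, ht, rfl⟩ := Subgroup.mem_map.1 hx
      exact ⟨⟨t, ht⟩, rfl⟩
  have hGK : Nat.card G = Nat.card K * Nat.card (G ⧸ K) := by
    rw [← Subgroup.card_mul_index K, Subgroup.index_eq_card]
  have hm : m ∣ Nat.card (G ⧸ K) := hcard ▸ Subgroup.card_subgroup_dvd_card _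
  refine ⟨?_, hcard, ?_, fun r s hr hs hrm hsm => noEdge_quotient K (h.edge r s hr hs hrm hsm)⟩
  · rintro _ ⟨a, ha, rfl⟩ _ ⟨b, hb, rfl⟩
    exact (h.comm ha hb).map _
  · have h1 := h.cop
    rw [hGK, Nat.mul_div_assoc _ hm] at h1
    exact Nat.Coprime.coprime_dvd_right (Dvd.intro_left _ rfl) h1

/-- **General structure theorem** for a finite group with an isolated abelian Hall subgroup of odd order `m > 1`. -/
theorem struct (h : IsolA G T m) (hm : 1 < m) (h2 : ¬ 2 ∣ m) :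
    ∃ (K : Subgroup G) (_ : K.Normal) (n : ℕ), (Nat.card K).Coprime m ∧
      (∀ t, t.Prime → m ∣ t ^ (Nat.card K).factorization t - 1) ∧
      (n ∣ m - 1 ∧ Nat.card G / m ≡ n [MOD m]) ∧
      (Nat.card G = Nat.card K * (m * n) ∨
        ∃ N : Subgroup (G ⧸ K), N.Normal ∧ IsSimpleGroup N ∧ (¬ ∀ a b : N, a * b = b * a) ∧
          centralizer (N : Set (G ⧸ K)) = ⊥ ∧ m ∣ Nat.card N ∧ ∃ n', 1 < n' ∧ n' * N.index = n) := by
  obtain ⟨K, hKn, hKm, hmax⟩ := exists_core G m
  have hGK : Nat.card G = Nat.card K * Nat.card (G ⧸ K) := by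
    rw [← Subgroup.card_mul_index K, Subgroup.index_eq_card]
  have hq := h.quotient hKm
  obtain ⟨n, hn, hnr⟩ := hq.exists_n
  have hparts : ∀ t, t.Prime → m ∣ t ^ (Nat.card K).factorization t - 1 := by
    intro t ht
    by_cases htm : t ∣ m
    · have h3 : ¬ t ∣ Nat.card K := fun h4 => by
        have := Nat.dvd_gcd h4 htm
        rw [hKm] at this
        exact ht.one_lt.ne' (Nat.dvd_one.1 this)
      rw [Nat.factorization_eq_zero_of_not_dvd h3, pow_zero, Nat.sub_self]
      exact dvd_zero m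
    · apply dvd_of_prime_parts h.pos.ne'
      intro r hr hrm
      rw [h.factorization_eq hr hrm]
      refine congr_one K hr ht ?_ ?_ (h.edge r t hr ht hrm htm)
      · rintro rfl; exact htm hrm
      · intro h4
        have := Nat.dvd_gcd h4 hrm
        rw [hKm] at this
        exact hr.one_lt.ne' (Nat.dvd_one.1 this)
  have hK1 : Nat.card K ≡ 1 [MOD m] := modEq_one_of_parts Nat.card_pos.ne' hparts
  refine ⟨K, hKn, n, hKm, hparts, ⟨hnr, ?_⟩, ?_⟩
  · have h3 := hq.modEq hn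
    have h4 : Nat.card G / m = Nat.card K * (Nat.card (G ⧸ K) / m) := by
      rw [hGK, Nat.mul_div_assoc _ hq.dvd]
    rw [h4]
    simpa only [_root_.one_mul] using hK1.mul h3
  · rcases hq.struct_core hm h2 hn (core_quotient hKm hmax) with h3 | ⟨N, h3, h4, h5, h6, h7, h8⟩
    · left
      rw [hGK, h3]
    · right
      refine ⟨N, h3, h4, h5, h6, ?_, h8⟩
      rw [← hq.card]
      exact Subgroup.card_dvd_of_le h7

end IsolA

end Cfsg.Agent.H812.CS
end

-- part: H812/CS/Abel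
section
/-!
# Isolated Hall subgroups from centralizer orders (helper812)

`IsoC G m`: `m > 1` is a Hall divisor of `|G|` and every element of `G` whose order is divisible by a prime divisor of
`m` has a centralizer of order `m`.

`IsoC.exists_isol`: if the prime divisors of `m` are at least `5` and `|G| / m ≡ c mod m` with `c ≤ 4` then such a
centralizer is abelian.

`IsoC.struct`: the conclusion of `H364.Isol.struct` with `n = c`.
-/

set_option autoImplicit false

namespace Cfsg.Agent.H812.CS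

open Subgroup Cfsg.Agent.H364
open scoped Pointwise

/-- `m > 1` is a Hall divisor of `|G|` and every element of `G` whose order is divisible by a prime divisor of
`m` has a centralizer of order `m`. -/
structure IsoC (G : Type*) [Group G] (m : ℕ) : Prop where
  one : 1 < m
  dvd : m ∣ Nat.card G
  cop : m.Coprime (Nat.card G / m)
  cent : ∀ (r : ℕ) (y : G), r.Prime → r ∣ m → r ∣ orderOf y → Nat.card (centralizer ({y} : Set G)) = m

theorem mem_cent' {G : Type*} [Group G] {x g : G} : x ∈ centralizer ({g} : Set G) ↔ Commute x g := by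
  rw [Subgroup.mem_centralizer_singleton_iff]
  rfl

namespace IsoC

variable {G : Type*} [Group G] [Finite G] {m : ℕ}

omit [Finite G] in
theorem noEdge (h : IsoC G m) {r s : ℕ} (hr : r.Prime) (hrm : r ∣ m) (hsm : ¬ s ∣ m) : NoEdge G r s := by
  intro x hx
  apply hsm
  have h1 := h.cent r x hr hrm (by rw [hx]; exact Dvd.intro _ rfl)
  rw [← h1]
  have h2 := Subgroup.orderOf_mk x (mem_cent'.2 (Commute.refl x))
  have h3 : s ∣ orderOf x := by rw [hx]; exact Dvd.intro_left _ rfl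
  exact h3.trans (h2 ▸ _root_.orderOf_dvd_natCard _)

theorem le_cent (h : IsoC G m) {r : ℕ} (hr : r.Prime) (hrm : r ∣ m) {x u : G} (hx : orderOf x = r)
    (hu : (orderOf u).Coprime r) (hxu : Commute x u) : centralizer ({x} : Set G) ≤ centralizer ({u} : Set G) := by
  have ho : orderOf (x * u) = r * orderOf u := by
    rw [hxu.orderOf_mul_eq_mul_orderOf_of_coprime (by rw [hx]; exact hu.symm), hx]
  obtain ⟨k, hk⟩ := exists_pow_eq_self_of_coprime (x := x) (n := orderOf u) (by rw [hx]; exact hu)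
  have hz : ((x * u) ^ orderOf u) ^ k = x := by
    rw [hxu.mul_pow, pow_orderOf_eq_one, mul_one, hk]
  have h1 : centralizer ({x * u} : Set G) ≤ centralizer ({x} : Set G) := by
    intro g hg
    rw [mem_cent'] at hg ⊢
    have := (hg.pow_right (orderOf u)).pow_right k
    rwa [hz] at this
  have h2 : centralizer ({x * u} : Set G) = centralizer ({x} : Set G) := by
    apply Subgroup.eq_of_le_of_card_ge h1
    rw [h.cent r x hr hrm (by rw [hx]), h.cent r (x * u) hr hrm (by rw [ho]; exact Dvd.intro _ rfl)]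
  intro g hg
  have h3 : g ∈ centralizer ({x * u} : Set G) := h2 ▸ hg
  rw [mem_cent'] at hg h3 ⊢
  have h4 := hg.inv_right.mul_right h3
  rwa [inv_mul_cancel_left] at h4

/-- the case of two primes -/
theorem comm_of_two (h : IsoC G m) {r r' : ℕ} (hr : r.Prime) (hrm : r ∣ m) (hr' : r'.Prime) (hrm' : r' ∣ m)
    (hne : r' ≠ r) {y : G} (hy : orderOf y = r) :
    ∀ a ∈ centralizer ({y} : Set G), ∀ b ∈ centralizer ({y} : Set G), Commute a b := by
  set T := centralizer ({y} : Set G) with hT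
  have hTm : Nat.card T = m := h.cent r y hr hrm (by rw [hy])
  have := Fact.mk hr'
  obtain ⟨z, hz⟩ := exists_prime_orderOf_dvd_card' (G := T) r' (hTm ▸ hrm')
  have hz' : orderOf (z : G) = r' := by rw [Subgroup.orderOf_coe, hz]
  have hcop : r'.Coprime r := (Nat.coprime_primes hr' hr).2 hne
  have h1 : T ≤ centralizer ({(z : G)} : Set G) :=
    h.le_cent hr hrm hy (by rw [hz']; exact hcop) (mem_cent'.1 z.2).symm
  have h2 : T = centralizer ({(z : G)} : Set G) := by
    apply Subgroup.eq_of_le_of_card_ge h1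
    rw [hTm, h.cent r' z hr' hrm' (by rw [hz'])]
  intro a ha b hb
  obtain ⟨k, l, hl, hkl⟩ := Nat.exists_eq_pow_mul_and_not_dvd (orderOf_pos b).ne' r hr.ne_one
  have hl0 : l ≠ 0 := by rintro rfl; exact hl (dvd_zero r)
  have hrk : r ^ k ≠ 0 := pow_ne_zero _ hr.ne_zero
  have o1 : orderOf (b ^ l) = r ^ k := by
    rw [orderOf_pow_of_dvd hl0 (hkl ▸ Dvd.intro_left _ rfl), hkl]
    exact Nat.mul_div_cancel _ (Nat.pos_of_ne_zero hl0)
  have o2 : orderOf (b ^ r ^ k) = l := by
    rw [orderOf_pow_of_dvd hrk (hkl ▸ Dvd.intro _ rfl), hkl]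
    exact Nat.mul_div_cancel_left _ (Nat.pos_of_ne_zero hrk)
  have c1 : Commute a (b ^ l) := by
    have hz1 : Commute (z : G) (b ^ l) := by
      have : b ^ l ∈ T := T.pow_mem hb l
      rw [h2, mem_cent'] at this
      exact this.symm
    have h3 := h.le_cent hr' hrm' hz' (by rw [o1]; exact (hcop.symm.pow_left k)) hz1
    rw [← h2] at h3
    exact mem_cent'.1 (h3 ha)
  have c2 : Commute a (b ^ r ^ k) := by
    have hz1 : Commute y (b ^ r ^ k) := by
      have : b ^ r ^ k ∈ T := T.pow_mem hb _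
      rw [hT, mem_cent'] at this
      exact this.symm
    have h3 := h.le_cent hr hrm hy (by rw [o2]; exact ((Nat.Prime.coprime_iff_not_dvd hr).2 hl).symm) hz1
    exact mem_cent'.1 (h3 ha)
  have hg : Nat.gcd l (r ^ k) = 1 := Nat.Coprime.pow_right k ((Nat.Prime.coprime_iff_not_dvd hr).2 hl).symm
  have hb1 : b = (b ^ l) ^ (Nat.gcdA l (r ^ k)) * (b ^ r ^ k) ^ (Nat.gcdB l (r ^ k)) := by
    have h5 := Nat.gcd_eq_gcd_ab l (r ^ k)
    rw [hg] at h5
    rw [← zpow_natCast, ← zpow_natCast, ← zpow_mul, ← zpow_mul, ← zpow_add, ← h5]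
    simp
  rw [hb1]
  exact (c1.zpow_right _).mul_right (c2.zpow_right _)

/-- the case of a prime power -/
theorem comm_of_prime_pow (h : IsoC G m) {r : ℕ} (hr : r.Prime) (hrm : ∀ t, t.Prime → t ∣ m → t = r) (h5 : 5 ≤ r)
    {c : ℕ} (hc : c ≤ 4) (hcm : Nat.card G / m ≡ c [MOD m]) {y : G} (hy : orderOf y = r) (hrm' : r ∣ m) :
    ∀ a ∈ centralizer ({y} : Set G), ∀ b ∈ centralizer ({y} : Set G), Commute a b := by
  classical
  have hm0 : 0 < m := by have := h.one; omega
  set T := centralizer ({y} : Set G) with hT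
  have hTm : Nat.card T = m := h.cent r y hr hrm' (by rw [hy])
  have hmr : m = r ^ m.primeFactorsList.length := Nat.eq_prime_pow_of_unique_prime_dvd hm0.ne' (fun {d} hd hdm => hrm d hd hdm)
  have := Fact.mk hr
  have hmG : m * (Nat.card G / m) = Nat.card G := Nat.mul_div_cancel' h.dvd
  -- `m` is the full power of `r`
  have hfac : m = r ^ (Nat.card G).factorization r := by
    have h1 : Nat.card G / m ≠ 0 := by
      intro h2
      rw [h2, mul_zero] at hmG
      exact Nat.card_pos.ne hmG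
    have h2 : ¬ r ∣ Nat.card G / m := by
      intro h3
      have := Nat.dvd_gcd hrm' h3
      rw [h.cop] at this
      exact hr.one_lt.ne' (Nat.dvd_one.1 this)
    conv_rhs => rw [← hmG]
    rw [Nat.factorization_mul hm0.ne' h1, Finsupp.add_apply, Nat.factorization_eq_zero_of_not_dvd h2, add_zero]
    conv_rhs => rw [hmr]
    rw [Nat.Prime.factorization_pow hr, Finsupp.single_eq_same]
    exact hmr
  let P : Sylow r G := Sylow.ofCard T (hTm.trans hfac)
  have hP : (P : Subgroup G) = T := rfl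
  by_contra hcon
  -- the centre of `T`
  have hZ : 5 * Nat.card (center T) ≤ m := by
    have h1 : Nat.card (center T) * (center T).index = m := by rw [Subgroup.card_mul_index, hTm]
    have h2 : (center T).index ≠ 1 := by
      intro h3
      rw [Subgroup.index_eq_one] at h3
      apply hcon
      intro a ha b hb
      have h4 : (⟨b, hb⟩ : T) ∈ center T := h3 ▸ Subgroup.mem_top _
      exact congrArg Subtype.val (Subgroup.mem_center_iff.1 h4 ⟨a, ha⟩)
    obtain ⟨t, ht, htd⟩ := Nat.exists_prime_and_dvd h2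
    have h3 : t = r := hrm t ht (htd.trans (h1 ▸ Dvd.intro_left _ rfl))
    subst h3
    have h4 : t ≤ (center T).index :=
      Nat.le_of_dvd (Nat.pos_of_ne_zero Subgroup.index_ne_zero_of_finite) htd
    calc 5 * Nat.card (center T) = Nat.card (center T) * 5 := by ring
      _ ≤ Nat.card (center T) * (center T).index := Nat.mul_le_mul_left _ (by omega)
      _ = m := h1
  -- nontrivial elements with `g ^ m = 1`
  let Y : Type _ := {g : G // g ^ m = 1 ∧ g ≠ 1}
  have hX : Nat.card {g : G // g ^ m = 1} = Nat.card Y + 1 := by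
    have := Fintype.ofFinite G
    rw [Nat.card_eq_fintype_card, Nat.card_eq_fintype_card, Fintype.card_subtype, Fintype.card_subtype]
    have h4 : (Finset.univ.filter fun t : G => t ^ m = 1 ∧ t ≠ 1) =
        (Finset.univ.filter fun t : G => t ^ m = 1).erase 1 := by
      ext t
      simp only [Finset.mem_filter, Finset.mem_univ, true_and, Finset.mem_erase]
      (clear * - G m t; tauto)
    rw [h4, Finset.card_erase_add_one]
    simp only [_root_.Finset.mem_filter, _root_.Finset.mem_univ, _root_.one_pow, _root_.and_self]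
  have hord : ∀ t : Y, r ∣ orderOf t.1 := by
    intro t
    have h1 : orderOf t.1 ∣ m := orderOf_dvd_of_pow_eq_one t.2.1
    have h2 : orderOf t.1 ≠ 1 := fun h3 => t.2.2 (orderOf_eq_one_iff.1 h3)
    obtain ⟨q, hq, hqd⟩ := Nat.exists_prime_and_dvd h2
    exact (hrm q hq (hqd.trans h1)) ▸ hqd
  have hact1 : ∀ (x : G) (t : Y), (x * t.1 * x⁻¹) ^ m = 1 ∧ x * t.1 * x⁻¹ ≠ 1 := by
    intro x t
    constructor
    · rw [conj_pow, t.2.1]; simp
    · intro h1
      apply t.2.2
      have : x⁻¹ * (x * t.1 * x⁻¹) * x = 1 := by rw [h1]; simp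
      simpa only [mul_assoc, _root_.ne_eq, _root_.inv_mul_cancel_left, _root_.inv_mul_cancel, _root_.mul_one] using this
  let act : MulAction G Y :=
    { smul := fun x t => ⟨x * t.1 * x⁻¹, hact1 x t⟩
      one_smul := fun t => Subtype.ext (by
        change (1 : G) * t.1 * (1 : G)⁻¹ = t.1
        simp)
      mul_smul := fun x y t => Subtype.ext (by
        change (x * y) * t.1 * (x * y)⁻¹ = x * (y * t.1 * y⁻¹) * x⁻¹
        simp only [mul_assoc, _root_.ne_eq, _root_.mul_inv_rev]) }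
  have hstab : ∀ t : Y, Nat.card (MulAction.stabilizer G t) = m := by
    intro t
    rw [← h.cent r t.1 hr hrm' (hord t)]
    congr 2
    ext x
    rw [MulAction.mem_stabilizer_iff, mem_cent']
    constructor
    · intro hx
      have h2 : x * t.1 * x⁻¹ = t.1 := congrArg (fun y : Y => y.1) hx
      exact mul_inv_eq_iff_eq_mul.1 h2
    · intro hx
      apply Subtype.ext
      exact mul_inv_eq_iff_eq_mul.2 hx
  obtain ⟨k, hk⟩ := Cfsg.Agent.Lib.ActCount.exists_card_mul (H := G) (Y := Y) m hstab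
  -- every element of `Y` is conjugate to a central element of `T`
  have hconj : ∀ t : Y, ∃ (z : {z : center T // z ≠ 1}) (g : G), t.1 = g * ((z.1 : T) : G) * g⁻¹ := by
    intro t
    have h1 : Nat.card (centralizer ({t.1} : Set G)) = r ^ (Nat.card G).factorization r :=
      (h.cent r t.1 hr hrm' (hord t)).trans hfac
    let Q : Sylow r G := Sylow.ofCard _ h1
    obtain ⟨g, hg⟩ := MulAction.exists_smul_eq G P Q
    have h2 : ∀ x : G, x ∈ T ↔ g * x * g⁻¹ ∈ centralizer ({t.1} : Set G) := by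
      intro x
      have h3 : (Q : Subgroup G) = centralizer ({t.1} : Set G) := rfl
      rw [← h3, ← hg, ← hP]
      change _ ↔ g * x * g⁻¹ ∈ (MulAut.conj g) • (P : Subgroup G)
      rw [Subgroup.mem_smul_pointwise_iff_exists]
      constructor
      · intro hx
        exact ⟨x, hx, rfl⟩
      · rintro ⟨s, hs, hs2⟩
        have h4 : s = x := by
          have : g * s * g⁻¹ = g * x * g⁻¹ := hs2
          exact mul_left_cancel (mul_right_cancel this)
        rwa [← h4]
    have h3 : g⁻¹ * t.1 * g ∈ T := by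
      rw [h2, mem_cent']
      have : g * (g⁻¹ * t.1 * g) * g⁻¹ = t.1 := by simp only [mul_assoc, _root_.ne_eq, _root_.mul_inv_cancel_left, _root_.mul_inv_cancel, _root_.mul_one]
      rw [this]
    have h4 : (⟨g⁻¹ * t.1 * g, h3⟩ : T) ∈ center T := by
      rw [Subgroup.mem_center_iff]
      intro x
      apply Subtype.ext
      change (x : G) * (g⁻¹ * t.1 * g) = (g⁻¹ * t.1 * g) * (x : G)
      have h5 : Commute (g * (x : G) * g⁻¹) t.1 := mem_cent'.1 ((h2 x).1 x.2)
      have h6 := h5.map (MulAut.conj g⁻¹).toMonoidHom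
      have h7 : Commute (x : G) (g⁻¹ * t.1 * g) := by simpa only [mul_assoc, _root_.ne_eq, _root_.map_inv, _root_.MulEquiv.toMonoidHom_eq_coe, _root_.MonoidHom.coe_coe, _root_.MulAut.inv_apply, _root_.MulAut.conj_symm_apply, _root_.inv_mul_cancel_left, _root_.inv_mul_cancel, _root_.mul_one] using h6
      exact h7.eq
    refine ⟨⟨⟨_, h4⟩, ?_⟩, g, ?_⟩
    · intro h5
      apply t.2.2
      have h6 : g⁻¹ * t.1 * g = 1 := congrArg (fun z : center T => ((z : T) : G)) h5
      have : g * (g⁻¹ * t.1 * g) * g⁻¹ = 1 := by rw [h6]; simp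
      simpa only [mul_assoc, _root_.ne_eq, _root_.mul_inv_cancel_left, _root_.mul_inv_cancel, _root_.mul_one] using this
    · change t.1 = g * (g⁻¹ * t.1 * g) * g⁻¹
      simp [mul_assoc]
  choose z g hzg using hconj
  have hTcomm : ∀ (w : {z : center T // z ≠ 1}) (s : T), (s : G) * ((w.1 : T) : G) * (s : G)⁻¹ = ((w.1 : T) : G) := by
    intro w s
    have h1 := Subgroup.mem_center_iff.1 w.1.2 s
    have h2 : (s : G) * ((w.1 : T) : G) = ((w.1 : T) : G) * (s : G) := congrArg Subtype.val h1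
    exact mul_inv_eq_iff_eq_mul.2 h2
  let φ : Y × T → {z : center T // z ≠ 1} × G := fun p => (z p.1, g p.1 * p.2)
  have hφ : Function.Injective φ := by
    rintro ⟨t, s⟩ ⟨t', s'⟩ hts
    have h1 : z t = z t' := congrArg Prod.fst hts
    have h2 : g t * (s : G) = g t' * (s' : G) := congrArg Prod.snd hts
    have h3 : t.1 = (g t * (s : G)) * (((z t).1 : T) : G) * (g t * (s : G))⁻¹ := by
      conv_lhs => rw [hzg t, ← hTcomm (z t) s]
      simp only [mul_assoc, _root_.ne_eq, _root_.mul_inv_rev]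
    have h4 : t'.1 = (g t' * (s' : G)) * (((z t').1 : T) : G) * (g t' * (s' : G))⁻¹ := by
      conv_lhs => rw [hzg t', ← hTcomm (z t') s']
      simp only [mul_assoc, _root_.ne_eq, _root_.mul_inv_rev]
    have h5 : t = t' := by
      apply Subtype.ext
      rw [h3, h4, h1, h2]
    subst h5
    have h6 : s = s' := Subtype.ext (mul_left_cancel h2)
    rw [h6]
  have hle : Nat.card Y * m ≤ (Nat.card (center T) - 1) * Nat.card G := by
    have h1 := Nat.card_le_card_of_injective φ hφ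
    rw [Nat.card_prod, Nat.card_prod, hTm] at h1
    have h2 : Nat.card {z : center T // z ≠ 1} = Nat.card (center T) - 1 := by
      have := Fintype.ofFinite (center T)
      rw [Nat.card_eq_fintype_card, Nat.card_eq_fintype_card, Fintype.card_subtype_compl, Fintype.card_subtype_eq]
    rwa [h2] at h1
  have hkz : k ≤ Nat.card (center T) - 1 := by
    rw [mul_comm, hk] at hle
    exact Nat.le_of_mul_le_mul_right hle Nat.card_pos
  have hYk : Nat.card Y = k * (Nat.card G / m) := by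
    apply Nat.eq_of_mul_eq_mul_left hm0
    rw [hk]
    conv_lhs => rw [← hmG]
    ring
  have hfrob : m ∣ Nat.card {g : G // g ^ m = 1} := Cfsg.Agent.H418.Frob.frobenius_dvd m h.dvd
  rw [hX, hYk] at hfrob
  have h1 : m ∣ k * c + 1 := by
    have h2 : k * (Nat.card G / m) + 1 ≡ k * c + 1 [MOD m] := (hcm.mul_left k).add_right 1
    exact (Nat.modEq_zero_iff_dvd).1 (h2.symm.trans ((Nat.modEq_zero_iff_dvd).2 hfrob))
  have h2 := Nat.le_of_dvd (by omega) h1
  have h3 : k * c ≤ (Nat.card (center T) - 1) * 4 := Nat.mul_le_mul hkz hc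
  have h4 : 0 < Nat.card (center T) := Nat.card_pos
  omega

theorem exists_isol (h : IsoC G m) (h5 : ∀ r, r.Prime → r ∣ m → 5 ≤ r) {c : ℕ} (hc : c ≤ 4)
    (hcm : Nat.card G / m ≡ c [MOD m]) : ∃ T : Subgroup G, IsolA G T m := by
  obtain ⟨r, hr, hrm⟩ := Nat.exists_prime_and_dvd h.one.ne'
  have := Fact.mk hr
  obtain ⟨y, hy⟩ := exists_prime_orderOf_dvd_card' (G := G) r (hrm.trans h.dvd)
  refine ⟨centralizer ({y} : Set G), ?_, h.cent r y hr hrm (by rw [hy]), h.cop,
    fun r s hr _ hrm hsm => h.noEdge hr hrm hsm⟩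
  by_cases h1 : ∃ r', r'.Prime ∧ r' ∣ m ∧ r' ≠ r
  · obtain ⟨r', hr', hrm', hne⟩ := h1
    exact h.comm_of_two hr hrm hr' hrm' hne hy
  · push Not at h1
    exact h.comm_of_prime_pow hr h1 (h5 r hr hrm) hc hcm hy hrm

/-- **Structure theorem** for groups with isolated centralizers of odd order `m` with `|G| / m ≡ c mod m`, `c ≤ 4`. -/
theorem struct (h : IsoC G m) (h5 : ∀ r, r.Prime → r ∣ m → 5 ≤ r) {c : ℕ} (hc : c ≤ 4)
    (hcm : Nat.card G / m ≡ c [MOD m]) :
    ∃ (K : Subgroup G) (_ : K.Normal), (Nat.card K).Coprime m ∧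
      (∀ t, t.Prime → m ∣ t ^ (Nat.card K).factorization t - 1) ∧
      (Nat.card G = Nat.card K * (m * c) ∨
        ∃ N : Subgroup (G ⧸ K), N.Normal ∧ IsSimpleGroup N ∧ (¬ ∀ a b : N, a * b = b * a) ∧
          centralizer (N : Set (G ⧸ K)) = ⊥ ∧ m ∣ Nat.card N ∧ ∃ n', 1 < n' ∧ n' * N.index = c) := by
  obtain ⟨T, hT⟩ := h.exists_isol h5 hc hcm
  have h2 : ¬ 2 ∣ m := fun h2 => by
    have := h5 2 Nat.prime_two h2
    omega
  obtain ⟨K, hKn, n, hKm, hparts, ⟨hn1, hn2⟩, hcases⟩ := hT.struct h.one h2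
  have hm5 : 5 ≤ m := by
    obtain ⟨r, hr, hrm⟩ := Nat.exists_prime_and_dvd h.one.ne'
    exact (h5 r hr hrm).trans (Nat.le_of_dvd (by have := h.one; omega) hrm)
  have hnc : n = c := by
    refine Nat.ModEq.eq_of_lt_of_lt (hn2.symm.trans hcm) ?_ (by omega)
    have := Nat.le_of_dvd (by omega) hn1
    omega
  subst hnc
  exact ⟨K, hKn, hKm, hparts, hcases⟩

end IsoC

end Cfsg.Agent.H812.CS
end

-- part: H370/AAM/Orth
section
/-!
# The rows `PΩ⁻(2n, q)` and `PΩ⁺(2n, q)`, `n` odd, from two primes not adjacent to the characteristic (helper370)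
-/

set_option autoImplicit false
set_option linter.style.haveILetI false

namespace Cfsg.Agent.H370.AAM

open Subgroup Cfsg Cfsg.Agent.OrdDiv Cfsg.Agent.H364 Cfsg.Agent.H902
open Cfsg.Agent.H364.ArithU Cfsg.Agent.H364.OrthRow

universe u v

theorem dom' {X : Art.Sh} {p f M : ℕ} (h : Art.Real X p f M) (hX : X ≠ .L 2) {r : ℕ} (hr : r.Prime) (hrp : r ≠ p)
    (h33 : ¬ (X = .U 3 ∧ p ^ f = 3 ∧ r = 2)) (h42 : ¬ (X = .U 4 ∧ p ^ f = 2 ∧ r = 3)) :
    r ^ M.factorization r ≤ p ^ (f * Art.NN X) := by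
  have h1 := h.dom hX hr hrp h33 h42
  rwa [Art.P, ← pow_mul] at h1

/-- **The structure of a group with the order and two nonadjacent primes of `PΩ⁻(2n, q)`.** -/
theorem minus_core {G : Type u} [Group G] [Finite G] {n p f : ℕ} (hY : Art.Real (.DD n) p f (Nat.card G))
    (h42 : ¬ (n = 4 ∧ p = 2 ∧ f = 1))
    (hE : ∀ t, t.Prime → t ≠ p → (orderOf ((p ^ f : ℕ) : ZMod t) = 2 * n ∨ orderOf ((p ^ f : ℕ) : ZMod t) = 2 * (n - 1)) →
      NoEdge G t p) :
    ∃ (K : Subgroup G) (_ : K.Normal) (H : Subgroup (G ⧸ K)), IsSimpleGroup H ∧ (¬ ∀ x y : H, x * y = y * x) ∧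
      Nat.card H = Nat.card G := by
  have hp := hY.hp
  have hf := hY.hf
  have hn : 4 ≤ n := hY.ok
  have h8 : 8 ≤ f * (2 * n) := by nlinarith
  have h6' : 6 ≤ f * (2 * (n - 1)) := by
    have : 3 ≤ n - 1 := by omega
    nlinarith only [hf, this]
  have hex : ¬ (p = 2 ∧ f * (2 * (n - 1)) = 6) := by
    rintro ⟨h1, h2⟩
    have h3 : f * (n - 1) = 3 := by
      have : f * (2 * (n - 1)) = 2 * (f * (n - 1)) := by ring
      omega
    have h4 : n - 1 ≤ f * (n - 1) := Nat.le_mul_of_pos_left _ hf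
    have h5 : n = 4 := by omega
    subst h5
    exact h42 ⟨rfl, h1, by omega⟩
  obtain ⟨r, hr, hrp, hro⟩ := exists_ppd (p := p) (n := f * (2 * n)) hp (by omega) (by omega)
  obtain ⟨s, hs', hsp, hso⟩ := exists_ppd (p := p) (n := f * (2 * (n - 1))) hp (by omega) hex
  have hEr : NoEdge G r p := hE r hr hrp (Or.inl (orderOf_pow_card hf hro))
  have hEs : NoEdge G s p := hE s hs' hsp (Or.inr (orderOf_pow_card hf hso))
  have hsG : s ∣ Nat.card G := hY.dvd_of_order_BM hs' (by show 2 * n < 2 * (2 * (n - 1)); omega) hso (by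
    show 3 ≤ f * (2 * (n - 1)); omega)
  obtain ⟨K, hK, H, h1, h2, h3⟩ := main hY hr hro (by show 6 ≤ f * (2 * n); omega)
    hs' hso (by omega) hsG hEr hEs (lcm_two n (by omega) f hf)
    (dom' hY (by simp) hr hrp (by simp) (by simp)) (dom' hY (by simp) hs' hsp (by simp) (by simp)) (by
      intro S _ _ _ hna δ hd hle _ hv _ _ _ _ _
      left
      rcases elimDD (Cfsg.Agent.S0000.result (G := S)) hna hd hle hY hv with h | h
      · exact h
      · exact absurd ⟨h.2.2, h.1, h.2.1⟩ h42)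
  refine ⟨K, hK, H, h1, h2, ?_⟩
  rcases h3 with h | ⟨X, g, h, -⟩
  · exact h
  · exfalso
    rcases h with ⟨-, h, -⟩ | ⟨-, h, -⟩ | ⟨_, -, -, h, -⟩ | ⟨-, h, -⟩ | ⟨-, h, -⟩ | ⟨-, h, -⟩ | ⟨-, h, -⟩ | ⟨-, h, -⟩ <;>
      exact absurd h (by simp)

/-- **The structure of a group with the order and two nonadjacent primes of `PΩ⁺(2n, q)`, `n` odd.** -/
theorem plus_core {G : Type u} [Group G] [Finite G] {n p f : ℕ} (hY : Art.Real (.D n) p f (Nat.card G))
    (hn : 5 ≤ n) (hodd : Odd n)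
    (hE : ∀ t, t.Prime → t ≠ p → (orderOf ((p ^ f : ℕ) : ZMod t) = n ∨ orderOf ((p ^ f : ℕ) : ZMod t) = 2 * (n - 1)) →
      NoEdge G t p) :
    ∃ (K : Subgroup G) (_ : K.Normal) (H : Subgroup (G ⧸ K)), IsSimpleGroup H ∧ (¬ ∀ x y : H, x * y = y * x) ∧
      Nat.card H = Nat.card G := by
  have hp := hY.hp
  have hf := hY.hf
  have h8 : 8 ≤ f * (2 * (n - 1)) := by
    have : 4 ≤ n - 1 := by omega
    nlinarith
  have h5 : 5 ≤ f * n := by nlinarith only [hn, hf]
  have hex : ¬ (p = 2 ∧ f * n = 6) := by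
    rintro ⟨-, h2⟩
    have h3 : n ∣ 6 := Dvd.intro_left _ h2
    have h4 := Nat.le_of_dvd (by norm_num) h3
    have h7 : n = 5 ∨ n = 6 := by omega
    rcases h7 with rfl | rfl
    · norm_num at h3
    · exact absurd hodd (by decide)
  obtain ⟨r, hr, hrp, hro⟩ := exists_ppd (p := p) (n := f * (2 * (n - 1))) hp (by omega) (by omega)
  obtain ⟨s, hs', hsp, hso⟩ := exists_ppd (p := p) (n := f * n) hp (by omega) hex
  have hEr : NoEdge G r p := hE r hr hrp (Or.inr (orderOf_pow_card hf hro))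
  have hEs : NoEdge G s p := hE s hs' hsp (Or.inl (orderOf_pow_card hf hso))
  have hsG : s ∣ Nat.card G := by
    apply hY.dvd_of_dvd_num hs'
    · intro h
      have h1 : s ∣ 4 := h.trans (Nat.gcd_dvd_left _ _)
      have h2 : s ∣ 2 ^ 2 := h1
      exact ne_two_of_order hs' (by omega) hso ((Nat.prime_dvd_prime_iff_eq hs' Nat.prime_two).1 (hs'.dvd_of_dvd_pow h2))
    · refine Dvd.dvd.mul_right ?_ _
      exact (Art.dvd_iff hp n).2 (by rw [hso])
  obtain ⟨K, hK, H, h1, h2, h3⟩ := main hY hr hro (by show 6 ≤ f * (2 * (n - 1)); omega)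
    hs' hso (by omega) hsG hEr hEs (lcm_odd n (by omega) hodd f hf)
    (dom' hY (by simp) hr hrp (by simp) (by simp)) (dom' hY (by simp) hs' hsp (by simp) (by simp)) (by
      intro S _ _ _ hna δ hd hle _ hv _ _ _ _ _
      left
      rcases elimD (Cfsg.Agent.S0000.result (G := S)) hna hd hle hY hv with h | h
      · exact h
      · omega)
  refine ⟨K, hK, H, h1, h2, ?_⟩
  rcases h3 with h | ⟨X, g, h, -⟩
  · exact h
  · exfalso
    rcases h with ⟨-, h, -⟩ | ⟨-, h, -⟩ | ⟨_, -, -, h, -⟩ | ⟨-, h, -⟩ | ⟨-, h, -⟩ | ⟨-, h, -⟩ | ⟨-, h, -⟩ | ⟨-, h, -⟩ <;>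
      exact absurd h (by simp)

end Cfsg.Agent.H370.AAM
end

-- part: H370/AAM/UTwo
section
/-!
# S3677: the row `PSU_n(2)`, `n ≥ 5`, with two perfect primes (helper370)
-/

set_option autoImplicit false
set_option linter.style.haveILetI false

namespace Cfsg.Agent.H370.AAM

open Subgroup Cfsg Cfsg.Agent.OrdDiv Cfsg.Agent.H364 Cfsg.Agent.H902
open Cfsg.Agent.H364.ArithU Cfsg.Agent.H364.NuOrd Cfsg.Agent.H431.CS

universe u v

theorem order_of_iff {p t b : ℕ} (hp : p.Prime) (h : ∀ m, t ∣ p ^ m - 1 ↔ b ∣ m) : orderOf (p : ZMod t) = b := by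
  have key : ∀ m, orderOf (p : ZMod t) ∣ m ↔ b ∣ m := fun m => by
    rw [← Cfsg.Agent.Lib.Zsigmondy.dvd_pow_sub_one_iff hp.one_le]; exact h m
  exact Nat.dvd_antisymm ((key b).2 dvd_rfl) ((key _).1 dvd_rfl)

theorem check52 : ((cands [(2, 10), (3, 5), (5, 1), (11, 1)] 13685760).all fun g => ordN g == 13685760 ||
    (ordN g % 5 == 0 && (5 ^ vl 5 (ordN g) - 1) % 2 ^ (10 - vl 2 (ordN g)) != 0)) = true := by decide +kernel

/-- **The structure of a group with the order and two nonadjacent primes of `PSU_n(2)`.** -/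
theorem utwo_core {G : Type u} [Group G] [Finite G] {n : ℕ} (hn : 5 ≤ n) (hn6 : n ≠ 6) (hY : Art.Real (.U n) 2 1 (Nat.card G))
    (hE : ∀ t, t.Prime → t ≠ 2 → (orderOf (-((2 ^ 1 : ℕ) : ZMod t)) = n ∨ orderOf (-((2 ^ 1 : ℕ) : ZMod t)) = n - 1) →
      NoEdge G t 2) :
    ∃ (K : Subgroup G) (_ : K.Normal) (H : Subgroup (G ⧸ K)), IsSimpleGroup H ∧ (¬ ∀ x y : H, x * y = y * x) ∧
      Nat.card H = Nat.card G := by
  have hko : (kk n = n ∧ oo n = n - 1) ∨ (kk n = n - 1 ∧ oo n = n) := by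
    unfold kk oo
    split_ifs <;> omega
  have hkE : Even (kk n) := (dat n (by omega)).even
  have hoO : Odd (oo n) := (dat n (by omega)).odd
  have hk4 : 4 ≤ kk n := by omega
  have ho5 : 5 ≤ oo n := by
    obtain ⟨c, hc⟩ := hoO
    obtain ⟨d, hd⟩ := hkE
    omega
  obtain ⟨r, a, hr, hrp, hra, -, ha3, hro, ha⟩ := NuOrd.exists_prime (p := 2) (f := 1) (v := oo n) Nat.prime_two le_rfl
    (by omega) (by omega)
  obtain ⟨s, b, hs, hsp, hsb, -, hb3, hso, hb⟩ := NuOrd.exists_prime (p := 2) (f := 1) (v := kk n) Nat.prime_two le_rfl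
    (by omega) (by omega)
  have ha' : a = 1 * al (oo n) := by
    rcases ha with h | ⟨-, h, -⟩
    · exact h
    · omega
  have hb' : b = 1 * al (kk n) := by
    rcases hb with h | ⟨-, h, -⟩
    · exact h
    · omega
  have hDM : Art.DM (.U n) = al (oo n) := by rw [DM_U, al_odd hoO]
  have hro' : orderOf ((2 : ℕ) : ZMod r) = 1 * Art.DM (.U n) := by
    rw [order_of_iff Nat.prime_two hra, ha', hDM]
  have hso' : orderOf ((2 : ℕ) : ZMod s) = b := order_of_iff Nat.prime_two hsb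
  have hEr : NoEdge G r 2 := by
    refine hE r hr hrp ?_
    rcases hko with ⟨-, h⟩ | ⟨-, h⟩
    · exact Or.inr (hro.trans h)
    · exact Or.inl (hro.trans h)
  have hEs : NoEdge G s 2 := by
    refine hE s hs hsp ?_
    rcases hko with ⟨h, -⟩ | ⟨h, -⟩
    · exact Or.inl (hso.trans h)
    · exact Or.inr (hso.trans h)
  have hsG : s ∣ Nat.card G := by
    apply hY.dvd_of_dvd_num hs
    · intro h
      -- `s ∣ gcd n 3`
      have h1 : s ∣ 3 := Nat.dvd_trans h (Nat.gcd_dvd_right _ _)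
      have h2 : s = 3 := (Nat.prime_dvd_prime_iff_eq hs Nat.prime_three).1 h1
      have h3 : b ∣ 2 := (hsb 2).1 (by rw [h2]; norm_num)
      have := Nat.le_of_dvd (by norm_num) h3
      omega
    · show s ∣ ∏ i ∈ Finset.range (n - 1), (if Even i then (2 ^ 1) ^ (i + 2) - 1 else (2 ^ 1) ^ (i + 2) + 1)
      refine Dvd.dvd.trans ?_ (Finset.dvd_prod_of_mem _ (Finset.mem_range.2 (by omega : kk n - 2 < n - 1)))
      have he : Even (kk n - 2) := by
        obtain ⟨d, hd⟩ := hkE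
        exact ⟨d - 1, by omega⟩
      rw [if_pos he, pow_one, Nat.sub_add_cancel (by omega), hsb, hb', one_mul]
      rcases al_cases (kk n) with ⟨h, -⟩ | ⟨-, h⟩ | ⟨w, -, h, h'⟩
      · exact absurd h (Nat.not_odd_iff_even.2 hkE)
      · rw [h]
      · rw [h', h]; exact Dvd.intro_left _ rfl
  have hlcm : 1 * Art.NN (.U n) < Nat.lcm (1 * Art.DM (.U n)) b := by
    have h1 := lt_lcm (f := 1) hoO hkE (by
      rw [Nat.coprime_iff_gcd_eq_one, ← Nat.dvd_one]
      rcases hko with ⟨h, h'⟩ | ⟨h, h'⟩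
      · have h3 := Nat.gcd_dvd_left (oo n) (kk n)
        have h4 := Nat.gcd_dvd_right (oo n) (kk n)
        have h5 := Nat.dvd_sub h4 h3
        rwa [show kk n - oo n = 1 by omega] at h5
      · have h3 := Nat.gcd_dvd_left (oo n) (kk n)
        have h4 := Nat.gcd_dvd_right (oo n) (kk n)
        have h5 := Nat.dvd_sub h3 h4
        rwa [show oo n - kk n = 1 by omega] at h5) (by omega) (by omega)
    rw [hDM, hb']
    refine lt_of_lt_of_le ?_ h1
    have h2 : Art.NN (.U n) = n * (n - 1) / 2 := rfl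
    have h3 : oo n * kk n = n * (n - 1) := by
      rcases hko with ⟨h, h'⟩ | ⟨h, h'⟩
      · rw [h, h', mul_comm]
      · rw [h, h']
    rw [h2, h3, one_mul, one_mul]
    have : 0 < n * (n - 1) := Nat.mul_pos (by omega) (by omega)
    omega
  obtain ⟨K, hK, H, h1, h2, h3⟩ := main hY hr hro' (six_le le_rfl (by omega)) hs hso' (by omega) hsG hEr hEs hlcm
    (dom' hY (by simp) hr hrp (by simp) (by
      rintro ⟨h, -⟩
      have : n = 4 := by simpa using h
      omega))
    (dom' hY (by simp) hs hsp (by simp) (by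
      rintro ⟨h, -⟩
      have : n = 4 := by simpa using h
      omega)) (by
      intro S _ _ _ hna δ hd hle hdv hv _ _ _ hfs hrs
      have hk := Cfsg.Agent.S0000.result (G := S)
      rcases elimU hk hna hd hle hY (by omega) hv with h | h
      · exact Or.inl h
      -- `PSU_5(2)`
      have h56 : n = 5 := by
        rcases h with ⟨h, h', -⟩ | ⟨h, h', -⟩ | ⟨h, h', -⟩ | ⟨h, h', -⟩ | ⟨h, h', -⟩ | ⟨h, h', -⟩ | ⟨h, h', -⟩ <;> (clear * - hn h' hn6 h; omega)
      subst h56
      · right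
        have hM := card_of (N := 13685760) hY (by decide +kernel)
        have hs5 : s = 5 := by
          have h4 : kk 5 = 4 := by decide
          have h5 : al 4 = 4 := al_four (by norm_num)
          rw [h4, h5] at hb'
          have h6 : s ∣ 2 ^ 4 - 1 := (hsb 4).2 (by rw [hb'])
          have h7 : s ∣ 3 * 5 := h6
          rcases hs.dvd_mul.1 h7 with h8 | h8
          · exfalso
            have h9 : b ∣ 2 := (hsb 2).1 h8
            have := Nat.le_of_dvd (by norm_num) h9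
            omega
          · exact (Nat.prime_dvd_prime_iff_eq hs Nat.prime_five).1 h8
        rw [hM] at hdv ⊢
        obtain ⟨g, hg, -, ho⟩ := exists_good table hk hna (l := [(2, 10), (3, 5), (5, 1), (11, 1)])
          (by decide +kernel) hdv
        have hc := check52
        rw [List.all_eq_true] at hc
        have hc := hc g hg
        rw [← ho] at hc
        simp only [Bool.or_eq_true, Bool.and_eq_true, beq_iff_eq, bne_iff_ne, ne_eq] at hc
        rcases hc with hc | ⟨hc1, hc2⟩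
        · exact hc
        exfalso
        have hS0 : Nat.card S ≠ 0 := Nat.card_pos.ne'
        have hlt : Nat.card S < 2 ^ 70 := (Nat.le_of_dvd (by norm_num) hdv).trans_lt (by norm_num)
        rw [vl_eq Nat.prime_two hS0 hlt, vl_eq Nat.prime_five hS0 hlt] at hc2
        have h10 : 1 * Art.NN (.U 5) = 10 := rfl
        rw [h10] at hv
        have hδ' : 10 - (Nat.card S).factorization 2 = δ := by omega
        rw [hδ'] at hc2
        have h5 : s ∣ Nat.card S := by rw [hs5]; exact Nat.dvd_of_mod_eq_zero hc1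
        have h6 := hfs h5
        rw [hs5] at h6
        exact hc2 (Nat.mod_eq_zero_of_dvd h6))
  refine ⟨K, hK, H, h1, h2, ?_⟩
  rcases h3 with h | ⟨X, g, h, -⟩
  · exact h
  · exfalso
    rcases h with ⟨-, h, -⟩ | ⟨-, h, -⟩ | ⟨_, -, -, h, -⟩ | ⟨-, h, -⟩ | ⟨-, h, -⟩ | ⟨-, h, -⟩ | ⟨-, h, -⟩ | ⟨-, h, -⟩
    · exact absurd h (by simp)
    · exact absurd h (by simp)
    · exact absurd h (by simp)
    · exact absurd h (by simp)
    · exact absurd h (by simp)
    · exact absurd h (by simp)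
    · have : n = 3 := by simpa using h
      omega
    · exact absurd h (by simp)

/-- **The row `PSU_n(2)`, `n ≥ 5`, `n ≠ 6`**, given the centralizer lattices of the two primitive primes. -/
theorem row_psu_two_of {G : Type u} [Group G] [Finite G] {F : Type v} [Field F] [Fintype F] {n : ℕ} (hn : 5 ≤ n)
    (hn6 : n ≠ 6) (hF : Fintype.card F = 4)
    (hlat : ∀ t : ℕ, t.Prime → t ≠ 2 → (orderOf (-(2 : ZMod t)) = n ∨ orderOf (-(2 : ZMod t)) = n - 1) →
      LatW (PSU n F 2) 2 t)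
    (h : Same G (PSU n F 2)) : IsSimpleGroup G := by
  have : Finite (PSU n F 2) := Quotient.finite _
  have hY : Art.Real (.U n) 2 1 (Nat.card G) := by
    rw [h.card]
    have h0 := PSUFour.psu_real_univ (F := F) (p := 2) (f := 1) (m := n) Nat.prime_two le_rfl (by rw [hF]; norm_num)
      (by omega)
    rwa [pow_one] at h0
  apply OrthRow.isSimple_of
  refine utwo_core hn hn6 hY fun t ht ht2 ho => (hlat t ht ht2 ?_).noEdge ht Nat.prime_two ht2 h
  simpa using ho

end Cfsg.Agent.H370.AAM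
end
end

-- part: H221/CD/ToDat_mg
section
prune_inst 0x311045407cc0000000000090910020246400059000200001d90005420b0f5300000001004e801d00006aa28010400020010800d0420000000a000000000400001028060010700c08000000801084000000000000000000000000000000041004000000000
set_option linter.all false
open scoped Cfsg.Agent.FastGrp

-- part: H221/CD/ToDat
section
/-!
# S3677, row `PΩ⁺(2n, q)`, `n` even: the numerical data (helper221)
-/

set_option autoImplicit false
set_option linter.unusedSectionVars false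

namespace Cfsg.Agent.H221.CD

open Subgroup Cfsg Cfsg.Agent.H364 Cfsg.Agent.H902.Lte Cfsg.Agent.H902.Art Cfsg.Agent.H60.DE

universe u

variable {G : Type u} [Group G] [Finite G] {n p f d m : ℕ} {K : Subgroup G} [K.Normal] {S : Subgroup (G ⧸ K)}

theorem SD.index_pos (_h : SD G n p f d m K S) : 0 < S.index := Nat.pos_of_ne_zero Subgroup.index_ne_zero_of_finite

theorem SD.card_dvd (h : SD G n p f d m K S) : Nat.card S ∣ Nat.card G :=
  ⟨Nat.card K * S.index, by rw [← h.card]; ring⟩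

/-- the parts for the primes not dividing `|K|` -/
theorem SD.P_eq (h : SD G n p f d m K S) {t : ℕ} (ht : t.Prime) (hd : ¬ t ∣ Nat.card K) :
    P t (Nat.card G) = P t (S.index * Nat.card S) := by
  rw [← h.card, P_mul Nat.card_pos.ne' (Nat.mul_ne_zero h.index_pos.ne' Nat.card_pos.ne'), P_eq_one hd, one_mul]

theorem SD.P_dvd (h : SD G n p f d m K S) {t : ℕ} (ht : t.Prime) (hd : ¬ t ∣ Nat.card K) :
    P t (Nat.card G) ∣ S.index * Nat.card S := by
  rw [h.P_eq ht hd, P]
  exact Nat.ordProj_dvd _ _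

theorem SD.dat (h : SD G n p f d m K S) : Dat n p f (Nat.card G) d m (Nat.card S) S.index where
  hn := h.hn
  hev := h.hev
  hY := h.hY
  num := h.num
  hMS := h.card_dvd
  hI0 := h.index_pos
  big := fun t ht htp htm h2 h3 => h.P_dvd ht fun hd => by
    rcases h.kap t ht hd with h4 | h4 | h4 | h4
    · exact htp h4
    · exact htm h4
    · exact h2 h4
    · exact h3 h4
  per := fun r hr ho => h.P_dvd hr (h.not_dvd r hr ho)
  ex := h.ex

/-- the centralizers in `S` -/
theorem SD.cs (h : SD G n p f d m K S) {r : ℕ} (hr : r.Prime) (ho : orderOf ((p ^ f : ℕ) : ZMod r) = d) {y : S}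
    (hy : orderOf y = r) : Nat.card (centralizer ({y} : Set S)) ∣ m := by
  have hy' : orderOf (y : G ⧸ K) = r := by rw [Subgroup.orderOf_coe]; exact hy
  refine dvd_trans ?_ (((h.pp r hr ho).quotient K (h.not_dvd r hr ho)).cent _ hy')
  have hle : (centralizer ({y} : Set S)).map S.subtype ≤ centralizer ({(y : G ⧸ K)} : Set (G ⧸ K)) := by
    rintro _ ⟨x, hx, rfl⟩
    rw [SetLike.mem_coe, mem_centralizer_singleton_iff] at hx
    rw [mem_centralizer_singleton_iff]
    exact congrArg Subtype.val hx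
  have h1 : Nat.card ((centralizer ({y} : Set S)).map S.subtype) = Nat.card (centralizer ({y} : Set S)) :=
    Subgroup.card_map_of_injective S.subtype_injective
  rw [← h1]
  exact Subgroup.card_dvd_of_le hle

/-- **The order of `S` decides.** -/
theorem SD.isSimple (h : SD G n p f d m K S) (hc : Nat.card S = Nat.card G) : IsSimpleGroup G := by
  have hs := h.simple
  have h0 : 0 < Nat.card G := Nat.card_pos
  have h1 : Nat.card K * S.index = 1 := by
    have h2 := h.card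
    rw [hc, ← mul_assoc] at h2
    exact Nat.eq_of_mul_eq_mul_right h0 (h2.trans (one_mul _).symm)
  have hK : K = ⊥ := Subgroup.card_eq_one.1 (Nat.eq_one_of_mul_eq_one_right h1)
  have hS : S = ⊤ := Subgroup.index_eq_one.1 (Nat.eq_one_of_mul_eq_one_left h1)
  subst hS
  have h4 : IsSimpleGroup (G ⧸ K) := (Subgroup.topEquiv (G := G ⧸ K)).symm.isSimpleGroup
  have hinj : Function.Injective (QuotientGroup.mk' K) := by
    rw [← MonoidHom.ker_eq_bot_iff, QuotientGroup.ker_mk', hK]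
  exact (MulEquiv.ofBijective (QuotientGroup.mk' K) ⟨hinj, QuotientGroup.mk'_surjective K⟩).isSimpleGroup

end Cfsg.Agent.H221.CD
end

-- part: H60/DE/Own
section
/-!
# `PΩ⁺(2n, q)`, `n ≥ 6` even: the simple factor in the natural characteristic (helper60, S3677)
-/

set_option autoImplicit false

namespace Cfsg.Agent.H60.DE

open Cfsg.Agent.H902.Lte Cfsg.Agent.H902.Art Cfsg.Agent.H365.Near Cfsg.Agent.H364.SpShape Cfsg.Agent.Lib.Zsigmondy

variable {X : Sh} {p g f M M' : ℕ}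

/-- the combinatorial part -/
theorem shape_le {n j : ℕ} (hX : Real X p g M') (hn : 6 ≤ n) (hk : kap X + 2 * j = 2 * n)
    (hB : (n - 2) * DM X ≤ (n - 1) * BM X) : j ≤ 2 := by
  have hok := hX.ok
  obtain ⟨m, rfl⟩ : ∃ m, n = m + 2 := ⟨n - 2, by omega⟩
  rw [show m + 2 - 2 = m by omega, show m + 2 - 1 = m + 1 by omega] at *
  have key : ∀ {a c d : ℕ}, m * (c * (a + d)) ≤ (m + 1) * (c * a) → 1 ≤ c → d * m ≤ a := by
    intro a c d h hc
    have h1 : c * (m * (a + d)) ≤ c * ((m + 1) * a) := by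
      calc c * (m * (a + d)) = m * (c * (a + d)) := by ring
        _ ≤ _ := h
        _ = _ := by ring
    have h2 := Nat.le_of_mul_le_mul_left h1 (by omega)
    have e1 : m * (a + d) = m * a + d * m := by ring
    have e2 : (m + 1) * a = m * a + a := by ring
    omega
  cases X with
  | L l =>
    have hl : 2 ≤ l := hok.1
    have h1 : 2 * (l - 1) + 2 * j = 2 * (m + 2) := hk
    have h2 : m * l ≤ (m + 1) * (l - 1) := hB
    obtain ⟨a, rfl⟩ : ∃ a, l = a + 1 := ⟨l - 1, by omega⟩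
    rw [Nat.add_sub_cancel] at h1 h2
    have h3 := key (a := a) (c := 1) (d := 1) (by rw [one_mul, one_mul]; exact h2) le_rfl
    omega
  | C l =>
    have hl : 2 ≤ l := hok.1
    have h1 : 2 * l + 2 * j = 2 * (m + 2) := hk
    have h2 : m * (2 * l) ≤ (m + 1) * (2 * (l - 1)) := hB
    obtain ⟨a, rfl⟩ : ∃ a, l = a + 1 := ⟨l - 1, by omega⟩
    rw [Nat.add_sub_cancel] at h2
    have h3 := key h2 (by norm_num)
    omega
  | U l =>
    have hl : 3 ≤ l := hok.1
    by_cases hev : Even l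
    · have h1 : l + 2 * j = 2 * (m + 2) := by
        have : kap (.U l) = l := if_pos hev
        rw [this] at hk; exact hk
      have h3 : DM (.U l) = 2 * (l - 1) := if_pos hev
      have h4 : BM (.U l) = if l = 4 then 4 else 2 * (l - 3) := if_pos hev
      rw [h3, h4] at hB
      split_ifs at hB with h5
      · subst h5
        omega
      · have : l ≠ 3 := by rintro rfl; exact absurd hev (by decide)
        obtain ⟨a, rfl⟩ : ∃ a, l = a + 3 := ⟨l - 3, by omega⟩
        rw [show a + 3 - 1 = a + 2 by (clear * -; omega), show a + 3 - 3 = a by omega] at hB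
        have h6 := key hB (by norm_num)
        omega
    · have h1 : l - 1 + 2 * j = 2 * (m + 2) := by
        have : kap (.U l) = l - 1 := if_neg hev
        rw [this] at hk; exact hk
      have h3 : DM (.U l) = 2 * l := if_neg hev
      have h4 : BM (.U l) = 2 * (l - 2) := if_neg hev
      rw [h3, h4] at hB
      obtain ⟨a, rfl⟩ : ∃ a, l = a + 2 := ⟨l - 2, by omega⟩
      rw [show a + 2 - 2 = a by omega] at hB
      have h6 := key hB (by norm_num)
      omega
  | D l =>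
    have hl : 4 ≤ l := hok
    have h1 : 2 * l + 2 * j = 2 * (m + 2) := hk
    have h2 : m * (2 * (l - 1)) ≤ (m + 1) * (2 * (l - 2)) := hB
    obtain ⟨a, rfl⟩ : ∃ a, l = a + 2 := ⟨l - 2, by omega⟩
    rw [show a + 2 - 1 = a + 1 by omega, show a + 2 - 2 = a by omega] at h2
    have h3 := key h2 (by norm_num)
    omega
  | DD l =>
    have hl : 4 ≤ l := hok
    have h1 : 2 * (l - 1) + 2 * j = 2 * (m + 2) := hk
    have h2 : m * (2 * l) ≤ (m + 1) * (2 * (l - 1)) := hB
    obtain ⟨a, rfl⟩ : ∃ a, l = a + 1 := ⟨l - 1, by omega⟩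
    rw [Nat.add_sub_cancel] at h1 h2
    have h3 := key h2 (by norm_num)
    omega
  | G2 =>
    have h2 : m * 6 ≤ (m + 1) * 2 := hB
    omega
  | F4 =>
    have h2 : m * 12 ≤ (m + 1) * 8 := hB
    omega
  | E6 =>
    have h2 : m * 12 ≤ (m + 1) * 9 := hB
    omega
  | E7 =>
    have h2 : m * 18 ≤ (m + 1) * 14 := hB
    omega
  | E8 =>
    have h1 : 16 + 2 * j = 2 * (m + 2) := hk
    have h2 : m * 30 ≤ (m + 1) * 24 := hB
    omega
  | TE6 =>
    have h2 : m * 18 ≤ (m + 1) * 12 := hB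
    omega
  | TD4 =>
    have h2 : m * 12 ≤ (m + 1) * 6 := hB
    omega
  | Sz =>
    have h2 : m * 4 ≤ (m + 1) * 1 := hB
    omega
  | Ree =>
    have h2 : m * 6 ≤ (m + 1) * 1 := hB
    omega
  | TF4 =>
    have h2 : m * 12 ≤ (m + 1) * 6 := hB
    omega

/-- **The order of `S` in the natural characteristic.** -/
theorem own {n j δ r s : ℕ} (hX : Real X p g M') (hY : Real (.D n) p f M) (hn : 6 ≤ n)
    (hdvd : M' ∣ M)
    (hr : r.Prime) (hro : orderOf (p : ZMod r) = f * (2 * (n - 1))) (hrM : r ∣ M')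
    (hs : s.Prime) (hso : orderOf (p : ZMod s) = f * (2 * (n - 2))) (hsM : s ∣ M')
    (hexp : g * NN X + f * (n - 1) * j + δ = f * (n * (n - 1))) (hj : j = 0 ∨ 3 ≤ j) (h24 : p ^ δ ∣ 24 * g)
    (h6 : p = 2 → 2 ^ δ ∣ 6 * g) : M' = M := by
  have hf := hY.hf
  have hg := hX.hf
  have hDY : DM (.D n) = 2 * (n - 1) := rfl
  have hG10 : 10 ≤ f * DM (.D n) := by
    rw [hDY]
    calc 10 ≤ 2 * (n - 1) := by omega
      _ ≤ _ := Nat.le_mul_of_pos_left _ hf
  have hD : g * DM X = f * DM (.D n) := by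
    rcases D_cases hX hY hdvd hr (by rw [hDY]; exact hro) (by omega) hrM with h | ⟨-, -, h⟩
    · exact h
    · omega
  have hge := (DM_ge hX).1
  have h2g : 2 * g ≤ f * DM (.D n) := by rw [← hD]; nlinarith only [hge]
  have hδ := delta_lt2 hX.hp h24 h6 hg h2g (by omega)
  -- the invariant `kap`
  have h1 : 4 * (g * NN X) = (g * DM X) * kap X := by
    calc 4 * (g * NN X) = g * (4 * NN X) := by ring
      _ = _ := by rw [four_NN hX]; ring
  rw [hD, hDY] at h1
  rw [hDY] at hδ hG10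
  have hk2 := kap_even hX
  have hk : kap X + 2 * j = 2 * n ∧ δ = 0 := by
    have h2 : f * (2 * (n - 1)) * (kap X + 2 * j) + 4 * δ = f * (2 * (n - 1)) * (2 * n) := by
      have e : 4 * (g * NN X + f * (n - 1) * j + δ) = 4 * (f * (n * (n - 1))) := by rw [hexp]
      have e2 : f * (2 * (n - 1)) * (kap X + 2 * j) + 4 * δ =
        f * (2 * (n - 1)) * kap X + 4 * (f * (n - 1) * j) + 4 * δ := by ring
      have e3 : f * (2 * (n - 1)) * (2 * n) = 4 * (f * (n * (n - 1))) := by ring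
      rw [e2, e3, ← h1, ← e]; ring
    generalize f * (2 * (n - 1)) = G at *
    have h3 : kap X + 2 * j ≤ 2 * n := by
      by_contra hcon
      have h4 : G * (2 * n + 1) ≤ G * (kap X + 2 * j) := Nat.mul_le_mul_left _ (by omega)
      have h5 : G * (2 * n + 1) = G * (2 * n) + G := by ring
      omega
    have h6 : ¬ kap X + 2 * j < 2 * n := by
      intro hcon
      have h4 : G * (kap X + 2 * j + 2) ≤ G * (2 * n) := Nat.mul_le_mul_left _ (by omega)
      have h5 : G * (kap X + 2 * j + 2) = G * (kap X + 2 * j) + 2 * G := by ring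
      omega
    have h7 : kap X + 2 * j = 2 * n := by (clear * - h3 h6; omega)
    refine ⟨h7, ?_⟩
    rw [h7] at h2
    omega
  obtain ⟨hk, rfl⟩ := hk
  -- the second exponent
  have hsp : s ≠ p := ne_of_order hs (show 1 ≤ f * (2 * (n - 2)) from Nat.mul_pos hf (by (clear * - hn; omega))) hso
  have hB : (n - 2) * DM X ≤ (n - 1) * BM X := by
    rcases hX.order_cases hs hsp hsM with h | ⟨e, he, heB, h⟩
    · exfalso
      rw [hso, hD, hDY] at h
      have h4 : 2 * (n - 2) ∣ 2 * (n - 1) := Nat.dvd_of_mul_dvd_mul_left hf h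
      have h5 : 2 * (n - 2) ∣ 2 := by
        have := Nat.dvd_sub h4 (dvd_refl (2 * (n - 2)))
        rwa [show 2 * (n - 1) - 2 * (n - 2) = 2 by (clear * - hn; omega)] at this
      have := Nat.le_of_dvd (by norm_num) h5
      (clear * - hn this; omega)
    · rw [hso] at h
      have h4 : f * (2 * (n - 2)) ≤ g * BM X :=
        (Nat.le_of_dvd (Nat.mul_pos hg he) h).trans (Nat.mul_le_mul_left _ heB)
      have h5 : f * (2 * (n - 2)) * DM X ≤ f * (2 * (n - 1)) * BM X := by
        calc f * (2 * (n - 2)) * DM X ≤ g * BM X * DM X := Nat.mul_le_mul_right _ h4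
          _ = g * DM X * BM X := by ring
          _ = _ := by rw [hD, hDY]
      have h6 : (2 * f) * ((n - 2) * DM X) ≤ (2 * f) * ((n - 1) * BM X) := by
        calc (2 * f) * ((n - 2) * DM X) = f * (2 * (n - 2)) * DM X := by ring
          _ ≤ _ := h5
          _ = _ := by ring
      exact Nat.le_of_mul_le_mul_left h6 (by omega)
  have hj2 := shape_le hX hn hk hB
  have hj0 : j = 0 := by (clear * - hj hj2; omega)
  subst hj0
  have hN : f * NN (.D n) - g * NN X = 0 := by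
    have : NN (.D n) = n * (n - 1) := rfl
    rw [this]
    omega
  rcases near_out hX hY hdvd hr (by rw [hDY]; exact hro) (by rw [hDY]; omega) hrM (by rw [hN]; exact one_dvd _)
    (by rw [hN]; exact fun _ => one_dvd _) with ⟨rfl, rfl⟩ | h
  · have h1 := hX.eq
    rw [← hY.eq] at h1
    exact Nat.eq_of_mul_eq_mul_left (Nat.pos_of_ne_zero hY.dd_ne) h1
  · exfalso
    rcases h with ⟨-, h, -⟩ | ⟨-, h, -⟩ | ⟨_, -, -, h, -⟩ | ⟨-, h, -⟩ | ⟨-, h, -⟩ | ⟨-, h, -⟩ | ⟨-, h, -⟩ | ⟨-, h, -⟩ <;>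
      exact absurd h (by simp)

end Cfsg.Agent.H60.DE
end

-- part: H60/DE/Arith
section
/-!
# `PΩ⁺(2n, q)`, `n` even: orders modulo the prime divisors of `m` (helper60, S3677)
-/

set_option autoImplicit false

namespace Cfsg.Agent.H60.DE

open Cfsg.Agent.H902.Lte Cfsg.Agent.H902.Art Cfsg.Agent.H364 Cfsg.Agent.H364.DCross
open Cfsg.Agent.Lib.Zsigmondy (dvd_pow_sub_one_iff)

variable {n p f q M d m MS I : ℕ}

/-- the orders modulo the prime divisors of `m` -/
theorem Num.ord_dvd (h : Num n q d m) (hq : 2 ≤ q) {t : ℕ} (ht : t ∣ m) (htp : t.Prime) :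
    orderOf ((q : ℕ) : ZMod t) ∣ 2 * (n - 1) ∧ (d = n - 1 → 2 * (n - 1) ≠ d → orderOf ((q : ℕ) : ZMod t) ∣ n - 1) := by
  have hq1 : 1 ≤ q := by omega
  rcases h with ⟨hd, hm, -⟩ | ⟨hd, hm, -⟩
  · have h1 : t ∣ (q ^ (n - 1) + 1) * (q + 1) := by rw [← hm]; exact ht.mul_right _
    refine ⟨?_, fun h1 h2 => absurd hd.symm h2⟩
    rw [← dvd_pow_sub_one_iff hq1]
    rcases htp.dvd_mul.1 h1 with h2 | h2
    · refine h2.trans ⟨q ^ (n - 1) - 1, ?_⟩
      obtain ⟨c, hc⟩ := Nat.exists_eq_add_of_le' (Nat.one_le_pow (n - 1) q hq1)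
      rw [two_mul, pow_add, hc]
      have : (c + 1) * (c + 1) = (c + 1 + 1) * c + 1 := by ring
      rw [this]
      simp only [_root_.add_tsub_cancel_right]
    · have h3 : t ∣ q ^ 2 - 1 := by
        refine h2.trans ⟨q - 1, ?_⟩
        obtain ⟨c, rfl⟩ := Nat.exists_eq_add_of_le' hq1
        have : (c + 1) ^ 2 = (c + 1 + 1) * c + 1 := by ring
        rw [this]
        simp only [_root_.add_tsub_cancel_right]
      refine h3.trans ?_
      rw [pow_mul]
      exact Nat.sub_one_dvd_pow_sub_one _ _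
  · have h1 : t ∣ (q ^ (n - 1) - 1) * (q - 1) := by rw [← hm]; exact ht.mul_right _
    have h2 : t ∣ q ^ (n - 1) - 1 := by
      rcases htp.dvd_mul.1 h1 with h2 | h2
      · exact h2
      · exact h2.trans (Nat.sub_one_dvd_pow_sub_one _ _)
    rw [dvd_pow_sub_one_iff hq1] at h2
    exact ⟨h2.mul_left 2, fun _ _ => h2⟩

theorem Num.d_cases (h : Num n q d m) : d = 2 * (n - 1) ∨ d = n - 1 := by
  rcases h with ⟨hd, -⟩ | ⟨hd, -⟩
  · exact Or.inl hd
  · exact Or.inr hd

/-- a large prime not in the class `d` does not divide `m` -/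
theorem Num.not_dvd (h : Num n q d m) (hn : 4 ≤ n) (hev : n % 2 = 0) (hq : 2 ≤ q) {r : ℕ} (hr : r.Prime) (hr2 : r ≠ 2)
    (ho : n / 2 < orderOf ((q ^ 2 : ℕ) : ZMod r)) (hne : orderOf ((q : ℕ) : ZMod r) ≠ d) : ¬ r ∣ m := by
  intro hrm
  have hq1 : 1 ≤ q := by omega
  have hq2 : 1 ≤ q ^ 2 := Nat.one_le_pow _ _ hq1
  obtain ⟨h1, h1'⟩ := h.ord_dvd hq hrm hr
  have h2 : orderOf ((q ^ 2 : ℕ) : ZMod r) ∣ n - 1 := by
    rw [← dvd_pow_sub_one_iff hq2, ← pow_mul, dvd_pow_sub_one_iff hq1]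
    exact h1
  have h3 : orderOf ((q ^ 2 : ℕ) : ZMod r) = n - 1 := by
    obtain ⟨c, hc⟩ := h2
    have hc0 : c ≠ 0 := by rintro rfl; omega
    have hc1 : c = 1 := by
      by_contra hc1
      have h4 : orderOf ((q ^ 2 : ℕ) : ZMod r) * 2 ≤ orderOf ((q ^ 2 : ℕ) : ZMod r) * c := Nat.mul_le_mul_left _ (by omega)
      omega
    rw [hc1, mul_one] at hc
    exact hc.symm
  have h4 : n - 1 ∣ orderOf ((q : ℕ) : ZMod r) := by
    rw [← h3]
    push_cast
    exact orderOf_pow_dvd _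
  obtain ⟨c, hc⟩ := h4
  have hc2 : c ∣ 2 := by
    rw [hc, mul_comm 2] at h1
    exact Nat.dvd_of_mul_dvd_mul_left (by omega) h1
  have hc3 : c = 1 ∨ c = 2 := (Nat.dvd_prime Nat.prime_two).1 hc2
  rcases h with ⟨hd, hm, -⟩ | ⟨hd, hm, -⟩
  · rcases hc3 with rfl | rfl
    · -- `r ∣ q ^ (n - 1) - 1`
      have h5 : r ∣ q ^ (n - 1) - 1 := by
        rw [dvd_pow_sub_one_iff hq1, hc, mul_one]
      have h6 : r ∣ (q ^ (n - 1) + 1) * (q + 1) := by rw [← hm]; exact hrm.mul_right _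
      rcases hr.dvd_mul.1 h6 with h7 | h7
      · have h8 := Nat.dvd_sub h7 h5
        have h9 : 1 ≤ q ^ (n - 1) := Nat.one_le_pow _ _ hq1
        rw [show q ^ (n - 1) + 1 - (q ^ (n - 1) - 1) = 2 by omega] at h8
        exact hr2 ((Nat.prime_dvd_prime_iff_eq hr Nat.prime_two).1 h8)
      · have h8 : r ∣ (q ^ 2) ^ 1 - 1 := by
          refine h7.trans ⟨q - 1, ?_⟩
          obtain ⟨c, rfl⟩ := Nat.exists_eq_add_of_le' hq1
          have : ((c + 1) ^ 2) ^ 1 = (c + 1 + 1) * c + 1 := by ring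
          rw [this]
          simp only [_root_.add_tsub_cancel_right]
        rw [dvd_pow_sub_one_iff hq2] at h8
        have := Nat.le_of_dvd one_pos h8
        omega
    · exact hne (by rw [hc, hd]; ring)
  · have h5 := h1' hd (by omega)
    rw [hc] at h5
    rcases hc3 with rfl | rfl
    · exact hne (by rw [hc, hd]; ring)
    · have := Nat.le_of_dvd (by omega) h5
      omega

theorem order_sq_two_le : orderOf ((q ^ 2 : ℕ) : ZMod 2) ≤ 1 := by
  have h5 : ((q ^ 2 : ℕ) : ZMod 2) = 0 ∨ ((q ^ 2 : ℕ) : ZMod 2) = 1 := by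
    generalize ((q ^ 2 : ℕ) : ZMod 2) = x
    revert x
    decide
  rcases h5 with h5 | h5
  · rw [h5]
    have h6 : orderOf (0 : ZMod 2) = 0 := by
      rw [orderOf_eq_zero_iff']
      intro m hm
      rw [zero_pow (by omega)]
      decide
    omega
  · rw [h5, orderOf_one]

/-- the parts with large orders divide `I * |S|` -/
theorem Dat.frd (h : Dat n p f M d m MS I) : FrD n (p ^ f) I MS := by
  obtain ⟨hn, hev, hY, hnum, hMS, hI0, hbig, hper, -⟩ := h
  have hq := hY.q_ge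
  intro t ht hbig'
  have ht0 : t ≠ 0 := by
    rintro rfl
    exact SpVal.AA_ne hq (Nat.eq_zero_of_zero_dvd ht)
  have hMS0 : I * MS ≠ 0 := by
    have h1 : M ≠ 0 := hY.M_ne
    have h2 : MS ≠ 0 := by
      rintro rfl
      exact h1 (Nat.eq_zero_of_zero_dvd hMS)
    exact Nat.mul_ne_zero (by omega) h2
  rw [← Nat.factorization_le_iff_dvd ht0 hMS0]
  intro r
  by_cases hr : r.Prime
  swap
  · rw [Nat.factorization_eq_zero_of_not_prime _ hr]; exact Nat.zero_le _
  by_cases hrt : r ∣ t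
  swap
  · rw [Nat.factorization_eq_zero_of_not_dvd hrt]; exact Nat.zero_le _
  have ho := hbig' r hr hrt
  have hrq : ¬ r ∣ p ^ f := SpSmall.not_dvd_of_AA hq hr (hrt.trans ht)
  have hr2 : r ≠ 2 := by
    rintro rfl
    have := order_sq_two_le (q := p ^ f)
    omega
  have hrp : r ≠ p := by
    rintro rfl
    exact hrq (dvd_pow_self r (by have := hY.hf; omega))
  have hP : P r M ∣ I * MS := by
    by_cases hd : orderOf ((p ^ f : ℕ) : ZMod r) = d
    · exact hper r hr hd
    · refine hbig r hr hrp (hnum.not_dvd hn hev hq hr hr2 ho hd) ?_ (fun h => hr2 h.2)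
      rintro ⟨h1, rfl⟩
      rw [h1] at ho
      have h2 : orderOf ((2 ^ 2 : ℕ) : ZMod 3) = 1 := by
        rw [orderOf_eq_one_iff]; decide
      omega
  rw [← hr.pow_dvd_iff_le_factorization hMS0]
  refine dvd_trans ?_ hP
  rw [P]
  refine pow_dvd_pow r ?_
  rw [← hr.pow_dvd_iff_le_factorization hY.M_ne]
  have h1 : r ^ t.factorization r ∣ dd (.D n) (p ^ f) * M := by
    rw [hY.eq]
    exact (((Nat.ordProj_dvd t r).trans ht).mul_left _).mul_left _
  refine Nat.Coprime.dvd_of_dvd_mul_left ?_ h1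
  apply Nat.Coprime.pow_left
  apply Nat.Coprime.coprime_dvd_right (Nat.gcd_dvd_left _ _)
  show Nat.Coprime r (2 ^ 2)
  apply Nat.Coprime.pow_right
  exact (Nat.coprime_primes hr Nat.prime_two).2 hr2

/-- a prime of `p`-order `f * k` has `q`-order `k` -/
theorem ord_q {p f r k : ℕ} (hf : 1 ≤ f) (ho : orderOf (p : ZMod r) = f * k) : orderOf ((p ^ f : ℕ) : ZMod r) = k := by
  push_cast
  rw [orderOf_pow' _ (by omega), ho, Nat.gcd_eq_right (Dvd.intro _ rfl)]
  exact Nat.mul_div_cancel_left _ (by omega)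

/-- and `q ^ 2`-order `k / 2` -/
theorem ord_sq {q r k : ℕ} (ho : orderOf ((q : ℕ) : ZMod r) = 2 * k) :
    orderOf ((q ^ 2 : ℕ) : ZMod r) = k := by
  push_cast
  rw [orderOf_pow' _ (by omega), ho, Nat.gcd_eq_right (Dvd.intro _ rfl)]
  exact Nat.mul_div_cancel_left _ (by omega)

theorem Dat.dvd_of_ord (h : Dat n p f M d m MS I) {r k : ℕ} (hr : r.Prime) (hk1 : n / 2 < k) (hk2 : k < n)
    (ho : orderOf (p : ZMod r) = f * (2 * k)) : r ∣ I * MS := by
  have hq := h.hY.q_ge
  have h1 := ord_q h.hY.hf ho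
  refine h.frd r ?_ fun r' hr' hd => ?_
  · have h2 : r ∣ (p ^ f) ^ (2 * k) - 1 :=
      (Cfsg.Agent.Lib.Zsigmondy.dvd_pow_sub_one_iff (a := p ^ f) (by omega) _).2 (by rw [h1])
    refine h2.trans ?_
    rw [SpVal.AA]
    have h8 := Finset.dvd_prod_of_mem (fun i => (p ^ f) ^ (2 * (i + 1)) - 1) (show k - 1 ∈ Finset.range (n - 1) by
      rw [Finset.mem_range]; omega)
    rwa [show k - 1 + 1 = k by omega] at h8
  · have h3 := (Nat.prime_dvd_prime_iff_eq hr' hr).1 hd
    subst h3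
    rwa [ord_sq h1]

end Cfsg.Agent.H60.DE
end

-- part: H429/CS/OutD
section
/-!
# Outer automorphism groups: light versions of some lemmas of helper364 (helper429, S3677)
-/

set_option autoImplicit false

namespace Cfsg.Agent.H429.CS.OutD

open Cfsg.Agent.H902 Cfsg.Agent.H902.Art

variable {X Y : Sh} {p f g MX MY : ℕ}

/-- a prime `t ≥ 5` dividing `dd X` -/
theorem dd_cases (hX : Real X p g MX) {t : ℕ} (ht5 : 5 ≤ t) (h : t ∣ dd X (p ^ g)) :
    (orderOf (p : ZMod t) ∣ g ∧ ∃ n, X = .L n) ∨ (orderOf (p : ZMod t) ∣ 2 * g ∧ ∃ n, X = .U n) := by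
  have hle : ∀ {a : ℕ}, t ∣ Nat.gcd a 4 → False := fun {a} h => by
    have := Nat.le_of_dvd (by norm_num) (h.trans (Nat.gcd_dvd_right _ _)); omega
  have hl4 : ∀ {a : ℕ}, t ∣ Nat.gcd 4 a → False := fun {a} h => by
    have := Nat.le_of_dvd (by norm_num) (h.trans (Nat.gcd_dvd_left _ _)); omega
  have hl3 : ∀ {a : ℕ}, t ∣ Nat.gcd 3 a → False := fun {a} h => by
    have := Nat.le_of_dvd (by norm_num) (h.trans (Nat.gcd_dvd_left _ _)); omega
  have hl2 : ∀ {a : ℕ}, t ∣ Nat.gcd 2 a → False := fun {a} h => by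
    have := Nat.le_of_dvd (by norm_num) (h.trans (Nat.gcd_dvd_left _ _)); omega
  have hl1 : t ∣ 1 → False := fun h => by have := Nat.le_of_dvd (by norm_num) h; omega
  cases X with
  | L n =>
    left
    have h1 : t ∣ (p ^ g) ^ 1 - 1 := by rw [pow_one]; exact Nat.dvd_trans h (Nat.gcd_dvd_right _ _)
    exact ⟨by have := (dvd_iff hX.hp 1).1 h1; rwa [mul_one] at this, n, rfl⟩
  | U n =>
    right
    have h1 : t ∣ (p ^ g) ^ 1 + 1 := by rw [pow_one]; exact Nat.dvd_trans h (Nat.gcd_dvd_right _ _)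
    exact ⟨by have := dvd_of_add hX.hp h1; rwa [mul_one, mul_comm] at this, n, rfl⟩
  | C n => exact (hl2 h).elim
  | D n => exact (hl4 h).elim
  | DD n => exact (hl4 h).elim
  | G2 => exact (hl1 h).elim
  | F4 => exact (hl1 h).elim
  | E6 => exact (hl3 h).elim
  | E7 => exact (hl2 h).elim
  | E8 => exact (hl1 h).elim
  | TE6 => exact (hl3 h).elim
  | TD4 => exact (hl1 h).elim
  | Sz => exact (hl1 h).elim
  | Ree => exact (hl1 h).elim
  | TF4 => exact (hl1 h).elim

/-- the data of an outer automorphism group -/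
structure OutDat (X : Sh) (p g I : ℕ) : Prop where
  ex : ∃ c, I ∣ c * g ∧ c ∣ 24 * dd X (p ^ g) ∧ (p = 2 → c ∣ 6 * dd X (p ^ g))

theorem OutDat.prime (hX : Real X p g MX) {I : ℕ} (hI : OutDat X p g I) {t : ℕ} (ht : t.Prime) (ht5 : 5 ≤ t)
    (h : t ∣ I) : t ∣ g ∨ (orderOf (p : ZMod t) ∣ g ∧ ∃ n, X = .L n) ∨ (orderOf (p : ZMod t) ∣ 2 * g ∧ ∃ n, X = .U n) := by
  obtain ⟨c, h1, h2, -⟩ := hI.ex
  rcases ht.dvd_mul.1 (h.trans h1) with h3 | h3
  · rcases ht.dvd_mul.1 (h3.trans h2) with h4 | h4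
    · exfalso
      have h5 : t ∣ 2 ^ 3 * 3 := h4
      rcases ht.dvd_mul.1 h5 with h6 | h6
      · have := Nat.le_of_dvd (by norm_num) (ht.dvd_of_dvd_pow h6); omega
      · have := Nat.le_of_dvd (by norm_num) h6; omega
    · exact Or.inr (dd_cases hX ht5 h4)
  · exact Or.inl h3

/-- the power of `p` in the index divides `24 g` -/
theorem OutDat.dvd {I δ : ℕ} (hX : Real X p g MX) (hI : OutDat X p g I) (h : p ^ δ ∣ I) :
    p ^ δ ∣ 24 * g ∧ (p = 2 → 2 ^ δ ∣ 6 * g) := by
  have hp := hX.hp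
  have hcop : Nat.Coprime (p ^ δ) (Art.dd X (p ^ g)) :=
    Nat.Coprime.pow_left δ ((Nat.Prime.coprime_iff_not_dvd hp).2 hX.not_dvd_dd)
  obtain ⟨c, h1, h2, h3⟩ := hI.ex
  constructor
  · have h5 : p ^ δ ∣ Art.dd X (p ^ g) * (24 * g) := (h.trans h1).trans (by
      rw [show Art.dd X (p ^ g) * (24 * g) = 24 * Art.dd X (p ^ g) * g by ring]
      exact Nat.mul_dvd_mul_right h2 g)
    exact hcop.dvd_of_dvd_mul_left h5
  · rintro rfl
    have h5 : 2 ^ δ ∣ Art.dd X (2 ^ g) * (6 * g) := (h.trans h1).trans (by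
      rw [show Art.dd X (2 ^ g) * (6 * g) = 6 * Art.dd X (2 ^ g) * g by ring]
      exact Nat.mul_dvd_mul_right (h3 rfl) g)
    exact hcop.dvd_of_dvd_mul_left h5

/-- a prime of order `k ≥ 3` -/
theorem ne_of_order' {q r k : ℕ} (hr : r.Prime) (hk : 3 ≤ k) (h : orderOf (q : ZMod r) = k) :
    k < r ∧ ¬ r ∣ q := by
  have := Fact.mk hr
  have hq0 : (q : ZMod r) ≠ 0 := by
    intro h0
    rw [h0] at h
    have h1 : (0 : ZMod r) ^ k = 1 := by rw [← h]; exact pow_orderOf_eq_one _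
    rw [zero_pow (by omega)] at h1
    exact zero_ne_one h1
  constructor
  · have h1 : k ∣ r - 1 := by
      rw [← h]
      exact orderOf_dvd_of_pow_eq_one (ZMod.pow_card_sub_one_eq_one hq0)
    have := Nat.le_of_dvd (by have := hr.two_le; omega) h1
    have := hr.two_le
    omega
  · intro hd
    exact hq0 ((ZMod.natCast_eq_zero_iff q r).2 hd)

end Cfsg.Agent.H429.CS.OutD
end

-- part: H429/CD/Base
section
/-!
# S3677, row `PΩ⁺(2n, q)`, `n` even: consequences of `SD` (helper429)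
-/

set_option autoImplicit false

namespace Cfsg.Agent.H429.CD

open Subgroup Cfsg Cfsg.Agent.H364 Cfsg.Agent.H902.Lte Cfsg.Agent.H902.Art Cfsg.Agent.H60.DE Cfsg.Agent.H221.CD
open Cfsg.Agent.H429.CS (PP)

universe u

variable {n q d m p f r : ℕ}

/-- the prime divisors of `m` are prime to `q` -/
theorem coprime_q (h : Num n q d m) (hn : 4 ≤ n) (hq : 2 ≤ q) {t : ℕ} (ht : t.Prime) (htm : t ∣ m) : ¬ t ∣ q := by
  intro htq
  have h1 : 1 ≤ q ^ (n - 1) := Nat.one_le_pow _ _ (by omega)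
  have h2 : t ∣ q ^ (n - 1) := dvd_pow htq (by omega)
  have key1 : ¬ t ∣ q ^ (n - 1) + 1 := fun h3 => ht.one_lt.ne' (Nat.dvd_one.1 ((Nat.dvd_add_right h2).1 h3))
  have key2 : ¬ t ∣ q + 1 := fun h3 => ht.one_lt.ne' (Nat.dvd_one.1 ((Nat.dvd_add_right htq).1 h3))
  have key3 : ¬ t ∣ q ^ (n - 1) - 1 := fun h3 => by
    have h4 := Nat.dvd_sub h2 h3
    rw [Nat.sub_sub_self h1] at h4
    exact ht.one_lt.ne' (Nat.dvd_one.1 h4)
  have key4 : ¬ t ∣ q - 1 := fun h3 => by
    have h4 := Nat.dvd_sub htq h3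
    rw [Nat.sub_sub_self (by omega : 1 ≤ q)] at h4
    exact ht.one_lt.ne' (Nat.dvd_one.1 h4)
  rcases h with ⟨-, h, -⟩ | ⟨-, h, -⟩
  · have h5 : t ∣ (q ^ (n - 1) + 1) * (q + 1) := by rw [← h]; exact htm.mul_right _
    rcases ht.dvd_mul.1 h5 with h6 | h6
    · exact key1 h6
    · exact key2 h6
  · have h5 : t ∣ (q ^ (n - 1) - 1) * (q - 1) := by rw [← h]; exact htm.mul_right _
    rcases ht.dvd_mul.1 h5 with h6 | h6
    · exact key3 h6
    · exact key4 h6

/-- the exceptional primes do not divide `m` -/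
theorem exc_not_dvd (h : Num n q d m) (hn : 4 ≤ n) (hev : n % 2 = 0) {t : ℕ} (he : (q = 2 ∧ t = 3) ∨ (q = 3 ∧ t = 2)) :
    ¬ t ∣ m := by
  intro htm
  obtain ⟨k, rfl⟩ : ∃ k, n = 2 * k + 2 := ⟨n / 2 - 1, by omega⟩
  rw [H60.DE.Num, show 2 * k + 2 - 1 = 2 * k + 1 by omega] at h
  rcases he with ⟨rfl, rfl⟩ | ⟨rfl, rfl⟩
  · rcases h with ⟨-, -, h⟩ | ⟨-, h, -⟩
    · omega
    · have h5 : 3 ∣ (2 ^ (2 * k + 1) - 1) * (2 - 1) := by rw [← h]; exact htm.mul_right _
      rw [show 2 - 1 = 1 from rfl, mul_one] at h5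
      have h6 : 2 ^ (2 * k) % 3 = 1 := by
        rw [pow_mul, Nat.pow_mod]
        norm_num
      rw [pow_succ] at h5
      omega
  · rcases h with ⟨-, -, h⟩ | ⟨-, h, -⟩
    · omega
    · have h7 : 9 ^ (k + 1) % 16 = 9 ∨ 9 ^ (k + 1) % 16 = 1 := by
        induction k with
        | zero => left; rfl
        | succ k ih =>
          rcases Nat.lt_or_ge k 1 with hk | hk
          · obtain rfl : k = 0 := by omega
            right; rfl
          · have h8 : ∀ j : ℕ, 9 ^ j % 16 = 9 ∨ 9 ^ j % 16 = 1 := by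
              intro j
              induction j with
              | zero => right; rfl
              | succ j ih => rw [pow_succ]; omega
            exact h8 _
      have h9 : 3 ^ (2 * k + 2) = 9 ^ (k + 1) := by
        rw [show 2 * k + 2 = 2 * (k + 1) by ring, pow_mul]; norm_num
      have hg : Nat.gcd 4 (3 ^ (2 * k + 2) - 1) = 4 := by
        apply Nat.gcd_eq_left
        rw [h9]
        omega
      rw [hg] at h
      have h10 : 3 ^ (2 * k + 1) % 4 = 3 := by
        rw [pow_succ, pow_mul, Nat.mul_mod, Nat.pow_mod]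
        norm_num
      obtain ⟨c, hc⟩ := htm
      have h11 : m * 4 = (3 ^ (2 * k + 1) - 1) * 2 := h
      generalize 3 ^ (2 * k + 1) = y at h10 h11
      omega

/-- a prime of the class `2 (n - 1)` or `2 (n - 2)` -/
theorem not_dvd_K {G : Type u} [Group G] [Finite G] {K : Subgroup G} [K.Normal] {S : Subgroup (G ⧸ K)}
    (h : SD G n p f d m K S) (hr : r.Prime) (hro : orderOf (p : ZMod r) = f * (2 * (n - 1)) ∨
      orderOf (p : ZMod r) = f * (2 * (n - 2))) : ¬ r ∣ Nat.card K := by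
  have hn := h.hn
  have hev := h.hev
  have hf := h.hY.hf
  have hq := h.hY.q_ge
  intro hrK
  have hfk : ∀ k, 1 ≤ k → k ≤ f * k := fun k _ => Nat.le_mul_of_pos_left _ hf
  have h4 : 4 ≤ orderOf (p : ZMod r) := by
    rcases hro with h1 | h1 <;> rw [h1]
    · exact (by omega : 4 ≤ 2 * (n - 1)).trans (hfk _ (by omega))
    · exact (by omega : 4 ≤ 2 * (n - 2)).trans (hfk _ (by omega))
  obtain ⟨h5, h6⟩ := Cfsg.Agent.H429.CS.OutD.ne_of_order' hr (k := orderOf (p : ZMod r)) (by omega) rfl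
  have hrp : r ≠ p := fun h3 => h6 (by rw [h3])
  have hoq : orderOf ((p ^ f : ℕ) : ZMod r) = 2 * (n - 1) ∨ orderOf ((p ^ f : ℕ) : ZMod r) = 2 * (n - 2) := by
    rcases hro with h1 | h1
    · left
      exact ord_q hf h1
    · right
      exact ord_q hf h1
  have hoq' : orderOf (((p ^ f) ^ 2 : ℕ) : ZMod r) = n - 1 ∨ orderOf (((p ^ f) ^ 2 : ℕ) : ZMod r) = n - 2 := by
    rcases hoq with h1 | h1
    · left; exact ord_sq h1
    · right; exact ord_sq h1
  rcases h.kap r hr hrK with h7 | h7 | ⟨-, h7⟩ | ⟨-, h7⟩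
  · exact hrp h7
  · by_cases hd : orderOf ((p ^ f : ℕ) : ZMod r) = d
    · exact h.not_dvd r hr hd hrK
    · refine h.num.not_dvd hn hev hq hr (by omega) ?_ hd h7
      rcases hoq' with h8 | h8 <;> rw [h8]
      · omega
      · -- `n / 2 < n - 2` fails for `n = 4`
        by_cases h44 : n = 4
        · exfalso
          subst h44
          obtain ⟨h9, -⟩ := h.num.ord_dvd hq h7 hr
          rcases hoq with h10 | h10
          · have h11 := ord_sq h10
            omega
          · rw [h10] at h9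
            revert h9
            decide
        · omega
  · omega
  · omega

/-- `p` does not divide `m` -/
theorem p_not_dvd {G : Type u} [Group G] [Finite G] {K : Subgroup G} [K.Normal] {S : Subgroup (G ⧸ K)}
    (h : SD G n p f d m K S) : ¬ p ∣ m := fun h1 =>
  coprime_q h.num h.hn h.hY.q_ge h.hY.hp h1 (dvd_pow_self p (by have := h.hY.hf; omega))

/-- a prime `r` with `orderOf p = f * d` -/
theorem exists_base {G : Type u} [Group G] [Finite G] {K : Subgroup G} [K.Normal] {S : Subgroup (G ⧸ K)}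
    (h : SD G n p f d m K S) : ∃ r : ℕ, r.Prime ∧ r ≠ p ∧ r ∣ Nat.card G ∧ orderOf (p : ZMod r) = f * d ∧
      orderOf ((p ^ f : ℕ) : ZMod r) = d := by
  have hn := h.hn
  have hev := h.hev
  have hf := h.hY.hf
  have hq := h.hY.q_ge
  have hp := h.hY.hp
  have hd3 : 3 ≤ d := by rcases h.num.d_cases with h1 | h1 <;> omega
  have hfd : d ≤ f * d := Nat.le_mul_of_pos_left _ hf
  have hex : ¬ (p = 2 ∧ f * d = 6) := by
    rintro ⟨rfl, h6⟩
    have hf3 : f = 1 ∨ f = 2 := by
      have : f * 3 ≤ f * d := Nat.mul_le_mul_left _ hd3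
      have : f ≤ 2 := by omega
      omega
    rcases h.num with ⟨h1, -, h2⟩ | ⟨h1, -, h2⟩
    · rcases hf3 with rfl | rfl
      · norm_num at h2
      · omega
    · rcases hf3 with rfl | rfl
      · omega
      · norm_num at h2
  obtain ⟨r, hr, hro⟩ := Cfsg.Agent.Lib.Zsigmondy.exists_prime_orderOf hp.two_le (show 2 ≤ f * d by omega)
    (fun h => by omega) hex
  obtain ⟨h1, h2⟩ := Cfsg.Agent.H429.CS.OutD.ne_of_order' hr (show 3 ≤ f * d by omega) hro
  have hoq := ord_q hf hro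
  exact ⟨r, hr, fun h3 => h2 (by rw [h3]), (h.pp r hr hoq).dvd, hro, hoq⟩

/-- no element of order `r l` for the chosen primes `r` and `l ∤ m` -/
theorem noEdge_of_pp {G : Type u} [Group G] [Finite G] (h : PP G r m) {l : ℕ} (hl : l.Prime) (hlm : ¬ l ∣ m) :
    NoEdge G r l := by
  intro x hx
  have hr := h.prime
  have h1 : orderOf (x ^ l) = r := by
    rw [orderOf_pow_of_dvd hl.ne_zero (by rw [hx]; exact Dvd.intro_left _ rfl), hx, Nat.mul_div_cancel _ hl.pos]
  have h2 := h.cent _ h1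
  have h3 : x ∈ centralizer ({x ^ l} : Set G) := by
    rw [mem_centralizer_singleton_iff]
    exact ((Commute.refl x).pow_right l).eq
  have h4 := Subgroup.orderOf_mk x h3
  apply hlm
  refine Dvd.dvd.trans ?_ h2
  have h5 := orderOf_dvd_natCard (⟨x, h3⟩ : centralizer ({x ^ l} : Set G))
  rw [h4, hx] at h5
  exact (Dvd.intro_left _ rfl).trans h5

end Cfsg.Agent.H429.CD
end

-- part: H60/DE/Four
section
/-!
# `PΩ₈⁺(q)`: the characteristic does not divide `|K|` (helper60, S3677)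
-/

set_option autoImplicit false

namespace Cfsg.Agent.H60.DE

open Subgroup Cfsg Cfsg.Agent.H364 Cfsg.Agent.H429.CS Cfsg.Agent.H902.Lte Cfsg.Agent.H902.Art

universe u

theorem fac_self' {X : Sh} {p g MX : ℕ} (hX : Real X p g MX) : MX.factorization p = g * NN X := by
  have h1 := hX.P_self
  rw [P, ← pow_mul] at h1
  exact Nat.pow_right_injective hX.hp.two_le h1

/-- the numbers -/
theorem four_num {q M g : ℕ} (hq : 2 ≤ q) (h : g * M = q ^ 12 * ((q ^ 4 - 1) * SpVal.AA 3 q)) :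
    g * M = q ^ 12 * (q ^ 2 - 1) ^ 3 * ((q ^ 2 + 1) ^ 2 * (q ^ 6 - 1)) := by
  have h1 : SpVal.AA 3 q = (q ^ 2 - 1) * (q ^ 4 - 1) * (q ^ 6 - 1) := by
    rw [SpVal.AA, Finset.prod_range_succ, Finset.prod_range_succ, Finset.prod_range_succ, Finset.prod_range_zero]
    norm_num only [_root_.one_mul]
  have h2 : q ^ 4 - 1 = (q ^ 2 - 1) * (q ^ 2 + 1) := by
    have h3 : 1 ≤ q ^ 2 := Nat.one_le_pow _ _ (by omega)
    obtain ⟨c, hc⟩ := Nat.exists_eq_add_of_le' h3
    have h4 : q ^ 4 = (q ^ 2) ^ 2 := by ring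
    rw [h4, hc]
    have h5 : (c + 1) ^ 2 = c * (c + 1 + 1) + 1 := by ring
    rw [h5]
    simp only [_root_.add_tsub_cancel_right]
  rw [h, h1, h2]
  ring

/-- **The characteristic does not divide the order of a solvable normal subgroup**, `PΩ₈⁺(q)`. -/
theorem four_not_dvd {G : Type u} [Group G] [Finite G] {p f r d : ℕ} (hY : Real (.D 4) p f (Nat.card G))
    (hr : r.Prime) (hrp : r ≠ p) (hrG : r ∣ Nat.card G) (hro : orderOf (p : ZMod r) = f * d) (hd : d = 3 ∨ d = 6)
    (hE : NoEdge G r p)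
    (hidx : ∀ x : G, x ≠ 1 → ¬ p ∣ (centralizer ({x} : Set G)).index →
      (centralizer ({x} : Set G)).index = ((p ^ f) ^ 2 + 1) ^ 2 * ((p ^ f) ^ 6 - 1))
    (K : Subgroup G) [K.Normal] (hKs : Group.IsSolvable K) (hrK : ¬ r ∣ Nat.card K)
    (hO : ∀ l : ℕ, l.Prime → l ≠ p → ∀ N : Subgroup G, N.Normal → N ≤ K → IsPGroup l N → N = ⊥) :
    ¬ p ∣ Nat.card K := by
  intro hpK
  have hp := hY.hp
  have hf := hY.hf
  have hq := hY.q_ge
  have := Fact.mk hp
  have := Fact.mk hr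
  -- the Fitting subgroup of `K`
  set F : Subgroup G := (fittingSubgroup K).map K.subtype with hFdef
  have hFc : (fittingSubgroup K).Characteristic := Cfsg.Agent.Lib.Cores.fittingSubgroup_characteristic
  have hFn : F.Normal := ConjAct.normal_of_characteristic_of_normal
  have hFnil : Group.IsNilpotent F := by
    have h1 : Group.IsNilpotent (fittingSubgroup K) := Cfsg.Agent.S0008.result
    exact Group.nilpotent_of_mulEquiv ((fittingSubgroup K).equivMapOfInjective K.subtype K.subtype_injective)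
  have hFK : F ≤ K := Subgroup.map_subtype_le _
  have hFp : ∀ l : ℕ, l.Prime → l ∣ Nat.card F → l = p := by
    intro l hl hlF
    by_contra hlp
    have := Fact.mk hl
    obtain ⟨P0⟩ : Nonempty (Sylow l F) := inferInstance
    have h1 := hO l hl hlp _ (sylow_normal_of_nilpotent hFn hFnil P0)
      ((Subgroup.map_subtype_le _).trans hFK) (P0.2.map _)
    have h2 : Nat.card ((P0 : Subgroup F).map F.subtype) = l ^ (Nat.card F).factorization l := by
      rw [Subgroup.card_map_of_injective F.subtype_injective]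
      exact P0.card_eq_multiplicity
    rw [h1, Subgroup.card_bot] at h2
    have h3 := hl.factorization_pos_of_dvd Nat.card_pos.ne' hlF
    have h4 := Nat.one_lt_pow h3.ne' hl.one_lt
    omega
  have hFne : F ≠ ⊥ := by
    intro h0
    have h1 : fittingSubgroup K = ⊥ := by
      rw [hFdef] at h0
      exact (Subgroup.map_eq_bot_iff_of_injective _ K.subtype_injective).1 h0
    have h2 : Nat.card K ≤ 1 := by
      rw [Finite.card_le_one_iff_subsingleton]
      refine ⟨fun a b => ?_⟩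
      have key : ∀ c : K, c = 1 := by
        intro c
        have h3 : c ∈ centralizer (fittingSubgroup K : Set K) := by
          rw [h1, mem_centralizer_iff]
          intro y hy
          rw [SetLike.mem_coe, mem_bot] at hy
          rw [hy, one_mul, mul_one]
        have h4 := Cfsg.Agent.S0044.result h3
        rwa [h1, mem_bot] at h4
      rw [key a, key b]
    have h3 := Nat.le_of_dvd Nat.card_pos hpK
    have := hp.two_le
    omega
  have hFcard : ∃ k, Nat.card F = p ^ k := ⟨_, Nat.eq_prime_pow_of_unique_prime_dvd Nat.card_pos.ne' (fun {l} hl hlF => hFp l hl hlF)⟩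
  have hFpg : IsPGroup p F := IsPGroup.iff_card.2 hFcard
  have hFnt : Nontrivial F := (Subgroup.nontrivial_iff_ne_bot F).2 hFne
  -- its center
  set Z : Subgroup G := (center F).map F.subtype with hZdef
  have hZn : Z.Normal := ConjAct.normal_of_characteristic_of_normal
  have hZF : Z ≤ F := Subgroup.map_subtype_le _
  have hZp : IsPGroup p Z := hFpg.to_le hZF
  have hZne : Z ≠ ⊥ := by
    intro h0
    have h1 : center F = ⊥ := (Subgroup.map_eq_bot_iff_of_injective _ F.subtype_injective).1 h0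
    have h2 : Nontrivial (center F) := hFpg.center_nontrivial
    rw [h1] at h2
    exact not_nontrivial _ h2
  have hZab : ∀ a ∈ Z, ∀ b ∈ Z, Commute a b := by
    rintro _ ⟨a, ha, rfl⟩ _ ⟨b, -, rfl⟩
    have h1 := mem_center_iff.1 ha b
    exact (congrArg Subtype.val h1).symm
  -- the number of elements
  obtain ⟨a, ha⟩ := IsPGroup.iff_card.1 hZp
  have hva : (Nat.card Z).factorization p = a := by
    rw [ha, hp.factorization_pow, Finsupp.single_eq_same]
  have hvG : (Nat.card G).factorization p = f * 12 := by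
    rw [fac_self' hY]; rfl
  have hrZ : ¬ r ∣ Nat.card Z := fun h => hrK (h.trans (Subgroup.card_dvd_of_le (hZF.trans hFK)))
  have hda : f * d ∣ a := by
    have h1 := congr_one Z hr hp hrp hrZ hE
    rw [hva] at h1
    have h2 : r ∣ p ^ a - 1 := (dvd_pow_self r (hr.factorization_pos_of_dvd Nat.card_pos.ne' hrG).ne').trans h1
    rwa [Cfsg.Agent.Lib.Zsigmondy.dvd_pow_sub_one_iff hp.one_le, hro] at h2
  have ha12 : a ≤ f * 12 := by
    rw [← hvG, ← hva]
    exact (Nat.factorization_le_iff_dvd Nat.card_pos.ne' Nat.card_pos.ne').2 (Subgroup.card_subgroup_dvd_card Z) p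
  -- a central element of a Sylow subgroup
  obtain ⟨P0⟩ : Nonempty (Sylow p G) := inferInstance
  obtain ⟨x, hxZ, hxo, hxc⟩ := Cfsg.Agent.H370.AAM.exists_central hp (P1 := (P0 : Subgroup G)) (P := Z) P0.2 hZp
    (by rw [normalizer_eq_top (H := Z)]; exact le_top) hZne
  have hx1 : x ≠ 1 := by
    rintro rfl
    rw [orderOf_one] at hxo
    exact hp.one_lt.ne hxo
  have hPx : (P0 : Subgroup G) ≤ centralizer ({x} : Set G) := by
    intro z hz
    rw [mem_centralizer_singleton_iff]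
    exact (hxc z hz).symm.eq
  have hix : ¬ p ∣ (centralizer ({x} : Set G)).index := fun h =>
    P0.not_dvd_index (h.trans (Subgroup.index_dvd_of_le hPx))
  have h0 := hidx x hx1 hix
  have hlt := (index_lt_of_normal Z hxZ).resolve_right hx1
  set q := p ^ f with hqdef
  have hq1 : 1 ≤ q := by omega
  have ha9 : f * 9 < a := by
    rw [h0, ha] at hlt
    have h1 : q ^ 9 ≤ (q ^ 2 + 1) ^ 2 * (q ^ 6 - 1) := by
      have h2 : q ^ 6 ≤ 2 * (q ^ 6 - 1) := by
        have : 2 ^ 6 ≤ q ^ 6 := Nat.pow_le_pow_left hq 6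
        omega
      have h3 : 2 * q ^ 3 ≤ (q ^ 2 + 1) ^ 2 := by nlinarith only [hq]
      have h4 : 2 * q ^ 9 ≤ 2 * ((q ^ 2 + 1) ^ 2 * (q ^ 6 - 1)) := by
        calc 2 * q ^ 9 = 2 * q ^ 3 * q ^ 6 := by ring
          _ ≤ (q ^ 2 + 1) ^ 2 * (2 * (q ^ 6 - 1)) := Nat.mul_le_mul h3 h2
          _ = _ := by ring
      omega
    have h5 : p ^ (f * 9) < p ^ a := by
      rw [pow_mul, ← hqdef]
      exact lt_of_le_of_lt h1 hlt
    exact (Nat.pow_lt_pow_iff_right hp.one_lt).1 h5
  have haeq : a = f * 12 := by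
    have h3 : f * 3 ∣ a := by
      rcases hd with rfl | rfl
      · exact hda
      · exact Dvd.dvd.trans (⟨2, by ring⟩ : f * 3 ∣ f * 6) hda
    obtain ⟨c, rfl⟩ := h3
    have h1 : f * 9 < f * (3 * c) := by rw [← mul_assoc]; exact ha9
    have h2 := Nat.lt_of_mul_lt_mul_left h1
    have h3 : f * (3 * c) ≤ f * 12 := by rw [← mul_assoc]; exact ha12
    have h4 := Nat.le_of_mul_le_mul_left h3 (by omega)
    have h5 : c = 4 := by omega
    rw [h5]; ring
  -- all classes in `Z`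
  have hall : ∀ z ∈ Z, z ≠ 1 → (centralizer ({z} : Set G)).index = (q ^ 2 + 1) ^ 2 * (q ^ 6 - 1) := by
    intro z hz hz1
    refine hidx z hz1 fun hpi => ?_
    have h1 : Z ≤ centralizer ({z} : Set G) := by
      intro y hy
      rw [mem_centralizer_singleton_iff]
      exact (hZab y hy z hz).eq
    have h2 := Subgroup.card_dvd_of_le h1
    have h3 := Subgroup.card_mul_index (centralizer ({z} : Set G))
    have h4 : p ^ (f * 12 + 1) ∣ Nat.card G := by
      rw [← h3, pow_succ]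
      apply Nat.mul_dvd_mul _ hpi
      rw [← haeq, ← ha]
      exact h2
    have h5 := (hp.pow_dvd_iff_le_factorization Nat.card_pos.ne').1 h4
    rw [hvG] at h5
    omega
  -- a prime divisor of `q ^ 2 + 1`
  have heq : Nat.gcd 4 (q ^ 4 - 1) * Nat.card G = q ^ 12 * ((q ^ 4 - 1) * SpVal.AA 3 q) := hY.eq
  have hnum := four_num hq heq
  obtain ⟨t, ht, ht2, htd⟩ : ∃ t : ℕ, t.Prime ∧ t ≠ 2 ∧ t ∣ q ^ 2 + 1 := by
    by_contra hcon
    push Not at hcon
    have h1 : ∀ {t : ℕ}, t.Prime → t ∣ q ^ 2 + 1 → t = 2 := fun {t} ht htd => by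
      by_contra h2
      exact hcon t ht h2 htd
    have h2 := Nat.eq_prime_pow_of_unique_prime_dvd (by omega) h1
    set k := (q ^ 2 + 1).primeFactorsList.length
    rcases Nat.lt_or_ge k 2 with hk | hk
    · have h3 : 2 ^ k ≤ 2 ^ 1 := Nat.pow_le_pow_right (by norm_num) (by omega)
      have h4 : 2 ^ 2 ≤ q ^ 2 := Nat.pow_le_pow_left hq 2
      omega
    · have h3 : 4 ∣ q ^ 2 + 1 := by
        rw [h2, show (4 : ℕ) = 2 ^ 2 by norm_num]
        exact Nat.pow_dvd_pow 2 hk
      have h4 : q ^ 2 % 4 = 0 ∨ q ^ 2 % 4 = 1 := by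
        rcases Nat.even_or_odd q with ⟨c, hc⟩ | ⟨c, hc⟩
        · left
          rw [hc, show (c + c) ^ 2 = 4 * c ^ 2 by ring]
          exact Nat.mul_mod_right _ _
        · right
          rw [hc, show (2 * c + 1) ^ 2 = 4 * (c ^ 2 + c) + 1 by ring]
          omega
      omega
  have htq : ¬ t ∣ q := fun h => by
    have h1 : t ∣ q ^ 2 := h.trans (dvd_pow_self q (by norm_num))
    have h2 := (Nat.dvd_add_right h1).1 htd
    exact ht.one_lt.ne' (Nat.dvd_one.1 h2)
  have htm : ¬ t ∣ q ^ 2 - 1 := fun h => by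
    have h1 := Nat.dvd_sub htd h
    have h2 : 1 ≤ q ^ 2 := Nat.one_le_pow _ _ hq1
    rw [show q ^ 2 + 1 - (q ^ 2 - 1) = 2 by (clear * - h2; omega)] at h1
    exact ht2 ((Nat.prime_dvd_prime_iff_eq ht Nat.prime_two).1 h1)
  set b := (q ^ 2 + 1).factorization t with hb
  have hb1 : 1 ≤ b := ht.factorization_pos_of_dvd (by omega) htd
  have htb : t ^ b ∣ q ^ 2 + 1 := Nat.ordProj_dvd _ _
  have hD : t ^ (2 * b) ∣ Nat.card G := by
    have h1 : t ^ (2 * b) ∣ (q ^ 2 + 1) ^ 2 := by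
      rw [mul_comm, pow_mul]; exact pow_dvd_pow_of_dvd htb 2
    have h2 : t ^ (2 * b) ∣ Nat.gcd 4 (q ^ 4 - 1) * Nat.card G := by
      rw [hnum]
      exact (h1.mul_right _).mul_left _
    have h3 : Nat.Coprime (t ^ (2 * b)) (Nat.gcd 4 (q ^ 4 - 1)) := by
      apply Nat.Coprime.pow_left
      apply Nat.Coprime.coprime_dvd_right (Nat.gcd_dvd_left _ _)
      show Nat.Coprime t (2 ^ 2)
      apply Nat.Coprime.pow_right
      exact (Nat.coprime_primes ht Nat.prime_two).2 ht2
    exact h3.dvd_of_dvd_mul_left h2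
  obtain ⟨x', hx', hx1'⟩ : ∃ x' ∈ Z, x' ≠ 1 := ⟨x, hxZ, hx1⟩
  set m' := Nat.card (centralizer ({x'} : Set G)) with hm'
  have hm'eq : m' * ((q ^ 2 + 1) ^ 2 * (q ^ 6 - 1)) = Nat.card G := by
    rw [← hall x' hx' hx1']; exact Subgroup.card_mul_index _
  have hN0 : (q ^ 2 + 1) ^ 2 * (q ^ 6 - 1) ≠ 0 := by
    intro h
    rw [h, mul_zero] at hm'eq
    exact Nat.card_pos.ne hm'eq
  have htm' : ¬ t ∣ m' := by
    intro h
    have h1 : Nat.gcd 4 (q ^ 4 - 1) * m' = q ^ 12 * (q ^ 2 - 1) ^ 3 := by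
      apply Nat.eq_of_mul_eq_mul_right (Nat.pos_of_ne_zero hN0)
      rw [← hnum, ← hm'eq]; ring
    have h2 : t ∣ q ^ 12 * (q ^ 2 - 1) ^ 3 := by rw [← h1]; exact h.mul_left _
    rcases (ht.dvd_mul).1 h2 with h3 | h3
    · exact htq (ht.dvd_of_dvd_pow h3)
    · exact htm (ht.dvd_of_dvd_pow h3)
  have hcop : Nat.Coprime (t ^ (2 * b)) m' := Nat.Coprime.pow_left _ ((Nat.Prime.coprime_iff_not_dvd ht).2 htm')
  have hfin := dvd_card_sub_one Z hD hcop (fun z hz hz1 => by
    have h1 : Nat.card (centralizer ({z} : Set G)) * ((q ^ 2 + 1) ^ 2 * (q ^ 6 - 1)) = Nat.card G := by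
      rw [← hall z hz hz1]; exact Subgroup.card_mul_index _
    have h2 : Nat.card (centralizer ({z} : Set G)) = m' :=
      Nat.eq_of_mul_eq_mul_right (Nat.pos_of_ne_zero hN0) (h1.trans hm'eq.symm)
    rw [h2])
  rw [ha, haeq, pow_mul p, ← hqdef] at hfin
  -- `q ^ 12 - 1 = (q ^ 2 - 1) (q ^ 2 + 1) (q ^ 8 + q ^ 4 + 1)`
  have h12 : q ^ 12 - 1 = (q ^ 2 - 1) * (q ^ 8 + q ^ 4 + 1) * (q ^ 2 + 1) := by
    obtain ⟨c, hc⟩ := Nat.exists_eq_add_of_le' (Nat.one_le_pow 2 q hq1)
    have e12 : q ^ 12 = (q ^ 2) ^ 6 := by ring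
    have e8 : q ^ 8 = (q ^ 2) ^ 4 := by ring
    have e4 : q ^ 4 = (q ^ 2) ^ 2 := by ring
    rw [e12, e8, e4, hc]
    have : (c + 1) ^ 6 = c * ((c + 1) ^ 4 + (c + 1) ^ 2 + 1) * (c + 1 + 1) + 1 := by ring
    rw [this]
    simp only [_root_.add_tsub_cancel_right]
  rw [h12] at hfin
  have ht3 : t ≠ 3 := by
    rintro rfl
    have h1 : q ^ 2 % 3 = 0 ∨ q ^ 2 % 3 = 1 := by
      have h2 : q % 3 = 0 ∨ q % 3 = 1 ∨ q % 3 = 2 := by omega
      rcases h2 with h2 | h2 | h2 <;> simp [Nat.pow_mod, h2]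
    omega
  have ht8 : ¬ t ∣ q ^ 8 + q ^ 4 + 1 := by
    intro h
    have h1 : q ^ 8 + q ^ 4 + 1 + (q ^ 2 - 1) * (q ^ 2 + 1) * 0 = q ^ 8 + q ^ 4 + 1 := by ring
    have h2 : (q ^ 2 + 1) ∣ q ^ 8 + q ^ 4 + 1 - 3 := by
      refine ⟨(q ^ 4 + 2) * (q ^ 2 - 1), ?_⟩
      obtain ⟨c, hc⟩ := Nat.exists_eq_add_of_le' (Nat.one_le_pow 2 q hq1)
      have e8 : q ^ 8 = (q ^ 2) ^ 4 := by ring
      have e4 : q ^ 4 = (q ^ 2) ^ 2 := by ring
      rw [e8, e4, hc]
      have : (c + 1) ^ 4 + (c + 1) ^ 2 + 1 = (c + 1 + 1) * (((c + 1) ^ 2 + 2) * c) + 3 := by ring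
      rw [this]
      simp only [_root_.add_tsub_cancel_right]
    have h3 := htd.trans h2
    have h4 := Nat.dvd_sub h h3
    have h5 : q ^ 8 + q ^ 4 + 1 - (q ^ 8 + q ^ 4 + 1 - 3) = 3 := by
      have : 2 ^ 4 ≤ q ^ 4 := Nat.pow_le_pow_left hq 4
      (clear * - this; omega)
    rw [h5] at h4
    exact ht3 ((Nat.prime_dvd_prime_iff_eq ht Nat.prime_three).1 h4)
  have hc2 : Nat.Coprime (t ^ (2 * b)) ((q ^ 2 - 1) * (q ^ 8 + q ^ 4 + 1)) := by
    apply Nat.Coprime.pow_left
    rw [Nat.Prime.coprime_iff_not_dvd ht]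
    intro h
    rcases (ht.dvd_mul).1 h with h1 | h1
    · exact htm h1
    · exact ht8 h1
  have h6 := hc2.dvd_of_dvd_mul_left hfin
  have h7 := (ht.pow_dvd_iff_le_factorization (by omega)).1 h6
  omega

end Cfsg.Agent.H60.DE
end

-- part: H429/CD/FourPre
section
/-!
# S3677, row `PΩ₈⁺(q)`: the characteristic does not divide `|K|` (helper429)
-/

set_option autoImplicit false

namespace Cfsg.Agent.H429.CD

open Subgroup Cfsg Cfsg.Agent.H364 Cfsg.Agent.H902.Lte Cfsg.Agent.H902.Art Cfsg.Agent.H60.DE Cfsg.Agent.H221.CD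
open Cfsg.Agent.H429.CS (PP)

universe u

variable {p f d m : ℕ} {G : Type u} [Group G] [Finite G] {K : Subgroup G} [K.Normal] {S : Subgroup (G ⧸ K)}

theorem card_two (hY : Real (.D 4) p f (Nat.card G)) (h : p ^ f = 2) : Nat.card G = 174182400 := by
  have h1 := hY.eq
  rw [h] at h1
  have e1 : dd (.D 4) 2 = 1 := by decide +kernel
  have e2 : 2 ^ NN (.D 4) * num (.D 4) 2 = 174182400 := by decide +kernel
  rw [e1, e2] at h1
  omega

theorem card_three (hY : Real (.D 4) p f (Nat.card G)) (h : p ^ f = 3) : Nat.card G = 4952179814400 := by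
  have h1 := hY.eq
  rw [h] at h1
  have e1 : dd (.D 4) 3 = 4 := by decide +kernel
  have e2 : 3 ^ NN (.D 4) * num (.D 4) 3 = 4 * 4952179814400 := by decide +kernel
  rw [e1, e2] at h1
  omega

/-- the prime of order `3` -/
theorem prime_seven {r : ℕ} (hr : r.Prime) (h : orderOf ((2 : ℕ) : ZMod r) = 3) : r = 7 := by
  have h1 : r ∣ 2 ^ 3 - 1 := by rw [Cfsg.Agent.Lib.Zsigmondy.dvd_pow_sub_one_iff (by norm_num), h]
  exact (Nat.prime_dvd_prime_iff_eq hr (by norm_num)).1 h1

theorem prime_thirteen {r : ℕ} (hr : r.Prime) (h : orderOf ((3 : ℕ) : ZMod r) = 3) : r = 13 := by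
  have h1 : r ∣ 3 ^ 3 - 1 := by rw [Cfsg.Agent.Lib.Zsigmondy.dvd_pow_sub_one_iff (by norm_num), h]
  have h2 : r ∣ 2 * 13 := h1
  rcases hr.dvd_mul.1 h2 with h3 | h3
  · exfalso
    have h4 := (Nat.prime_dvd_prime_iff_eq hr Nat.prime_two).1 h3
    subst h4
    have h5 : ((3 : ℕ) : ZMod 2) = 1 := by decide
    rw [h5, orderOf_one] at h
    omega
  · exact (Nat.prime_dvd_prime_iff_eq hr (by norm_num)).1 h3

theorem hO (h : SD G 4 p f d m K S) : ∀ l : ℕ, l.Prime → l ≠ p → ∀ N : Subgroup G, N.Normal → N ≤ K → IsPGroup l N →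
    N = ⊥ := by
  intro l hl hlp N hN hNK hNp
  by_cases hexc : (p ^ f = 2 ∧ l = 3) ∨ (p ^ f = 3 ∧ l = 2)
  swap
  · rw [not_or] at hexc
    exact h.core l hl hlp hexc.1 hexc.2 N hN hNp
  obtain ⟨r, hr, hrp, hrG, hro, hoq⟩ := exists_base h
  have hlm : ¬ l ∣ m := exc_not_dvd h.num (le_refl 4) rfl hexc
  have hE := noEdge_of_pp (h.pp r hr hoq) hl hlm
  have hrN : ¬ r ∣ Nat.card N := fun h1 => h.not_dvd r hr hoq (h1.trans (Subgroup.card_dvd_of_le hNK))
  have hrl : r ≠ l := by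
    rintro rfl
    exact h.not_dvd r hr hoq (by
      by_contra hcon
      have h1 := (h.pp r hr hoq).dvd
      obtain ⟨y, hy⟩ := @exists_prime_orderOf_dvd_card' G _ _ r ⟨hr⟩ h1
      have h2 := (h.pp r hr hoq).cent y hy
      apply hlm
      refine Dvd.dvd.trans ?_ h2
      have h3 : y ∈ centralizer ({y} : Set G) := by
        rw [mem_centralizer_singleton_iff]
      have h4 := orderOf_dvd_natCard (⟨y, h3⟩ : centralizer ({y} : Set G))
      rwa [Subgroup.orderOf_mk, hy] at h4)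
  have hc := congr_one N hr hl hrl hrN hE
  have hc1 : r ∣ l ^ (Nat.card N).factorization l - 1 :=
    (dvd_pow_self r (hr.factorization_pos_of_dvd Nat.card_pos.ne' hrG).ne').trans hc
  have := Fact.mk hl
  obtain ⟨a, ha⟩ := IsPGroup.iff_card.1 hNp
  rw [ha, hl.factorization_pow, Finsupp.single_eq_same] at hc1
  have hNG : l ^ a ∣ Nat.card G := by rw [← ha]; exact Subgroup.card_subgroup_dvd_card N
  rcases hexc with ⟨h2, rfl⟩ | ⟨h3, rfl⟩
  · have hd : d = 3 := by
      have h4 := h.num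
      rw [h2] at h4
      rcases h4 with ⟨-, -, h5⟩ | ⟨h5, -, -⟩
      · omega
      · exact h5
    rw [h2, hd] at hoq
    obtain rfl := prime_seven hr hoq
    have ha5 : a ≤ 5 := by
      by_contra hcon
      have h5 : 3 ^ 6 ∣ Nat.card G := (pow_dvd_pow 3 (by omega)).trans hNG
      rw [card_two h.hY h2] at h5
      revert h5
      decide
    have ha0 : a = 0 := by
      interval_cases a
      · rfl
      all_goals (exfalso; revert hc1; decide)
    rw [ha0, pow_zero] at ha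
    exact Subgroup.card_eq_one.1 ha
  · have hd : d = 3 := by
      have h4 := h.num
      rw [h3] at h4
      rcases h4 with ⟨-, -, h5⟩ | ⟨h5, -, -⟩
      · omega
      · exact h5
    rw [h3, hd] at hoq
    obtain rfl := prime_thirteen hr hoq
    have h13 : ¬ 2 ^ 13 ∣ Nat.card G := by
      rw [card_three h.hY h3]
      decide
    have ha12 : a ≤ 12 := by
      by_contra hcon
      exact h13 ((pow_dvd_pow 2 (by omega)).trans hNG)
    have ha0 : a = 0 ∨ a = 12 := by
      interval_cases a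
      · exact Or.inl rfl
      all_goals first
        | exact Or.inr rfl
        | (exfalso; revert hc1; decide)
    rcases ha0 with ha0 | ha0
    · rw [ha0, pow_zero] at ha
      exact Subgroup.card_eq_one.1 ha
    · exfalso
      have hKd : 2 ^ 12 ∣ Nat.card K := by
        rw [← ha0, ← ha]
        exact Subgroup.card_dvd_of_le hNK
      have hodd : Odd (Nat.card S) := by
        rw [← Nat.not_even_iff_odd]
        intro hev
        apply h13
        rw [← h.card]
        calc 2 ^ 13 = 2 ^ 12 * 2 := by norm_num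
          _ ∣ Nat.card K * (S.index * Nat.card S) := Nat.mul_dvd_mul hKd (hev.two_dvd.mul_left _)
      have hsim := h.simple
      have hsolv : Group.IsSolvable S := Cfsg.Agent.S0205.result hodd
      exact h.nonab (IsSimpleGroup.comm_iff_isSolvable.2 hsolv)

/-- **The characteristic does not divide `|K|`.** -/
theorem p_not_dvd_K (h : SD G 4 p f d m K S)
    (hidx : ∀ x : G, x ≠ 1 → ¬ p ∣ (centralizer ({x} : Set G)).index →
      (centralizer ({x} : Set G)).index = ((p ^ f) ^ 2 + 1) ^ 2 * ((p ^ f) ^ 6 - 1)) : ¬ p ∣ Nat.card K := by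
  obtain ⟨r, hr, hrp, hrG, hro, hoq⟩ := exists_base h
  refine four_not_dvd h.hY hr hrp hrG hro ?_ (h.noEdge r hr hoq) hidx K h.solv (h.not_dvd r hr hoq) (hO h)
  rcases h.num.d_cases with h1 | h1 <;> omega

/-- no elements of order `s p` in the quotient -/
theorem noEdge_quot {n s : ℕ} (h : SD G n p f d m K S) (hs : s.Prime) (hso : orderOf ((p ^ f : ℕ) : ZMod s) = d) :
    NoEdge (G ⧸ K) s p :=
  noEdge_of_pp ((h.pp s hs hso).quotient K (h.not_dvd s hs hso)) h.hY.hp (p_not_dvd h)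

end Cfsg.Agent.H429.CD
end

-- part: H370/AAM/TailB
section
/-!
# From a simple section to the conclusion, `PSp_2n` / `Ω_{2n+1}` (`n ≥ 3`) and `PΩ⁺_{2n}` (helper370)
-/

set_option autoImplicit false
set_option linter.style.haveILetI false

namespace Cfsg.Agent.H370.AAM

open Subgroup Cfsg Cfsg.Agent.OrdDiv Cfsg.Agent.H364 Cfsg.Agent.H902
open Cfsg.Agent.H364.ArithU Cfsg.Agent.H363.Frat Cfsg.Agent.H363.Master
open Cfsg.Agent.H365.PPart Cfsg.Agent.H365.CubeF

universe u v

/-- the names of Lie type in characteristic `p` which occur -/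
def lieB' (p : ℕ) : Grp → Bool
  | .psl m q => Nat.ble 3 m && (q == p || q == p ^ 2)
  | g => lieB p g

theorem lieB'_spec {S : Type u} [Group S] {p : ℕ} (hp : p.Prime) {g : Grp} (hg : lieB' p g = true) (hr : OrdDiv.Real g S) :
    IsLieTypeChar p S := by
  by_cases h : ∃ m q, g = .psl m q
  · obtain ⟨m, q, rfl⟩ := h
    simp only [lieB', Bool.and_eq_true, Nat.ble_eq, Bool.or_eq_true, beq_iff_eq] at hg
    obtain ⟨F, _, _, hF, ⟨e⟩⟩ := hr
    exact Or.inl ⟨F, inferInstance, inferInstance, charP_of_dvd hp (by rw [hF]; exact dvd_of_or hg.2), m,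
      by omega, fun h => by omega, ⟨e⟩⟩
  · have h1 : lieB' p g = lieB p g := by
      cases g with
      | psl m q => exact absurd ⟨m, q, rfl⟩ h
      | _ => rfl
    rw [h1] at hg
    exact lieB_spec hp hg hr

/-- the check; `w = true`: the names of Lie type are allowed; `k`, `k'`: the allowed orders of `q` modulo the prime -/
def chkT (w : Bool) (q k k' : ℕ) (l : List (ℕ × ℕ)) (M p P : ℕ) : Bool :=
  l.all fun x => !(okB false q k x.1 || okB false q k' x.1) ||
    (cands l M).all fun g => ordN g == M || (w && lieB' p g) || bad p P x.1 (ordN g)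

theorem of_chkT {S : Type u} [Group S] [Finite S] [IsSimpleGroup S] (hk : IsKnownSimple' S)
    (hna : ¬ ∀ a b : S, a * b = b * a) {w : Bool} {q k k' : ℕ} {l : List (ℕ × ℕ)} {M p P s δ : ℕ}
    (hv : valid l M = true) (hM : M < 2 ^ 70) (hd : Nat.card S ∣ M) (hp : p.Prime) (hs : s.Prime)
    (hδ : p ^ δ ∣ Nat.card (Cfsg.Out S)) (hP : (Nat.card S).factorization p + δ = P) (hsS : s ∣ Nat.card S)
    (hsδ : p ^ δ ∣ s ^ (Nat.card S).factorization s - 1) (hok : okB false q k s = true ∨ okB false q k' s = true)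
    (hc : chkT w q k k' l M p P = true) : (w = true ∧ IsLieTypeChar p S) ∨ Nat.card S = M := by
  obtain ⟨j, hj, -⟩ := exists_pair hv hs le_rfl ((by rw [pow_one]; exact hsS : s ^ 1 ∣ Nat.card S).trans hd)
  obtain ⟨g, hg, hr, ho⟩ := exists_good table hk hna hv hd
  rw [chkT, List.all_eq_true] at hc
  have h1 := hc _ hj
  have hok' : (okB false q k s || okB false q k' s) = true := by simpa using hok
  simp only [hok', Bool.not_true, Bool.false_or, List.all_eq_true] at h1
  have h2 := h1 g hg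
  rw [← ho] at h2
  simp only [Bool.or_eq_true, Bool.and_eq_true, beq_iff_eq] at h2
  rcases h2 with (h2 | h2) | h2
  · exact Or.inr h2
  · exact Or.inl ⟨h2.1, lieB'_spec hp h2.2 hr⟩
  exfalso
  have hS0 : Nat.card S ≠ 0 := Nat.card_pos.ne'
  have hM0 : M ≠ 0 := (valid_pos hv).ne'
  have hlt : Nat.card S < 2 ^ 70 := (Nat.le_of_dvd (Nat.pos_of_ne_zero hM0) hd).trans_lt hM
  have hδ' : P - (Nat.card S).factorization p = δ := by omega
  rw [bad, vl_eq hs hS0 hlt, vl_eq hp hS0 hlt, hδ'] at h2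
  simp only [Bool.or_eq_true, bne_iff_ne, ne_eq, Nat.ble_eq] at h2
  rcases h2 with (h2 | h2) | h2
  · exact h2 (Nat.mod_eq_zero_of_dvd hsS)
  · exact h2 (Nat.mod_eq_zero_of_dvd hsδ)
  · obtain ⟨B, hB⟩ := Nat.ordProj_dvd (Nat.card S) p
    have hpv : 0 < p ^ (Nat.card S).factorization p := pow_pos hp.pos _
    have hdiv : Nat.card S / p ^ (Nat.card S).factorization p = B := Nat.div_eq_of_eq_mul_right hpv hB
    rw [hdiv] at h2
    have h3 := two_pow_out hk hna hp hδ (B := B) hB.le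
    have h4 : B < 2 ^ (Nat.log2 B + 1) := Nat.lt_log2_self
    have h5 : B ^ 3 < (2 ^ (Nat.log2 B + 1)) ^ 3 := Nat.pow_lt_pow_left h4 (by norm_num)
    rw [← pow_mul] at h5
    have h6 := (Nat.pow_lt_pow_iff_right (by norm_num : 1 < 2)).1 (h3.trans_lt h5)
    omega

section small

variable {S : Type u} [Group S] [Finite S] [IsSimpleGroup S] (hk : IsKnownSimple' S)
  (hna : ¬ ∀ a b : S, a * b = b * a) {M s δ : ℕ} (hd : Nat.card S ∣ M) (hs : s.Prime)
include hk hna hd hs

theorem sD421 (hM : Art.Real (.D 4) 2 1 M)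
    (ho : orderOf (((2 ^ 1 : ℕ)) : ZMod s) = 6 ∨ orderOf (((2 ^ 1 : ℕ)) : ZMod s) = 3)
    (hδ : 2 ^ δ ∣ Nat.card (Cfsg.Out S)) (hP : (Nat.card S).factorization 2 + δ = 1 * Art.NN (.D 4))
    (hsS : s ∣ Nat.card S) (hsδ : 2 ^ δ ∣ s ^ (Nat.card S).factorization s - 1) :
    Nat.card S = M := by
  obtain rfl : M = 174182400 := card_of hM (by decide +kernel)
  rcases of_chkT hk hna (w := false) (q := 2 ^ 1) (k := 6) (k' := 3)
    (l := [(2, 12), (3, 5), (5, 2), (7, 1)]) (P := 12)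
    (by decide +kernel) (by norm_num) hd hM.hp hs hδ hP hsS hsδ
    (ho.imp (okB_L (by norm_num) (by norm_num)) (okB_L (by norm_num) (by norm_num)))
    (by decide +kernel) with h | h
  · exact absurd h.1 (by decide)
  · exact h

end small

section rows

variable {G : Type u} [Group G] [Finite G] {n p f s : ℕ} {K : Subgroup G} [K.Normal] {H : Subgroup (G ⧸ K)} [H.Normal]
  [IsSimpleGroup H] (hna : ¬ ∀ x y : H, x * y = y * x) (hout : H.index ∣ Nat.card (Cfsg.Out H))
include hna hout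

/-- **The tail for `PΩ⁺_{2n}(q)`, `n ≥ 4`.** -/
theorem rowD (hY : Art.Real (.D n) p f (Nat.card G)) (hs : s.Prime) (hsp : s ≠ p)
    (hso : orderOf ((p ^ f : ℕ) : ZMod s) = 2 * (n - 1) ∨ orderOf ((p ^ f : ℕ) : ZMod s) = n - 1)
    (hnadj : NonAdj (G ⧸ K) s p) (hsH : s ∣ Nat.card H) (hpK : ¬ p ∣ Nat.card K)
    (hrK : ∀ r : ℕ, r.Prime → r ≠ p → orderOf (p : ZMod r) = f * (2 * (n - 1)) → ¬ r ∣ Nat.card K) :
    IsSimpleGroup G := by
  have hn : 4 ≤ n := hY.ok
  have hp := hY.hp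
  have hf := hY.hf
  obtain ⟨δ, hδ, hle, hd, hv, hfs, hcard⟩ := elim_data hna hout hp hs hsp hnadj hpK
  rw [fac_self hY] at hv
  have hk := Cfsg.Agent.S0000.result (G := H)
  apply OrthRow.isSimple_of
  refine ⟨K, inferInstance, H, inferInstance, hna, ?_⟩
  have hfs' := hfs hsH
  by_cases hex : p = 2 ∧ f * (2 * (n - 1)) = 6
  · obtain ⟨rfl, h6⟩ := hex
    have h7 : f = 1 := by
      by_contra hcon
      have : 2 * (2 * 3) ≤ f * (2 * (n - 1)) := Nat.mul_le_mul (by omega) (by omega)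
      omega
    subst h7
    have h8 : n = 4 := by omega
    subst h8
    exact sD421 hk hna hd hs hY hso hδ hv hsH hfs'
  have h6 : 6 ≤ f * (2 * (n - 1)) := (by omega : 6 ≤ 2 * (n - 1)).trans (Nat.le_mul_of_pos_left _ hf)
  obtain ⟨r, hr, hrp, hro⟩ := exists_ppd (p := p) (n := f * (2 * (n - 1))) hp (by omega) hex
  have hlie : IsLieTypeChar p H ∨ Nat.card H = Nat.card G := by
    rcases elimD hk hna hδ hle hY hv with h | ⟨rfl, rfl, rfl⟩
    · exact Or.inl h
    · exact absurd ⟨rfl, rfl⟩ hex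
  rcases tail hna hY hr hro (by show 4 ≤ f * (2 * (n - 1)); omega) (fun _ => h6) hpK (hrK r hr hrp hro) hcard hout
      hlie with h | ⟨X, g, hE, hX, hI⟩
  · exact h
  · exfalso
    rcases hE with ⟨-, h, -⟩ | ⟨-, h, -⟩ | ⟨_, -, -, h, -⟩ | ⟨-, h, -⟩ | ⟨-, h, -⟩ | ⟨-, h, -⟩ | ⟨-, h, -⟩ | ⟨-, h, -⟩ <;>
      exact absurd h (by simp)

end rows

end Cfsg.Agent.H370.AAM
end

-- part: H429/CD/Four
section
/-!
# S3677, row `PΩ₈⁺(q)` (helper429)
-/

set_option autoImplicit false

namespace Cfsg.Agent.H429.CD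

open Subgroup Cfsg Cfsg.Agent.H364 Cfsg.Agent.H902.Lte Cfsg.Agent.H902.Art Cfsg.Agent.H60.DE Cfsg.Agent.H221.CD

universe u

variable {p f d m : ℕ} {G : Type u} [Group G] [Finite G] {K : Subgroup G} [K.Normal] {S : Subgroup (G ⧸ K)}

/-- **The case `n = 4`.** -/
theorem four (h : SD G 4 p f d m K S)
    (hidx : ∀ x : G, x ≠ 1 → ¬ p ∣ (centralizer ({x} : Set G)).index →
      (centralizer ({x} : Set G)).index = ((p ^ f) ^ 2 + 1) ^ 2 * ((p ^ f) ^ 6 - 1)) : IsSimpleGroup G := by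
  have := h.normal
  have := h.simple
  obtain ⟨s, hs, hso, hsS⟩ := h.ex
  have hpK := p_not_dvd_K h hidx
  have hE := noEdge_quot h hs hso
  have hsp : s ≠ p := by
    rintro rfl
    have h1 := h.num.d_cases
    rcases Nat.eq_zero_or_pos d with h0 | h0
    · omega
    · have h2 : ((s ^ f : ℕ) : ZMod s) = 0 := by
        rw [ZMod.natCast_eq_zero_iff]
        exact dvd_pow_self s (by have := h.hY.hf; omega)
      rw [h2] at hso
      have h3 : orderOf (0 : ZMod s) = 0 := by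
        rw [orderOf_eq_zero_iff']
        intro k hk
        have := Fact.mk hs
        rw [zero_pow (by omega)]
        exact zero_ne_one
      omega
  refine Cfsg.Agent.H370.AAM.rowD (K := K) (H := S) h.nonab h.out h.hY hs hsp ?_ hE hsS hpK
    fun r hr _ hro => not_dvd_K h hr (Or.inl hro)
  rcases h.num.d_cases with h1 | h1
  · left; rw [hso, h1]
  · right; rw [hso, h1]

end Cfsg.Agent.H429.CD
end

private theorem dce_8e1bb5ba6312 : _root_.True := by
  try have : _root_.True := by simp only [_root_.Cfsg.Agent.H370.AAM.chkT.eq_1]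
  try have : _root_.True := by simp only [_root_.Cfsg.Agent.H370.AAM.lieB'._sparseCasesOn_1.else_eq]
  try have : _root_.True := by simp only [_root_.Cfsg.Agent.H370.AAM.lieB'.eq_1]
  try have : _root_.True := by simp only [_root_.Cfsg.Agent.H370.AAM.lieB'.eq_2]
  try have : _root_.True := by simp only [_root_.Cfsg.Agent.H60.DE.Num.eq_1]
  exact _root_.True.intro
end

-- part: H72/CS4/Row
section
prune_inst 0x1100114000c0000000000090110020044400059000200001d800034202065300000001004c801c00002a220000000020010000d00000000000000000000000001028040010000008000000801084000000000000000000000000000000041004000000000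
set_option linter.all false
open scoped Cfsg.Agent.FastGrp

-- part: H72/CS4/IsolA
section
/-!
# Isolated abelian Hall subgroups (the abelian version of `H364.Isol`, after helper364)
-/

set_option autoImplicit false

namespace Cfsg.Agent.H72.CS4

open Subgroup Cfsg.Agent.H364

/-- `T` is an abelian Hall subgroup of order `m` and no element of prime order `r ∣ m` commutes with an element of
prime order `s ∤ m`. -/
structure IsolA (G : Type*) [Group G] (T : Subgroup G) (m : ℕ) : Prop where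
  ab : ∀ a ∈ T, ∀ b ∈ T, a * b = b * a
  card : Nat.card T = m
  cop : m.Coprime (Nat.card G / m)
  edge : ∀ r s : ℕ, r.Prime → s.Prime → r ∣ m → ¬ s ∣ m → NoEdge G r s

namespace IsolA

variable {G : Type*} [Group G] [Finite G] {T : Subgroup G} {m : ℕ}

theorem pos (h : IsolA G T m) : 0 < m := h.card ▸ Nat.card_pos

omit [Finite G] in
theorem dvd (h : IsolA G T m) : m ∣ Nat.card G := h.card ▸ Subgroup.card_subgroup_dvd_card T

omit [Finite G] in
theorem comm (h : IsolA G T m) {a b : G} (ha : a ∈ T) (hb : b ∈ T) : Commute a b := h.ab a ha b hb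

omit [Finite G] in
theorem mul_eq (h : IsolA G T m) : m * (Nat.card G / m) = Nat.card G := Nat.mul_div_cancel' h.dvd

/-- A subgroup containing `T` with only primes dividing `m` is `T`. -/
theorem eq_of_primes (h : IsolA G T m) {C : Subgroup G} (hTC : T ≤ C)
    (hp : ∀ s, s.Prime → s ∣ Nat.card C → s ∣ m) : C = T := by
  have h1 : Nat.card T * T.relIndex C = Nat.card C := by
    rw [← Subgroup.relIndex_bot_left T, ← Subgroup.relIndex_bot_left C]
    exact Subgroup.relIndex_mul_relIndex _ _ _ bot_le hTC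
  have h2 : Nat.card C ∣ Nat.card G := Subgroup.card_subgroup_dvd_card C
  have h3 : T.relIndex C ∣ Nat.card G / m := by
    rw [← h1, h.card, ← h.mul_eq] at h2
    exact Nat.dvd_of_mul_dvd_mul_left h.pos h2
  have h4 : T.relIndex C = 1 := by
    by_contra hne
    obtain ⟨s, hs, hsd⟩ := Nat.exists_prime_and_dvd hne
    have h5 : s ∣ m := hp s hs (hsd.trans (h1 ▸ Dvd.intro_left _ rfl))
    have h6 : s ∣ Nat.card G / m := hsd.trans h3
    have := Nat.dvd_gcd h5 h6
    rw [h.cop] at this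
    exact hs.one_lt.ne' (Nat.dvd_one.1 this)
  exact le_antisymm (Subgroup.relIndex_eq_one.1 h4) hTC

/-- The centralizer of a nontrivial element of `T` is `T`. -/
theorem commute_mem (h : IsolA G T m) {t x : G} (ht : t ∈ T) (ht1 : t ≠ 1) (hx : Commute t x) : x ∈ T := by
  have hTC : T ≤ centralizer ({t} : Set G) := fun a ha => by
    rw [Subgroup.mem_centralizer_singleton_iff]
    exact (h.comm ha ht).eq
  have hC : centralizer ({t} : Set G) = T := by
    refine h.eq_of_primes hTC fun s hs hsd => ?_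
    by_contra hsm
    have := Fact.mk hs
    obtain ⟨b, hb⟩ := exists_prime_orderOf_dvd_card' s hsd
    have hn1 : orderOf t ≠ 1 := fun h => ht1 (orderOf_eq_one_iff.1 h)
    obtain ⟨r, hr, hrd⟩ := Nat.exists_prime_and_dvd hn1
    have hrm : r ∣ m := by
      rw [← h.card]
      refine hrd.trans ?_
      have := _root_.orderOf_dvd_natCard (⟨t, ht⟩ : T)
      rwa [← Subgroup.orderOf_coe] at this
    have hbt : Commute t (b : G) := by
      have := Subgroup.mem_centralizer_singleton_iff.1 b.2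
      exact (show (b : G) * t = t * b from this).symm
    refine (h.edge r s hr hs hrm hsm).false_of_dvd hr hs ?_ hbt hrd ?_
    · rintro rfl; exact hsm hrm
    · rw [Subgroup.orderOf_coe, hb]
  rw [← hC, Subgroup.mem_centralizer_singleton_iff]
  exact hx.eq.symm

/-- `N_G(A) ≤ N_G(T)` for a nontrivial subgroup `A` of `T`. -/
theorem normalizer_le (h : IsolA G T m) {A : Subgroup G} (hA : A ≤ T) (hA1 : A ≠ ⊥) :
    normalizer (A : Set G) ≤ normalizer (T : Set G) := by
  obtain ⟨a, ha⟩ := Subgroup.ne_bot_iff_exists_ne_one.1 hA1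
  obtain ⟨a, haA, ha1⟩ : ∃ a : G, a ∈ A ∧ a ≠ 1 := ⟨(a : G), a.2, fun h => ha (Subtype.ext h)⟩
  have key : ∀ g ∈ normalizer (A : Set G), ∀ x ∈ T, g * x * g⁻¹ ∈ T := by
    intro g hg x hx
    have h1 : g * a * g⁻¹ ∈ A := (Subgroup.mem_normalizer_iff.1 hg a).1 haA
    refine h.commute_mem (hA h1) ?_ ?_
    · intro h2
      apply ha1
      have : g⁻¹ * (g * a * g⁻¹) * g = 1 := by rw [h2]; simp
      simpa [mul_assoc] using this
    · have h3 := h.comm (hA haA) hx
      change (g * a * g⁻¹) * (g * x * g⁻¹) = (g * x * g⁻¹) * (g * a * g⁻¹)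
      have h4 : a * x = x * a := h3
      calc (g * a * g⁻¹) * (g * x * g⁻¹) = g * (a * x) * g⁻¹ := by group
        _ = g * (x * a) * g⁻¹ := by rw [h4]
        _ = _ := by group
  intro g hg
  rw [Subgroup.mem_normalizer_iff]
  intro x
  refine ⟨key g hg x, fun hx => ?_⟩
  have := key g⁻¹ (inv_mem hg) _ hx
  simpa [mul_assoc] using this

theorem not_mem_conj (h : IsolA G T m) {g t : G} (ht : t ∈ T) (ht1 : t ≠ 1) (hg : g ∉ T) : g * t * g⁻¹ ≠ t := by
  intro h1
  exact hg (h.commute_mem ht ht1 ((mul_inv_eq_iff_eq_mul.1 h1 : g * t = t * g)).symm)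

omit [Finite G] in
theorem not_dvd_div (h : IsolA G T m) {r : ℕ} (hr : r.Prime) (hrm : r ∣ m) : ¬ r ∣ Nat.card G / m := fun h3 => by
  have := Nat.dvd_gcd hrm h3
  rw [h.cop] at this
  exact hr.one_lt.ne' (Nat.dvd_one.1 this)

theorem div_ne_zero (h : IsolA G T m) : Nat.card G / m ≠ 0 := fun h4 => by
  have := h.mul_eq
  rw [h4, mul_zero] at this
  exact Nat.card_pos.ne this

theorem factorization_eq (h : IsolA G T m) {r : ℕ} (hr : r.Prime) (hrm : r ∣ m) :
    m.factorization r = (Nat.card G).factorization r := by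
  rw [← h.mul_eq, Nat.factorization_mul h.pos.ne' h.div_ne_zero, Finsupp.add_apply,
    Nat.factorization_eq_zero_of_not_dvd (h.not_dvd_div hr hrm), add_zero]

/-- `T` contains a Sylow `r`-subgroup of `G`. -/
theorem exists_sylow (h : IsolA G T m) {r : ℕ} [hr : Fact r.Prime] (hrm : r ∣ m) :
    ∃ R : Sylow r G, (R : Subgroup G) ≤ T := by
  obtain ⟨R⟩ : Nonempty (Sylow r T) := inferInstance
  have h1 : Nat.card ((R : Subgroup T).map T.subtype) = r ^ (Nat.card G).factorization r := by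
    rw [Subgroup.card_map_of_injective T.subtype_injective, R.card_eq_multiplicity, h.card]
    rw [h.factorization_eq hr.out hrm]
  exact ⟨Sylow.ofCard _ h1, fun x hx => by
    obtain ⟨y, _, rfl⟩ := Subgroup.mem_map.1 hx
    exact y.2⟩

/-- `T` contains the Sylow subgroup and normalises it. -/
theorem exists_sylow' (h : IsolA G T m) {r : ℕ} [hr : Fact r.Prime] (hrm : r ∣ m) :
    ∃ R : Sylow r G, (R : Subgroup G) ≤ T ∧ Nat.card R = r ^ m.factorization r ∧
      normalizer ((R : Subgroup G) : Set G) = normalizer (T : Set G) := by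
  obtain ⟨R, hRT⟩ := h.exists_sylow hrm
  refine ⟨R, hRT, by rw [R.card_eq_multiplicity, h.factorization_eq hr.out hrm], ?_⟩
  have hR1 : (R : Subgroup G) ≠ ⊥ := R.ne_bot_of_dvd_card (hrm.trans h.dvd)
  apply le_antisymm (h.normalizer_le hRT hR1)
  have hR : ∀ x ∈ T, (x ∈ (R : Subgroup G) ↔ x ^ Nat.card R = 1) := by
    intro x hx
    constructor
    · intro hxR
      have := pow_card_eq_one' (G := (R : Subgroup G)) (x := ⟨x, hxR⟩)
      exact congrArg Subtype.val this
    · intro hx1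
      have hp : IsPGroup r (zpowers x) := by
        obtain ⟨k, hk⟩ := IsPGroup.iff_card.1 R.isPGroup'
        rw [hk] at hx1
        obtain ⟨j, -, hj⟩ := (Nat.dvd_prime_pow hr.out).1 (orderOf_dvd_of_pow_eq_one hx1)
        exact IsPGroup.of_card (n := j) (by rw [Nat.card_zpowers, hj])
      have h3 : x ∈ normalizer ((R : Subgroup G) : Set G) := by
        rw [Subgroup.mem_normalizer_iff]
        have hc : ∀ y ∈ T, x * y * x⁻¹ = y := fun y hy => mul_inv_eq_iff_eq_mul.2 (h.comm hx hy)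
        intro y
        constructor
        · intro hy; rw [hc y (hRT hy)]; exact hy
        · intro hy
          have h4 : x * y * x⁻¹ ∈ T := hRT hy
          have h5 : y ∈ T := by
            have := T.mul_mem (T.mul_mem (T.inv_mem hx) h4) hx
            simpa [mul_assoc] using this
          rwa [hc y h5] at hy
      have h4 := IsPGroup.inf_normalizer_sylow hp R
      have h5 : x ∈ zpowers x ⊓ normalizer ((R : Subgroup G) : Set G) := ⟨mem_zpowers x, h3⟩
      exact (show x ∈ zpowers x ⊓ (R : Subgroup G) from h4 ▸ h5).2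
  intro g hg
  rw [Subgroup.mem_normalizer_iff] at hg ⊢
  intro x
  constructor
  · intro hx
    have h2 := (hg x).1 (hRT hx)
    exact (hR _ h2).2 (by rw [conj_pow, (hR x (hRT hx)).1 hx]; simp)
  · intro hx
    have h2 := (hg x).2 (hRT hx)
    refine (hR _ h2).2 ?_
    have h3 := (hR _ (hRT hx)).1 hx
    rw [conj_pow] at h3
    have : g⁻¹ * (g * x ^ Nat.card R * g⁻¹) * g = 1 := by rw [h3]; simp
    simpa only [mul_assoc, _root_.inv_mul_cancel_left, _root_.inv_mul_cancel, _root_.mul_one] using this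

/-- The order of the normaliser: `|N(T)| = m * n` with `n ∣ r ^ v_r(m) - 1` for each prime `r ∣ m`. -/
theorem exists_n (h : IsolA G T m) : ∃ n, Nat.card (normalizer (T : Set G)) = m * n ∧
    ∀ r, r.Prime → r ∣ m → n ∣ r ^ m.factorization r - 1 := by
  have hTN : T ≤ normalizer (T : Set G) := Subgroup.le_normalizer
  obtain ⟨n, hn⟩ : m ∣ Nat.card (normalizer (T : Set G)) := by
    conv_lhs => rw [← h.card]
    exact Subgroup.card_dvd_of_le hTN
  refine ⟨n, hn, fun r hr hrm => ?_⟩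
  have := Fact.mk hr
  have hmpos := h.pos
  obtain ⟨R, hRT, hRc, hRN⟩ := h.exists_sylow' hrm
  let Y : Type _ := {t : (R : Subgroup G) // t ≠ 1}
  have hY : Nat.card Y = r ^ m.factorization r - 1 := by
    have := Fintype.ofFinite (R : Subgroup G)
    classical
    rw [Nat.card_eq_fintype_card, Fintype.card_subtype_compl, Fintype.card_subtype_eq, ← Nat.card_eq_fintype_card]
    have h0 : Nat.card (R : Subgroup G) = r ^ m.factorization r := hRc
    rw [h0]
  have hN : ∀ (x : normalizer (T : Set G)) (t : (R : Subgroup G)), (x : G) * t * (x : G)⁻¹ ∈ (R : Subgroup G) :=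
    fun x t => by
      have hx : (x : G) ∈ normalizer ((R : Subgroup G) : Set G) := by rw [hRN]; exact x.2
      exact (Subgroup.mem_normalizer_iff.1 hx t).1 t.2
  have hact1 : ∀ (x : normalizer (T : Set G)) (t : Y),
      (⟨(x : G) * (t.1 : G) * (x : G)⁻¹, hN x t.1⟩ : (R : Subgroup G)) ≠ 1 := by
    intro x t h1
    apply t.2
    apply Subtype.ext
    have h2 : (x : G) * (t.1 : G) * (x : G)⁻¹ = 1 := congrArg Subtype.val h1
    have : (x : G)⁻¹ * ((x : G) * (t.1 : G) * (x : G)⁻¹) * x = 1 := by rw [h2]; simp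
    simpa only [mul_assoc, _root_.ne_eq, _root_.OneMemClass.coe_one, _root_.OneMemClass.coe_eq_one, _root_.inv_mul_cancel_left, _root_.inv_mul_cancel, _root_.mul_one] using this
  let act : MulAction (normalizer (T : Set G)) Y :=
    { smul := fun x t => ⟨⟨(x : G) * (t.1 : G) * (x : G)⁻¹, hN x t.1⟩, hact1 x t⟩
      one_smul := fun t => Subtype.ext (Subtype.ext (by
        change ((1 : normalizer (T : Set G)) : G) * (t.1 : G) * ((1 : normalizer (T : Set G)) : G)⁻¹ = t.1
        simp only [_root_.OneMemClass.coe_one, _root_.ne_eq, _root_.one_mul, _root_.inv_one, _root_.mul_one]))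
      mul_smul := fun x y t => Subtype.ext (Subtype.ext (by
        change ((x * y : normalizer (T : Set G)) : G) * (t.1 : G) * ((x * y : normalizer (T : Set G)) : G)⁻¹ =
          (x : G) * ((y : G) * (t.1 : G) * (y : G)⁻¹) * (x : G)⁻¹
        simp only [mul_assoc, _root_.Subgroup.coe_mul, _root_.ne_eq, _root_.mul_inv_rev])) }
  have hstab : ∀ t : Y, Nat.card (MulAction.stabilizer (normalizer (T : Set G)) t) = m := by
    intro t
    have h1 : MulAction.stabilizer (normalizer (T : Set G)) t = T.subgroupOf (normalizer (T : Set G)) := by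
      ext x
      rw [MulAction.mem_stabilizer_iff, Subgroup.mem_subgroupOf]
      have ht1 : ((t.1 : (R : Subgroup G)) : G) ≠ 1 := fun h => t.2 (Subtype.ext h)
      constructor
      · intro hx
        have h2 : (x : G) * (t.1 : G) * (x : G)⁻¹ = t.1 := congrArg (fun y : Y => ((y.1 : (R : Subgroup G)) : G)) hx
        by_contra h3
        exact h.not_mem_conj (hRT t.1.2) ht1 h3 h2
      · intro hx
        apply Subtype.ext
        apply Subtype.ext
        change (x : G) * (t.1 : G) * (x : G)⁻¹ = t.1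
        exact mul_inv_eq_iff_eq_mul.2 (h.comm hx (hRT t.1.2))
    rw [h1, Nat.card_congr (Subgroup.subgroupOfEquivOfLe hTN).toEquiv, h.card]
  obtain ⟨k, hk⟩ := Cfsg.Agent.Lib.ActCount.exists_card_mul (H := normalizer (T : Set G)) (Y := Y) m hstab
  rw [hn, hY] at hk
  have hk2 : m * (r ^ m.factorization r - 1) = m * (k * n) := by rw [hk]; ring
  have hk3 : r ^ m.factorization r - 1 = k * n := Nat.eq_of_mul_eq_mul_left hmpos hk2
  exact Dvd.intro_left _ hk3.symm

/-- A Sylow subgroup which meets a given Sylow subgroup contained in `T` nontrivially is equal to it. -/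
theorem sylow_eq (h : IsolA G T m) {r : ℕ} [hr : Fact r.Prime] {R P : Sylow r G} (hRT : (R : Subgroup G) ≤ T)
    {x : G} (hxR : x ∈ (R : Subgroup G)) (hxP : x ∈ (P : Subgroup G)) (hx : x ≠ 1) : P = R := by
  obtain ⟨g, hg⟩ := MulAction.exists_smul_eq G R P
  have hPab : ∀ a ∈ (P : Subgroup G), ∀ b ∈ (P : Subgroup G), a * b = b * a := by
    intro a ha b hb
    rw [← hg] at ha hb
    obtain ⟨a', ha', rfl⟩ := ha
    obtain ⟨b', hb', rfl⟩ := hb
    have h1 : a' * b' = b' * a' := h.ab a' (hRT ha') b' (hRT hb')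
    have h2 := congrArg (fun z => g * z * g⁻¹) h1
    simp only [MulDistribMulAction.toMonoidEnd_apply, MulDistribMulAction.toMonoidHom_apply, MulAut.smul_def,
      MulAut.conj_apply]
    calc g * a' * g⁻¹ * (g * b' * g⁻¹) = g * (a' * b') * g⁻¹ := by group
      _ = g * (b' * a') * g⁻¹ := h2
      _ = _ := by group
  have hPT : (P : Subgroup G) ≤ T := fun y hy => h.commute_mem (hRT hxR) hx (hPab x hxP y hy)
  have hle : (P : Subgroup G) ≤ R := by
    intro y hy
    have hyp : IsPGroup r (zpowers y) := by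
      obtain ⟨k, hk⟩ := IsPGroup.iff_card.1 P.isPGroup'
      have h1 : orderOf y ∣ r ^ k := by
        rw [← hk]
        have := _root_.orderOf_dvd_natCard (⟨y, hy⟩ : (P : Subgroup G))
        rwa [Subgroup.orderOf_mk] at this
      obtain ⟨j, -, hj⟩ := (Nat.dvd_prime_pow hr.out).1 h1
      exact IsPGroup.of_card (n := j) (by rw [Nat.card_zpowers, hj])
    have h3 : y ∈ normalizer ((R : Subgroup G) : Set G) := by
      have hc : ∀ z ∈ T, y * z * y⁻¹ = z := fun z hz => mul_inv_eq_iff_eq_mul.2 (h.comm (hPT hy) hz)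
      rw [Subgroup.mem_normalizer_iff]
      intro z
      constructor
      · intro hz; rw [hc z (hRT hz)]; exact hz
      · intro hz
        have h4 : y * z * y⁻¹ ∈ T := hRT hz
        have h5 : z ∈ T := by
          have := T.mul_mem (T.mul_mem (T.inv_mem (hPT hy)) h4) (hPT hy)
          simpa [mul_assoc] using this
        rwa [hc z h5] at hz
    have h4 := IsPGroup.inf_normalizer_sylow hyp R
    have h5 : y ∈ zpowers y ⊓ normalizer ((R : Subgroup G) : Set G) := ⟨mem_zpowers y, h3⟩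
    exact (show y ∈ zpowers y ⊓ (R : Subgroup G) from h4 ▸ h5).2
  exact (Sylow.ext (P.3 R.isPGroup' hle)).symm

/-- The congruence `|G| / m ≡ n mod r ^ v_r(m)`. -/
theorem modEq (h : IsolA G T m) {n : ℕ} (hn : Nat.card (normalizer (T : Set G)) = m * n) {r : ℕ} (hr : r.Prime)
    (hrm : r ∣ m) : Nat.card G / m ≡ n [MOD r ^ m.factorization r] := by
  have := Fact.mk hr
  obtain ⟨R, hRT, hRc, hRN⟩ := h.exists_sylow' hrm
  let Y : Type _ := {P : Sylow r G // P ≠ R}
  have hfix : ∀ x : (R : Subgroup G), (x : G) • R = R := fun x => by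
    exact Sylow.smul_eq_iff_mem_normalizer.2 (Subgroup.le_normalizer x.2)
  have hne : ∀ (x : (R : Subgroup G)) (P : Y), (x : G) • P.1 ≠ R := by
    intro x P h1
    apply P.2
    exact (smul_left_cancel_iff (x : G)).1 (h1.trans (hfix x).symm)
  let act : MulAction (R : Subgroup G) Y :=
    { smul := fun x P => ⟨(x : G) • P.1, hne x P⟩
      one_smul := fun P => Subtype.ext (by
        change ((1 : (R : Subgroup G)) : G) • P.1 = P.1
        rw [Subgroup.coe_one, one_smul])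
      mul_smul := fun x y P => Subtype.ext (by
        change ((x * y : (R : Subgroup G)) : G) • P.1 = (x : G) • ((y : G) • P.1)
        rw [Subgroup.coe_mul, mul_smul]) }
  have hstab : ∀ P : Y, Nat.card (MulAction.stabilizer (R : Subgroup G) P) = 1 := by
    intro P
    rw [Subgroup.card_eq_one, eq_bot_iff]
    intro x hx
    rw [MulAction.mem_stabilizer_iff] at hx
    have h1 : (x : G) • P.1 = P.1 := congrArg Subtype.val hx
    have h2 := Sylow.smul_eq_iff_mem_normalizer.1 h1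
    have hxp : IsPGroup r (zpowers (x : G)) := by
      obtain ⟨k, hk⟩ := IsPGroup.iff_card.1 R.isPGroup'
      have h1 : orderOf (x : G) ∣ r ^ k := by
        rw [← hk, Subgroup.orderOf_coe]
        exact _root_.orderOf_dvd_natCard x
      obtain ⟨j, -, hj⟩ := (Nat.dvd_prime_pow hr).1 h1
      exact IsPGroup.of_card (n := j) (by rw [Nat.card_zpowers, hj])
    have h4 := IsPGroup.inf_normalizer_sylow hxp P.1
    have h5 : (x : G) ∈ zpowers (x : G) ⊓ normalizer ((P.1 : Subgroup G) : Set G) := ⟨mem_zpowers _, h2⟩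
    have h6 : (x : G) ∈ (P.1 : Subgroup G) := (show (x : G) ∈ zpowers (x : G) ⊓ (P.1 : Subgroup G) from h4 ▸ h5).2
    by_contra h7
    refine P.2 (h.sylow_eq hRT x.2 h6 fun h8 => h7 ?_)
    rw [Subgroup.mem_bot]
    exact Subtype.ext h8
  obtain ⟨k, hk⟩ := Cfsg.Agent.Lib.ActCount.exists_card_mul (H := (R : Subgroup G)) (Y := Y) 1 hstab
  have hY : Nat.card (Sylow r G) = Nat.card Y + 1 := by
    have := Fintype.ofFinite (Sylow r G)
    classical
    rw [Nat.card_eq_fintype_card, Nat.card_eq_fintype_card, Fintype.card_subtype_compl, Fintype.card_subtype_eq]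
    have : 0 < Fintype.card (Sylow r G) := Fintype.card_pos
    omega
  have h0 : Nat.card (R : Subgroup G) = r ^ m.factorization r := hRc
  rw [one_mul, h0] at hk
  have h2 : (normalizer (T : Set G)).index = k * r ^ m.factorization r + 1 := by
    rw [← hRN, ← hk, ← hY]
    exact (R.card_eq_index_normalizer).symm
  have h3 := Subgroup.card_mul_index (normalizer (T : Set G))
  rw [hn, mul_assoc] at h3
  have h4 : Nat.card G / m = n * (normalizer (T : Set G)).index := by
    rw [← h3]; exact Nat.mul_div_cancel_left _ h.pos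
  rw [h4, h2]
  have h5 : k * r ^ m.factorization r + 1 ≡ 1 [MOD r ^ m.factorization r] := by
    have := (Nat.modEq_zero_iff_dvd.2 (Dvd.intro_left k rfl : r ^ m.factorization r ∣ k * r ^ m.factorization r)).add_right 1
    simpa using this
  have h6 := h5.mul_left n
  rwa [mul_one] at h6

end IsolA

end Cfsg.Agent.H72.CS4
end

-- part: H72/CS4/Struct
section
/-!
# Structure of groups with an isolated abelian Hall subgroup (after helper364)
-/

set_option autoImplicit false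

namespace Cfsg.Agent.H72.CS4

open Subgroup Cfsg.Agent.H364

/-- Conjugates of isolated subgroups are isolated. -/
theorem IsolA.conj {G : Type*} [Group G] {T : Subgroup G} {m : ℕ} (h : IsolA G T m) (g : G) :
    IsolA G (T.map (MulAut.conj g).toMonoidHom) m where
  ab := by
    rintro _ ⟨a, ha, rfl⟩ _ ⟨b, hb, rfl⟩
    rw [← map_mul, ← map_mul, h.ab a ha b hb]
  card := by rw [Subgroup.card_map_of_injective (MulAut.conj g).injective, h.card]
  cop := h.cop
  edge := h.edge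

theorem IsolA.card_normalizer_conj {G : Type*} [Group G] [Finite G] {T : Subgroup G} {m n : ℕ} (h : IsolA G T m)
    (hn : Nat.card (normalizer (T : Set G)) = m * n) (g : G) :
    Nat.card (normalizer ((T.map (MulAut.conj g).toMonoidHom : Subgroup G) : Set G)) = m * n := by
  rw [← hn]
  have h1 := Subgroup.map_equiv_normalizer_eq T (MulAut.conj g)
  change (normalizer (T : Set G)).map (MulAut.conj g).toMonoidHom =
    normalizer ((T.map (MulAut.conj g).toMonoidHom : Subgroup G) : Set G) at h1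
  rw [← h1, Subgroup.card_map_of_injective (MulAut.conj g).injective]

/-- **Structure theorem**, core free case. -/
theorem IsolA.struct_core {G : Type*} [Group G] [Finite G] {T : Subgroup G} {m n : ℕ} (h : IsolA G T m) (hm : 1 < m)
    (h2 : ¬ 2 ∣ m) (hn : Nat.card (normalizer (T : Set G)) = m * n)
    (hcor : ∀ L : Subgroup G, L.Normal → (Nat.card L).Coprime m → L = ⊥) :
    Nat.card G = m * n ∨ ∃ N : Subgroup G, N.Normal ∧ IsSimpleGroup N ∧ (¬ ∀ a b : N, a * b = b * a) ∧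
      centralizer (N : Set G) = ⊥ ∧ T ≤ N ∧ ∃ n', 1 < n' ∧ n' * N.index = n := by
  have hnt : Nontrivial G := by
    rw [← Finite.one_lt_card_iff_nontrivial]
    exact lt_of_lt_of_le hm (Nat.le_of_dvd Nat.card_pos h.dvd)
  obtain ⟨N, hNn, hN, hmin⟩ := exists_minimal_normal G
  obtain ⟨r, hr, hrN, hrm⟩ := Nat.Prime.not_coprime_iff_dvd.1 (fun hc => hN (hcor N hNn hc))
  have := Fact.mk hr
  rcases minimal_normal_cases N hN hmin hr hrN with hpg | ⟨k, S, hk, hSN, hS, hSna, hSr, hScard, hScomm, hSsup⟩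
  · left
    obtain ⟨R, hRT⟩ := h.exists_sylow hrm
    have h1 : N ≤ T := (hpg.le_sylow_of_normal R).trans hRT
    have h3 := h.normalizer_le h1 hN
    rw [Subgroup.normalizer_eq_top, top_le_iff] at h3
    rw [h3, Subgroup.card_top] at hn
    exact hn
  · right
    have hS2 : ∀ i, 2 ∣ Nat.card (S i) := fun i => by
      have := hS i
      exact two_dvd_card (hSna i)
    have hr2 : r ≠ 2 := by rintro rfl; exact h2 hrm
    have hk1 : k = 1 := by
      by_contra hne
      have h01 : (⟨0, hk⟩ : Fin k) ≠ ⟨1, by omega⟩ := by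
        intro h; simp at h
      exact (h.edge r 2 hr Nat.prime_two hrm h2).false_of_subgroups hr Nat.prime_two hr2
        (hScomm _ _ h01) (hSr _) (hS2 _)
    subst hk1
    have hNS : S 0 = N := by
      rw [← hSsup]
      exact (iSup_unique (f := S)).symm
    have hNs : IsSimpleGroup N := hNS ▸ hS 0
    have hNna : ¬ ∀ a b : N, a * b = b * a := hNS ▸ hSna 0
    have hN2 : 2 ∣ Nat.card N := hNS ▸ hS2 0
    have hcent : centralizer (N : Set G) = ⊥ := by
      refine hcor _ inferInstance ?_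
      by_contra hc
      obtain ⟨r', hr', hr'C, hr'm⟩ := Nat.Prime.not_coprime_iff_dvd.1 hc
      refine (h.edge r' 2 hr' Nat.prime_two hr'm h2).false_of_subgroups hr' Nat.prime_two
        (by rintro rfl; exact h2 hr'm) (A := centralizer (N : Set G)) (B := N) ?_ hr'C hN2
      intro a ha b hb
      exact (Subgroup.mem_centralizer_iff.1 ha b hb).symm
    obtain ⟨Q⟩ : Nonempty (Sylow r N) := inferInstance
    -- a conjugate `T'` of `T` containing the Sylow subgroup of `N`
    have hQp : IsPGroup r ((Q : Subgroup N).map N.subtype) := Q.isPGroup'.map _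
    obtain ⟨R, hRT⟩ := h.exists_sylow hrm
    obtain ⟨g, hg⟩ : ∃ g : G, (Q : Subgroup N).map N.subtype ≤ T.map (MulAut.conj g).toMonoidHom := by
      obtain ⟨R', hR'⟩ := hQp.exists_le_sylow
      obtain ⟨g, hg⟩ := MulAction.exists_smul_eq G R R'
      refine ⟨g, hR'.trans ?_⟩
      rw [← hg]
      exact Subgroup.map_mono hRT
    have h' := h.conj g
    set T' : Subgroup G := T.map (MulAut.conj g).toMonoidHom with hT'
    have hn' : Nat.card (normalizer (T' : Set G)) = m * n := h.card_normalizer_conj hn g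
    set Q' : Subgroup G := (Q : Subgroup N).map N.subtype with hQ'
    have hQ1 : (Q : Subgroup N) ≠ ⊥ := Q.ne_bot_of_dvd_card hrN
    have hQ'1 : Q' ≠ ⊥ := fun h => hQ1 ((Subgroup.map_eq_bot_iff_of_injective _ N.subtype_injective).1 h)
    have hle : normalizer (Q' : Set G) ≤ normalizer (T' : Set G) := h'.normalizer_le hg hQ'1
    have hsup : normalizer (T' : Set G) ⊔ N = ⊤ := by
      rw [eq_top_iff, ← Sylow.normalizer_sup_eq_top Q]
      exact sup_le_sup_right hle N
    obtain ⟨x, hxN, hxT, hxN'⟩ : ∃ x ∈ N, x ∉ T' ∧ x ∈ normalizer (T' : Set G) := by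
      by_contra hcon
      push Not at hcon
      have hle2 : normalizer ((Q : Subgroup N) : Set N) ≤ centralizer ((Q : Subgroup N) : Set N) := by
        intro x hx
        have h3 : (x : G) ∈ normalizer (Q' : Set G) := by
          rw [Subgroup.mem_normalizer_iff] at hx ⊢
          intro y
          rw [hQ', Subgroup.mem_map, Subgroup.mem_map]
          constructor
          · rintro ⟨z, hz, rfl⟩
            exact ⟨x * z * x⁻¹, (hx z).1 hz, rfl⟩
          · rintro ⟨z, hz, hzy⟩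
            refine ⟨x⁻¹ * z * x, (hx _).2 (by simpa only [mul_assoc, _root_.mul_inv_cancel_left, _root_.mul_inv_cancel, _root_.mul_one] using hz), ?_⟩
            have : (x : G)⁻¹ * (N.subtype z) * x = y := by rw [hzy]; simp [mul_assoc]
            rw [← this]; rfl
        have h4 : (x : G) ∈ T' := by
          by_contra h5
          exact hcon x x.2 h5 (hle h3)
        rw [Subgroup.mem_centralizer_iff]
        intro y hy
        apply Subtype.ext
        have h5 : (y : G) ∈ T' := hg ⟨y, hy, rfl⟩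
        exact (h'.comm h5 h4).eq
      have hcompl := MonoidHom.ker_transferSylow_isComplement' Q hle2
      rcases (inferInstance : (MonoidHom.transferSylow Q hle2).ker.Normal).eq_bot_or_eq_top with h3 | h3
      · rw [h3, Subgroup.isComplement'_bot_left] at hcompl
        apply hNna
        intro a b
        have ha : a ∈ (Q : Subgroup N) := hcompl ▸ Subgroup.mem_top a
        have hb : b ∈ (Q : Subgroup N) := hcompl ▸ Subgroup.mem_top b
        exact (Subgroup.mem_centralizer_iff.1 (hle2 (Subgroup.le_normalizer hb)) a ha)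
      · rw [h3, Subgroup.isComplement'_top_left] at hcompl
        exact hQ1 hcompl
    have hT'N : T' ≤ N := by
      have hmem : ∀ t : T', x * t * x⁻¹ * (t : G)⁻¹ ∈ T' := fun t =>
        T'.mul_mem ((Subgroup.mem_normalizer_iff.1 hxN' t).1 t.2) (T'.inv_mem t.2)
      let φ : T' → T' := fun t => ⟨x * t * x⁻¹ * (t : G)⁻¹, hmem t⟩
      have hinj : Function.Injective φ := by
        intro s t hst
        by_contra hne
        have h3 : x * s * x⁻¹ * (s : G)⁻¹ = x * t * x⁻¹ * (t : G)⁻¹ := congrArg Subtype.val hst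
        have hu : ((t : G)⁻¹ * s) ∈ T' := T'.mul_mem (T'.inv_mem t.2) s.2
        have hu1 : ((t : G)⁻¹ * s) ≠ 1 := fun h5 => hne (Subtype.ext (inv_mul_eq_one.1 h5).symm)
        apply h'.not_mem_conj hu hu1 hxT
        have h4 : Commute ((x : G) * t * x⁻¹) ((t : G)⁻¹) :=
          h'.comm ((Subgroup.mem_normalizer_iff.1 hxN' t).1 t.2) (T'.inv_mem t.2)
        calc x * ((t : G)⁻¹ * s) * x⁻¹ = (x * t * x⁻¹)⁻¹ * (x * s * x⁻¹ * (s : G)⁻¹) * s := by group
          _ = (x * t * x⁻¹)⁻¹ * ((x * t * x⁻¹) * (t : G)⁻¹) * s := by rw [h3]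
          _ = (t : G)⁻¹ * s := by group
      have hsurj := Finite.surjective_of_injective hinj
      intro t ht
      obtain ⟨s, hs⟩ := hsurj ⟨t, ht⟩
      have h3 : x * s * x⁻¹ * (s : G)⁻¹ = t := congrArg Subtype.val hs
      rw [← h3]
      have h4 : x * s * x⁻¹ * (s : G)⁻¹ = x * ((s : G) * x⁻¹ * (s : G)⁻¹) := by group
      rw [h4]
      exact N.mul_mem hxN (hNn.conj_mem _ (N.inv_mem hxN) _)
    have hTN : T ≤ N := by
      intro t ht
      have h3 : g * t * g⁻¹ ∈ N := hT'N ⟨t, ht, rfl⟩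
      have := hNn.conj_mem _ h3 g⁻¹
      simpa [mul_assoc] using this
    refine ⟨N, hNn, hNs, hNna, hcent, hTN, ?_⟩
    -- indices
    have h3 : N.index = N.relIndex (normalizer (T' : Set G)) := by
      rw [← Subgroup.relIndex_top_right, ← hsup, Subgroup.relIndex_sup_right]
    have h4 : Nat.card (N ⊓ normalizer (T' : Set G) : Subgroup G) * N.relIndex (normalizer (T' : Set G)) =
        Nat.card (normalizer (T' : Set G)) := by
      rw [← Subgroup.inf_relIndex_right N, ← Subgroup.relIndex_bot_left (N ⊓ normalizer (T' : Set G)),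
        ← Subgroup.relIndex_bot_left (normalizer (T' : Set G))]
      exact Subgroup.relIndex_mul_relIndex _ _ _ bot_le inf_le_right
    have h5 : T' ≤ N ⊓ normalizer (T' : Set G) := le_inf hT'N Subgroup.le_normalizer
    obtain ⟨n', hn''⟩ : m ∣ Nat.card (N ⊓ normalizer (T' : Set G) : Subgroup G) := by
      rw [← h'.card]; exact Subgroup.card_dvd_of_le h5
    refine ⟨n', ?_, ?_⟩
    · by_contra hlt
      have h6 : Nat.card (N ⊓ normalizer (T' : Set G) : Subgroup G) ≤ Nat.card T' := by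
        rw [hn'', h'.card]
        calc m * n' ≤ m * 1 := Nat.mul_le_mul_left _ (by omega)
          _ = m := mul_one m
      have h7 := Subgroup.eq_of_le_of_card_ge h5 h6
      exact hxT (h7 ▸ (⟨hxN, hxN'⟩ : x ∈ N ⊓ normalizer (T' : Set G)))
    · rw [hn', hn'', ← h3, mul_assoc] at h4
      exact Nat.eq_of_mul_eq_mul_left h.pos h4

variable {G : Type*} [Group G] [Finite G] {T : Subgroup G} {m : ℕ}

theorem IsolA.quotient (h : IsolA G T m) {K : Subgroup G} [K.Normal] (hK : (Nat.card K).Coprime m) :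
    IsolA (G ⧸ K) (T.map (QuotientGroup.mk' K)) m := by
  have hdisj : T ⊓ K = ⊥ := by
    rw [← Subgroup.card_eq_one]
    have h1 : Nat.card (T ⊓ K : Subgroup G) ∣ m := h.card ▸ Subgroup.card_dvd_of_le inf_le_left
    have h2 : Nat.card (T ⊓ K : Subgroup G) ∣ Nat.card K := Subgroup.card_dvd_of_le inf_le_right
    exact Nat.eq_one_of_dvd_coprimes hK h2 h1
  have hcard : Nat.card (T.map (QuotientGroup.mk' K)) = m := by
    rw [← h.card]
    refine (Nat.card_congr (Equiv.ofBijective (fun t : T => (⟨QuotientGroup.mk' K t, Subgroup.mem_map_of_mem _ t.2⟩ :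
      T.map (QuotientGroup.mk' K))) ⟨?_, ?_⟩)).symm
    · intro s t hst
      have h1 : QuotientGroup.mk' K (s : G) = QuotientGroup.mk' K (t : G) := congrArg Subtype.val hst
      have h2 : (s : G)⁻¹ * t ∈ K := QuotientGroup.eq.1 h1
      have h3 : (s : G)⁻¹ * t ∈ T ⊓ K := ⟨T.mul_mem (T.inv_mem s.2) t.2, h2⟩
      rw [hdisj, Subgroup.mem_bot] at h3
      exact Subtype.ext (inv_mul_eq_one.1 h3)
    · rintro ⟨x, hx⟩
      obtain ⟨t, ht, rfl⟩ := Subgroup.mem_map.1 hx
      exact ⟨⟨t, ht⟩, rfl⟩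
  have hGK : Nat.card G = Nat.card K * Nat.card (G ⧸ K) := by
    rw [← Subgroup.card_mul_index K, Subgroup.index_eq_card]
  have hm : m ∣ Nat.card (G ⧸ K) := hcard ▸ Subgroup.card_subgroup_dvd_card _
  refine ⟨?_, hcard, ?_, fun r s hr hs hrm hsm => noEdge_quotient K (h.edge r s hr hs hrm hsm)⟩
  · rintro _ ⟨a, ha, rfl⟩ _ ⟨b, hb, rfl⟩
    rw [← map_mul, ← map_mul, h.ab a ha b hb]
  · have h1 := h.cop
    rw [hGK, Nat.mul_div_assoc _ hm] at h1
    exact Nat.Coprime.coprime_dvd_right (Dvd.intro_left _ rfl) h1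

/-- **General structure theorem** for a finite group with an isolated cyclic Hall subgroup of odd order `m > 1`. -/
theorem IsolA.struct (h : IsolA G T m) (hm : 1 < m) (h2 : ¬ 2 ∣ m) :
    ∃ (K : Subgroup G) (_ : K.Normal) (n : ℕ), (Nat.card K).Coprime m ∧
      (∀ t, t.Prime → m ∣ t ^ (Nat.card K).factorization t - 1) ∧
      (∀ r, r.Prime → r ∣ m → n ∣ r ^ m.factorization r - 1 ∧
        Nat.card G / m ≡ n [MOD r ^ m.factorization r]) ∧
      (Nat.card G = Nat.card K * (m * n) ∨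
        ∃ N : Subgroup (G ⧸ K), N.Normal ∧ IsSimpleGroup N ∧ (¬ ∀ a b : N, a * b = b * a) ∧
          centralizer (N : Set (G ⧸ K)) = ⊥ ∧ m ∣ Nat.card N ∧ ∃ n', 1 < n' ∧ n' * N.index = n) := by
  obtain ⟨K, hKn, hKm, hmax⟩ := exists_core G m
  have hGK : Nat.card G = Nat.card K * Nat.card (G ⧸ K) := by
    rw [← Subgroup.card_mul_index K, Subgroup.index_eq_card]
  have hq := h.quotient hKm
  obtain ⟨n, hn, hnr⟩ := hq.exists_n
  have hparts : ∀ t, t.Prime → m ∣ t ^ (Nat.card K).factorization t - 1 := by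
    intro t ht
    by_cases htm : t ∣ m
    · have h3 : ¬ t ∣ Nat.card K := fun h4 => by
        have := Nat.dvd_gcd h4 htm
        rw [hKm] at this
        exact ht.one_lt.ne' (Nat.dvd_one.1 this)
      rw [Nat.factorization_eq_zero_of_not_dvd h3, pow_zero, Nat.sub_self]
      exact dvd_zero m
    · apply dvd_of_prime_parts h.pos.ne'
      intro r hr hrm
      rw [h.factorization_eq hr hrm]
      refine congr_one K hr ht ?_ ?_ (h.edge r t hr ht hrm htm)
      · rintro rfl; exact htm hrm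
      · intro h4
        have := Nat.dvd_gcd h4 hrm
        rw [hKm] at this
        exact hr.one_lt.ne' (Nat.dvd_one.1 this)
  have hK1 : Nat.card K ≡ 1 [MOD m] := modEq_one_of_parts Nat.card_pos.ne' hparts
  refine ⟨K, hKn, n, hKm, hparts, fun r hr hrm => ⟨hnr r hr hrm, ?_⟩, ?_⟩
  · have h3 := hq.modEq hn hr hrm
    have h4 : Nat.card G / m = Nat.card K * (Nat.card (G ⧸ K) / m) := by
      rw [hGK, Nat.mul_div_assoc _ hq.dvd]
    rw [h4]
    have h5 : Nat.card K ≡ 1 [MOD r ^ m.factorization r] := Nat.ModEq.of_dvd (Nat.ordProj_dvd m r) hK1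
    simpa only [_root_.one_mul] using h5.mul h3
  · rcases hq.struct_core hm h2 hn (core_quotient hKm hmax) with h3 | ⟨N, h3, h4, h5, h6, h7, h8⟩
    · left
      rw [hGK, h3]
    · right
      refine ⟨N, h3, h4, h5, h6, ?_, h8⟩
      rw [← hq.card]
      exact Subgroup.card_dvd_of_le h7

end Cfsg.Agent.H72.CS4
end

-- part: H72/CS4/Tor
section
/-!
# Existence of an isolated abelian Hall subgroup

If every element of order divisible by a prime divisor of `m` has a centralizer of order `m`, then there is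
an isolated abelian Hall subgroup of order `m`.
-/

set_option autoImplicit false

namespace Cfsg.Agent.H72.CS4

open Subgroup Cfsg.Agent.H364 Pointwise

variable {G : Type*} [Group G]

theorem mem_cen {x y : G} : x ∈ centralizer ({y} : Set G) ↔ Commute x y := mem_centralizer_singleton_iff

/-- an element commuting with a product of two commuting elements of coprime orders commutes with the factors -/
theorem commute_of_mul {x z w : G} (hxz : Commute x z) (hc : (orderOf x).Coprime (orderOf z)) (hw : Commute w (x * z)) :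
    Commute w x := by
  have h1 : Commute w ((x * z) ^ orderOf z) := hw.pow_right _
  rw [hxz.mul_pow, pow_orderOf_eq_one, mul_one] at h1
  obtain ⟨k, hk⟩ := exists_pow_eq_self_of_coprime (n := orderOf z) (x := x) hc.symm
  rw [← hk]
  exact h1.pow_right k

theorem commute_of_parts {t u : G} {a b : ℕ} (hab : a.Coprime b) (h1 : Commute u (t ^ a)) (h2 : Commute u (t ^ b)) :
    Commute u t := by
  have h3 : (t : G) = (t ^ a) ^ (Nat.gcdA a b) * (t ^ b) ^ (Nat.gcdB a b) := by
    have h4 := Nat.gcd_eq_gcd_ab a b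
    rw [hab, Nat.cast_one] at h4
    calc t = t ^ (1 : ℤ) := (zpow_one t).symm
      _ = t ^ ((a : ℤ) * Nat.gcdA a b + b * Nat.gcdB a b) := by rw [← h4]
      _ = _ := by rw [zpow_add, zpow_mul, zpow_mul, zpow_natCast, zpow_natCast]
  rw [h3]
  exact (h1.zpow_right _).mul_right (h2.zpow_right _)

/-- the hypothesis -/
def CH (G : Type*) [Group G] (m : ℕ) : Prop :=
  ∀ r, r.Prime → r ∣ m → ∀ y : G, r ∣ orderOf y → Nat.card (centralizer ({y} : Set G)) = m

theorem CH.edge [Finite G] {m : ℕ} (h : CH G m) {r s : ℕ} (hr : r.Prime) (_ : s.Prime) (hrm : r ∣ m)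
    (hsm : ¬ s ∣ m) : NoEdge G r s := by
  intro x hx
  apply hsm
  rw [← h r hr hrm x (hx ▸ Dvd.intro _ rfl)]
  have h1 : x ∈ centralizer ({x} : Set G) := mem_cen.2 (Commute.refl x)
  have h2 := _root_.orderOf_dvd_natCard (⟨x, h1⟩ : centralizer ({x} : Set G))
  rw [Subgroup.orderOf_mk, hx] at h2
  exact (Dvd.intro_left _ rfl).trans h2

/-- the elements of order prime to `r` in the centralizer of an element `z` of order `r` are central in it -/
theorem CH.central [Finite G] {m r : ℕ} (h : CH G m) (hr : r.Prime) (hrm : r ∣ m) {z : G} (hz : orderOf z = r)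
    {x : G} (hx : x ∈ centralizer ({z} : Set G)) (hxr : (orderOf x).Coprime r) {t : G}
    (ht : t ∈ centralizer ({z} : Set G)) : Commute t x := by
  have hxz : Commute x z := mem_cen.1 hx
  have hcop : (orderOf x).Coprime (orderOf z) := by rw [hz]; exact hxr
  have ho : r ∣ orderOf (x * z) := by
    rw [hxz.orderOf_mul_eq_mul_orderOf_of_coprime hcop, hz]
    exact Dvd.intro_left _ rfl
  have hle : centralizer ({x * z} : Set G) ≤ centralizer ({z} : Set G) := by
    intro w hw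
    refine mem_cen.2 (commute_of_mul hxz.symm hcop.symm ?_)
    rw [← hxz.eq]
    exact mem_cen.1 hw
  have heq := Subgroup.eq_of_le_of_card_ge hle (by
    rw [h r hr hrm _ ho, h r hr hrm z (by rw [hz])])
  have h1 : t ∈ centralizer ({x * z} : Set G) := heq ▸ ht
  exact commute_of_mul hxz hcop (mem_cen.1 h1)

/-- the case of two primes -/
theorem CH.abelian_two [Finite G] {m r s : ℕ} (h : CH G m) (hr : r.Prime) (hrm : r ∣ m) (hs : s.Prime) (hsm : s ∣ m)
    (hrs : s ≠ r) {z : G} (hz : orderOf z = r) {t u : G} (ht : t ∈ centralizer ({z} : Set G))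
    (hu : u ∈ centralizer ({z} : Set G)) : Commute u t := by
  have := Fact.mk hs
  have hcard := h r hr hrm z (by rw [hz])
  obtain ⟨x, hx⟩ := exists_prime_orderOf_dvd_card' (G := centralizer ({z} : Set G)) s (by rw [hcard]; exact hsm)
  have hxo : orderOf (x : G) = s := by rw [Subgroup.orderOf_coe, hx]
  have hle : centralizer ({z} : Set G) ≤ centralizer ({(x : G)} : Set G) := fun w hw =>
    mem_cen.2 (h.central hr hrm hz x.2 (by rw [hxo]; exact (Nat.coprime_primes hs hr).2 hrs) hw)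
  have ht' := hle ht
  have hu' := hle hu
  have hn : orderOf t ≠ 0 := (orderOf_pos t).ne'
  have hcop : (r ^ (orderOf t).factorization r).Coprime (orderOf t / r ^ (orderOf t).factorization r) :=
    Nat.Coprime.pow_left _ (Nat.coprime_ordCompl hr hn)
  refine commute_of_parts hcop ?_ ?_
  · have h1 : orderOf (t ^ r ^ (orderOf t).factorization r) = orderOf t / r ^ (orderOf t).factorization r :=
      orderOf_pow_of_dvd (pow_pos hr.pos _).ne' (Nat.ordProj_dvd _ r)
    refine h.central hr hrm hz (Subgroup.pow_mem _ ht _) ?_ hu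
    rw [h1]
    exact (Nat.coprime_ordCompl hr hn).symm
  · have h1 : orderOf (t ^ (orderOf t / r ^ (orderOf t).factorization r)) = r ^ (orderOf t).factorization r := by
      rw [orderOf_pow_of_dvd (Nat.ordCompl_pos r hn).ne' (Nat.ordCompl_dvd _ r)]
      exact Nat.div_div_self (Nat.ordProj_dvd _ r) hn
    refine h.central hs hsm hxo (Subgroup.pow_mem _ ht' _) ?_ hu'
    rw [h1]
    exact Nat.Coprime.pow_left _ ((Nat.coprime_primes hr hs).2 (Ne.symm hrs))

/-- Frobenius: the number of nontrivial `x` with `x ^ m = 1` -/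
theorem frob [Finite G] {m : ℕ} (hm : m ∣ Nat.card G) : m ∣ Nat.card {x : G // x ^ m = 1} := by
  have h1 := Cfsg.Agent.S4212.result (1 : G) m
  have h2 : Nat.card {y : G // IsConj 1 y} = 1 := by
    rw [Nat.card_eq_one_iff_unique]
    refine ⟨⟨fun a b => Subtype.ext ?_⟩, ⟨⟨1, IsConj.refl 1⟩⟩⟩
    rw [isConj_one_right.1 a.2, isConj_one_right.1 b.2]
  rw [h2, one_mul, Nat.gcd_eq_left hm] at h1
  have h3 : Nat.card {x : G // IsConj 1 (x ^ m)} = Nat.card {x : G // x ^ m = 1} :=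
    Nat.card_congr (Equiv.subtypeEquivRight fun x => isConj_one_right)
  rwa [h3] at h1

/-- the case of a prime power: a Sylow subgroup of order `m` -/
theorem CH.abelian_one [Finite G] {m r a c : ℕ} (h : CH G m) (hr : r.Prime) (hma : m = r ^ a) (ha : a ≠ 0)
    (h5 : 5 ≤ r) (hmG : m ∣ Nat.card G) (hc4 : c ≤ 4) (h4 : Nat.card G / m ≡ c [MOD m]) {R : Subgroup G}
    (hRm : Nat.card R = m) (hRc : ∀ P : Subgroup G, IsPGroup r P → Nat.card P = m → ∃ g : G,
      ∀ y, y ∈ P ↔ g⁻¹ * y * g ∈ R) : ∀ x ∈ R, ∀ y ∈ R, x * y = y * x := by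
  have := Fact.mk hr
  have hrm : r ∣ m := hma ▸ dvd_pow_self r ha
  have hm0 : 0 < m := hRm ▸ Nat.card_pos
  obtain ⟨g, hg⟩ : ∃ g, g = Nat.card G / m := ⟨_, rfl⟩
  have hgm : m * g = Nat.card G := by rw [hg]; exact Nat.mul_div_cancel' hmG
  have hg0 : 0 < g := by
    rcases Nat.eq_zero_or_pos g with h0 | h0
    · rw [h0, mul_zero] at hgm
      exact absurd hgm.symm Nat.card_pos.ne'
    · exact h0
  rw [← hg] at h4
  -- nontrivial `r`-elements
  have hord : ∀ x : G, x ^ m = 1 → x ≠ 1 → r ∣ orderOf x := by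
    intro x hx hx1
    have h1 : orderOf x ∣ r ^ a := hma ▸ orderOf_dvd_of_pow_eq_one hx
    obtain ⟨j, -, hj⟩ := (Nat.dvd_prime_pow hr).1 h1
    rw [hj]
    apply dvd_pow_self
    rintro rfl
    rw [pow_zero, orderOf_eq_one_iff] at hj
    exact hx1 hj
  let Y : Type _ := {x : G // x ^ m = 1 ∧ x ≠ 1}
  have hY : Nat.card {x : G // x ^ m = 1} = Nat.card Y + 1 := by
    classical
    have := Fintype.ofFinite G
    rw [Nat.card_eq_fintype_card, Nat.card_eq_fintype_card, Fintype.card_subtype, Fintype.card_subtype]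
    have h1 : (Finset.univ.filter fun x : G => x ^ m = 1) =
        insert 1 (Finset.univ.filter fun x : G => x ^ m = 1 ∧ x ≠ 1) := by
      ext x
      simp only [Finset.mem_filter, Finset.mem_univ, true_and, Finset.mem_insert]
      by_cases hx : x = 1
      · simp [hx]
      · simp [hx]
    rw [h1, Finset.card_insert_of_notMem (by simp only [_root_.ne_eq, _root_.Finset.mem_filter, _root_.Finset.mem_univ, _root_.one_pow, _root_.not_true_eq_false, _root_.and_false, _root_.not_false_eq_true])]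
  let act : MulAction G Y :=
    { smul := fun g x => ⟨g * x.1 * g⁻¹, by rw [conj_pow, x.2.1]; simp, fun h0 => x.2.2 (by
        have : g⁻¹ * (g * x.1 * g⁻¹) * g = 1 := by rw [h0]; simp
        simpa only [mul_assoc, _root_.ne_eq, _root_.inv_mul_cancel_left, _root_.inv_mul_cancel, _root_.mul_one] using this)⟩
      one_smul := fun x => Subtype.ext (by change 1 * x.1 * 1⁻¹ = x.1; simp)
      mul_smul := fun g k x => Subtype.ext (by change (g * k) * x.1 * (g * k)⁻¹ = g * (k * x.1 * k⁻¹) * g⁻¹; group) }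
  have hstab : ∀ x : Y, Nat.card (MulAction.stabilizer G x) = m := by
    intro x
    rw [← h r hr hrm x.1 (hord x.1 x.2.1 x.2.2)]
    have h1 : MulAction.stabilizer G x = centralizer ({x.1} : Set G) := by
      ext y
      rw [MulAction.mem_stabilizer_iff, mem_cen]
      constructor
      · intro hy
        have h2 : y * x.1 * y⁻¹ = x.1 := congrArg Subtype.val hy
        exact mul_inv_eq_iff_eq_mul.1 h2
      · intro hy
        exact Subtype.ext (mul_inv_eq_iff_eq_mul.2 hy)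
    rw [h1]
  obtain ⟨k, hk⟩ := Cfsg.Agent.Lib.ActCount.exists_card_mul (H := G) (Y := Y) m hstab
  have hk1 : Nat.card Y = k * g := by
    apply Nat.eq_of_mul_eq_mul_left hm0
    rw [hk, ← hgm]; ring
  -- upper bound
  let Z : Type _ := {z : center R // z ≠ 1}
  have hZ : Nat.card (center R) = Nat.card Z + 1 := by
    classical
    have := Fintype.ofFinite (center R)
    rw [Nat.card_eq_fintype_card, Nat.card_eq_fintype_card, Fintype.card_subtype_compl, Fintype.card_subtype_eq]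
    have : 0 < Fintype.card (center R) := Fintype.card_pos
    omega
  have hconj : ∀ x : Y, ∃ (z : Z) (g : G), x.1 = g * ((z.1 : R) : G) * g⁻¹ := by
    intro x
    have hC := h r hr hrm x.1 (hord x.1 x.2.1 x.2.2)
    have hCp : IsPGroup r (centralizer ({x.1} : Set G)) := IsPGroup.of_card (n := a) (by rw [hC, hma])
    obtain ⟨g, hg⟩ := hRc _ hCp hC
    have h1 : g⁻¹ * x.1 * g ∈ R := (hg x.1).1 (mem_cen.2 (Commute.refl _))
    have h2 : (⟨g⁻¹ * x.1 * g, h1⟩ : R) ∈ center R := by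
      rw [mem_center_iff]
      intro y
      apply Subtype.ext
      have h3 : g * y.1 * g⁻¹ ∈ centralizer ({x.1} : Set G) := (hg _).2 (by
        have : g⁻¹ * (g * (y : G) * g⁻¹) * g = y := by group
        rw [this]; exact y.2)
      have h4 : g * y.1 * g⁻¹ * x.1 = x.1 * (g * y.1 * g⁻¹) := mem_cen.1 h3
      change (y : G) * (g⁻¹ * x.1 * g) = g⁻¹ * x.1 * g * y
      calc (y : G) * (g⁻¹ * x.1 * g) = g⁻¹ * (g * y.1 * g⁻¹ * x.1) * g := by group
        _ = g⁻¹ * (x.1 * (g * y.1 * g⁻¹)) * g := by rw [h4]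
        _ = _ := by group
    refine ⟨⟨⟨_, h2⟩, fun h3 => ?_⟩, g, ?_⟩
    · have h4 : g⁻¹ * x.1 * g = 1 := congrArg (fun w : center R => ((w : R) : G)) h3
      apply x.2.2
      calc x.1 = g * (g⁻¹ * x.1 * g) * g⁻¹ := by group
        _ = 1 := by rw [h4]; group
    · change x.1 = g * (g⁻¹ * x.1 * g) * g⁻¹
      group
  choose zf gf hzg using hconj
  have hinj : Function.Injective (fun x : Y => ((zf x, (QuotientGroup.mk (gf x) : G ⧸ R)) : Z × (G ⧸ R))) := by
    intro x y hxy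
    have h1 : zf x = zf y := congrArg Prod.fst hxy
    have h2 : (QuotientGroup.mk (gf x) : G ⧸ R) = QuotientGroup.mk (gf y) := congrArg Prod.snd hxy
    have h3 : (gf x)⁻¹ * gf y ∈ R := QuotientGroup.eq.1 h2
    apply Subtype.ext
    rw [hzg x, hzg y, ← h1]
    have h4 := congrArg Subtype.val (mem_center_iff.1 (zf x).1.2 ⟨_, h3⟩)
    change (gf x)⁻¹ * gf y * (((zf x).1 : R) : G) = (((zf x).1 : R) : G) * ((gf x)⁻¹ * gf y) at h4
    have h5 : gf y * (((zf x).1 : R) : G) * (gf y)⁻¹ =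
        gf x * ((gf x)⁻¹ * gf y * (((zf x).1 : R) : G)) * (gf y)⁻¹ := by group
    rw [h5, h4]
    group
  have hle := Nat.card_le_card_of_injective _ hinj
  have hidx : Nat.card (G ⧸ R) = g := by
    have h1 := Subgroup.card_mul_index R
    rw [hRm, ← hgm] at h1
    rw [← Subgroup.index_eq_card]
    exact Nat.eq_of_mul_eq_mul_left hm0 h1
  rw [Nat.card_prod, hidx, hk1] at hle
  have hkZ : k ≤ Nat.card Z := Nat.le_of_mul_le_mul_right hle hg0
  -- the congruence
  have hF := frob hmG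
  rw [hY, hk1] at hF
  have h6 : m ∣ k * c + 1 := by
    have h7 : k * g + 1 ≡ k * c + 1 [MOD m] := (h4.mul_left k).add_right 1
    have h8 := (Nat.modEq_zero_iff_dvd.2 hF)
    exact Nat.modEq_zero_iff_dvd.1 (h7.symm.trans h8)
  have h7 := Nat.le_of_dvd (by omega) h6
  have h70 : k * c ≤ k * 4 := Nat.mul_le_mul_left _ hc4
  have h8 : Nat.card (center R) ∣ m := hRm ▸ Subgroup.card_subgroup_dvd_card _
  have h9 : center R = ⊤ := by
    apply Subgroup.eq_top_of_card_eq
    rw [hRm]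
    obtain ⟨j, hj⟩ := h8
    rcases Nat.lt_or_ge 1 j with hj1 | hj1
    · exfalso
      obtain ⟨q, hq, hqj⟩ := Nat.exists_prime_and_dvd hj1.ne'
      have h10 : q ∣ r ^ a := by rw [← hma, hj]; exact hqj.mul_left _
      have h11 := (Nat.prime_dvd_prime_iff_eq hq hr).1 (hq.dvd_of_dvd_pow h10)
      have h12 : 5 ≤ j := by
        have := Nat.le_of_dvd (by omega) hqj
        omega
      have h13 : Nat.card (center R) * 5 ≤ m := by
        rw [hj]; exact Nat.mul_le_mul_left _ h12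
      omega
    · have : j ≠ 0 := by rintro rfl; omega
      have : j = 1 := by omega
      rw [hj, this, mul_one]
  intro x hx y hy
  have h10 : (⟨y, hy⟩ : R) ∈ center R := h9 ▸ mem_top _
  exact congrArg Subtype.val (mem_center_iff.1 h10 ⟨x, hx⟩)

/-- **Existence of the isolated subgroup.** -/
theorem CH.exists_isol [Finite G] {m c : ℕ} (h : CH G m) (hm : 1 < m) (hmG : m ∣ Nat.card G)
    (hcop : m.Coprime (Nat.card G / m)) (hc4 : c ≤ 4) (h4 : Nat.card G / m ≡ c [MOD m]) (h5 : ∀ r, r.Prime → r ∣ m → 5 ≤ r) :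
    ∃ T : Subgroup G, IsolA G T m := by
  have hedge : ∀ r s : ℕ, r.Prime → s.Prime → r ∣ m → ¬ s ∣ m → NoEdge G r s :=
    fun r s hr hs hrm hsm => h.edge hr hs hrm hsm
  obtain ⟨r, hr, hrm⟩ := Nat.exists_prime_and_dvd hm.ne'
  have := Fact.mk hr
  by_cases hex : ∃ s, s.Prime ∧ s ∣ m ∧ s ≠ r
  · obtain ⟨s, hs, hsm, hsr⟩ := hex
    obtain ⟨z, hz⟩ := exists_prime_orderOf_dvd_card' r (hrm.trans hmG)
    exact ⟨centralizer ({z} : Set G), fun a ha b hb => h.abelian_two hr hrm hs hsm hsr hz hb ha,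
      h r hr hrm z (by rw [hz]), hcop, hedge⟩
  · push Not at hex
    have hma : m = r ^ m.factorization r := by
      have h1 : m = r ^ m.primeFactorsList.length :=
        Nat.eq_prime_pow_of_unique_prime_dvd (by omega) fun {d} hd hdm => hex d hd hdm
      have h2 : m.factorization r = m.primeFactorsList.length := by
        conv_lhs => rw [h1]
        rw [hr.factorization_pow, Finsupp.single_eq_same]
      rw [h2]
      exact h1
    have ha : m.factorization r ≠ 0 := (hr.factorization_pos_of_dvd (by omega) hrm).ne'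
    obtain ⟨R⟩ : Nonempty (Sylow r G) := inferInstance
    have hfac : (Nat.card G).factorization r = m.factorization r := by
      have h1 : Nat.card G = m * (Nat.card G / m) := (Nat.mul_div_cancel' hmG).symm
      have h2 : Nat.card G / m ≠ 0 := fun h0 => by
        rw [h0, mul_zero] at h1; exact Nat.card_pos.ne' h1
      have h3 : ¬ r ∣ Nat.card G / m := fun h3 => by
        have := Nat.dvd_gcd hrm h3
        rw [hcop] at this
        exact hr.one_lt.ne' (Nat.dvd_one.1 this)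
      rw [h1, Nat.factorization_mul (by omega) h2, Finsupp.add_apply, Nat.factorization_eq_zero_of_not_dvd h3, add_zero]
    have hRm : Nat.card (R : Subgroup G) = m := by
      have h1 : Nat.card R = r ^ (Nat.card G).factorization r := R.card_eq_multiplicity
      rw [hfac, ← hma] at h1
      exact h1
    refine ⟨R, h.abelian_one hr hma ha (h5 r hr hrm) hmG hc4 h4 hRm ?_, hRm, hcop, hedge⟩
    intro P hP hPm
    obtain ⟨P', hP'⟩ := hP.exists_le_sylow
    have hPP : P = P' := Subgroup.eq_of_le_of_card_ge hP' (by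
      rw [hPm]
      have h1 : Nat.card P' = r ^ (Nat.card G).factorization r := P'.card_eq_multiplicity
      rw [hfac, ← hma] at h1
      exact h1.le)
    obtain ⟨g, hg⟩ := MulAction.exists_smul_eq G R P'
    refine ⟨g, fun y => ?_⟩
    rw [hPP, ← hg]
    change y ∈ MulAut.conj g • (R : Subgroup G) ↔ _
    rw [Subgroup.mem_pointwise_smul_iff_inv_smul_mem, ← map_inv, MulAut.smul_def, MulAut.conj_apply, inv_inv]

/-- **Structure theorem from centralizer orders**: `m > 1` odd, Hall, all elements of order divisible by a prime divisor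
of `m` have centralizers of order `m`, `|G| / m ≡ c mod m` with `c ≤ 4`, all primes dividing `m` are at least `5`. -/
theorem CH.struct [Finite G] {m c : ℕ} (h : CH G m) (hm : 1 < m) (hmG : m ∣ Nat.card G)
    (hcop : m.Coprime (Nat.card G / m)) (hc4 : c ≤ 4) (hc0 : c ≠ 0) (h4 : Nat.card G / m ≡ c [MOD m])
    (h5 : ∀ r, r.Prime → r ∣ m → 5 ≤ r) :
    ∃ (K : Subgroup G) (_ : K.Normal), (Nat.card K).Coprime m ∧
      (∀ t, t.Prime → m ∣ t ^ (Nat.card K).factorization t - 1) ∧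
      (Nat.card G = Nat.card K * (m * c) ∨
        ∃ N : Subgroup (G ⧸ K), N.Normal ∧ IsSimpleGroup N ∧ (¬ ∀ a b : N, a * b = b * a) ∧
          centralizer (N : Set (G ⧸ K)) = ⊥ ∧ m ∣ Nat.card N ∧ ∃ n', 1 < n' ∧ n' * N.index = c) := by
  obtain ⟨T, hT⟩ := h.exists_isol hm hmG hcop hc4 h4 h5
  have h2 : ¬ 2 ∣ m := fun h2 => by have := h5 2 Nat.prime_two h2; omega
  obtain ⟨K, hK, n, hKm, hparts, hn, hcases⟩ := hT.struct hm h2
  have hnc : n = c := by
    obtain ⟨r, hr, hrm⟩ := Nat.exists_prime_and_dvd hm.ne'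
    obtain ⟨h6, h7⟩ := hn r hr hrm
    have h8 : n ≡ c [MOD r ^ m.factorization r] := h7.symm.trans (h4.of_dvd (Nat.ordProj_dvd m r))
    have h9 : 5 ≤ r ^ m.factorization r :=
      (h5 r hr hrm).trans (Nat.le_self_pow (hr.factorization_pos_of_dvd (by omega) hrm).ne' r)
    have h10 : n < r ^ m.factorization r := by
      have := Nat.le_of_dvd (by omega) h6
      omega
    exact Nat.ModEq.eq_of_lt_of_lt h8 h10 (by omega)
  subst hnc
  exact ⟨K, hK, hKm, hparts, hcases⟩

end Cfsg.Agent.H72.CS4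
end

-- part: H72/CS4/Num
section
/-!
# `PSp₄(q)`: alternating and sporadic groups have other orders
-/

set_option autoImplicit false

namespace Cfsg.Agent.H72.CS4

open Cfsg.Agent.H902 Cfsg.Agent.H902.Art Cfsg.Agent.OrdDiv Cfsg.Agent.H365.SpFour Cfsg.Agent.H992.TC

def F1 (q : ℕ) : ℕ := q ^ 4 * ((q ^ 2 - 1) ^ 2 * (q ^ 2 + 1))

def F2 (q : ℕ) : ℕ := (q ^ 2 - 1) ^ 2 * (q ^ 2 + 1)

theorem mono_F2 : Monotone F2 := fun _ _ h => Nat.mul_le_mul (Nat.pow_le_pow_left (sub_mono 2 h) 2)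
  (Nat.add_le_add_right (Nat.pow_le_pow_left h 2) 1)

theorem mono_F1 : Monotone F1 := fun _ _ h => Nat.mul_le_mul (Nat.pow_le_pow_left h 4) (mono_F2 h)

theorem chk_F1 : spor.all (fun x => brkChk F1 10000000 (x.2 * 2) && brkChk F1 10000000 (x.2 * 4)) = true := by
  decide +kernel

theorem chk_F2 : spor.all (fun x => brkChk F2 10000000000 x.2 && brkChk F2 10000000000 (x.2 * 2) &&
    brkChk F2 10000000000 (x.2 * 4)) = true := by
  decide +kernel

theorem mul_M {p f M : ℕ} (h : Art.Real (.C 2) p f M) : Nat.gcd 2 (p ^ f - 1) * M = F1 (p ^ f) := by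
  rw [card_mul h]
  have hq := h.q_ge
  calc Nat.gcd 2 (p ^ f - 1) * ((p ^ f) ^ 4 * ((p ^ f) ^ 2 - 1) ^ 2 * tt (p ^ f))
      = (p ^ f) ^ 4 * ((p ^ f) ^ 2 - 1) ^ 2 * (Nat.gcd 2 (p ^ f - 1) * tt (p ^ f)) := by ring
    _ = _ := by rw [mul_tt hq, F1]; ring

theorem gcd_cases (q : ℕ) : Nat.gcd 2 (q - 1) = 1 ∨ Nat.gcd 2 (q - 1) = 2 := by
  have h1 := Nat.gcd_dvd_left 2 (q - 1)
  exact (Nat.dvd_prime Nat.prime_two).1 h1

/-- **sporadic groups** -/
theorem spor_false {p f M : ℕ} (h : Art.Real (.C 2) p f M) {x : Grp × ℕ} (hx : x ∈ spor) {i k : ℕ}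
    (hi : i = 1 ∨ i = 2) (hk : k = 1 ∨ k = (p ^ f) ^ 4) (hik : ¬ (i = 1 ∧ k = 1)) (e : k * (x.2 * i) = M) : False := by
  have hq := h.q_ge
  have h1 := mul_M h
  have h2 := List.all_eq_true.1 chk_F1 x hx
  have h3 := List.all_eq_true.1 chk_F2 x hx
  rw [Bool.and_eq_true] at h2 h3
  rw [Bool.and_eq_true] at h3
  rw [← e] at h1
  rcases hk with rfl | rfl
  · have hi2 : i = 2 := by (clear * - hi hik; tauto)
    subst hi2
    rcases gcd_cases (p ^ f) with hg | hg <;> rw [hg] at h1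
    · refine brkChk_spec mono_F1 h2.1 (p ^ f) ?_
      rw [← h1]; ring
    · refine brkChk_spec mono_F1 h2.2 (p ^ f) ?_
      rw [← h1]; ring
  · have h4 : (p ^ f) ^ 4 * (Nat.gcd 2 (p ^ f - 1) * (x.2 * i)) = (p ^ f) ^ 4 * F2 (p ^ f) := by
      calc (p ^ f) ^ 4 * (Nat.gcd 2 (p ^ f - 1) * (x.2 * i)) = Nat.gcd 2 (p ^ f - 1) * ((p ^ f) ^ 4 * (x.2 * i)) := by ring
        _ = F1 (p ^ f) := h1
        _ = _ := rfl
    have h5 := Nat.eq_of_mul_eq_mul_left (pow_pos (by omega) 4) h4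
    rcases gcd_cases (p ^ f) with hg | hg <;> rw [hg] at h5 <;> rcases hi with rfl | rfl
    · exact brkChk_spec mono_F2 h3.1.1 (p ^ f) (by rw [← h5]; ring)
    · exact brkChk_spec mono_F2 h3.1.2 (p ^ f) (by rw [← h5]; ring)
    · exact brkChk_spec mono_F2 h3.1.2 (p ^ f) (by rw [← h5]; ring)
    · exact brkChk_spec mono_F2 h3.2 (p ^ f) (by rw [← h5]; ring)

/-- a test -/
def tst (x A B i : ℕ) : Bool := (!(Nat.beq x A) || Nat.beq i 1) && !(Nat.beq x B)

theorem tst_spec {x A B i : ℕ} (h : tst x A B i = true) : (x = A → i = 1) ∧ x ≠ B := by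
  unfold tst at h
  rw [Bool.and_eq_true, Bool.or_eq_true] at h
  constructor
  · intro h1
    rcases h.1 with h2 | h2
    · exfalso
      have h3 : Nat.beq x A = true := by rw [Nat.beq_eq]; exact h1
      rw [h3] at h2
      exact absurd h2 (by decide)
    · rwa [Nat.beq_eq] at h2
  · intro h1
    have h3 : Nat.beq x B = true := by rw [Nat.beq_eq]; exact h1
    have h2 := h.2
    rw [h3] at h2
    exact absurd h2 (by decide)

/-- the check for alternating groups -/
def altChk : Bool :=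
  (List.range' 5 15).all fun n => (List.range' 4 22).all fun q => (List.range' 1 2).all fun i =>
    tst (n.factorial * i) (2 * (q ^ 4 * (q ^ 2 - 1) ^ 2 * tt q)) (2 * ((q ^ 2 - 1) ^ 2 * tt q)) i

theorem altChk_true : altChk = true := by decide +kernel

theorem altChk_spec {n q i : ℕ} (hn : 5 ≤ n) (hn' : n ≤ 19) (hq : 4 ≤ q) (hq' : q ≤ 25) (hi : 1 ≤ i) (hi' : i ≤ 2) :
    (n.factorial * i = 2 * (q ^ 4 * (q ^ 2 - 1) ^ 2 * tt q) → i = 1) ∧
      n.factorial * i ≠ 2 * ((q ^ 2 - 1) ^ 2 * tt q) := by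
  have hc := altChk_true
  unfold altChk at hc
  have hc1 := List.all_eq_true.1 hc n (List.mem_range'_1.2 ⟨hn, by omega⟩)
  have hc2 := List.all_eq_true.1 hc1 q (List.mem_range'_1.2 ⟨hq, by omega⟩)
  exact tst_spec (List.all_eq_true.1 hc2 i (List.mem_range'_1.2 ⟨hi, by omega⟩))

theorem two_F (q : ℕ) (ho : Odd q) (hq : 3 ≤ q) : P 2 (q ^ 2 - 1) ≤ 2 * (q + 1) := by
  obtain ⟨m, hm⟩ := ho
  have h5 : q ^ 2 - 1 = 4 * (m * (m + 1)) := by rw [hm]; exact sq_half m
  have h6 : P 2 (q ^ 2 - 1) ≤ 4 * (m + 1) := by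
    rw [h5, P_mul (by norm_num) (Nat.mul_ne_zero (by omega) (by omega)), P_mul (by omega) (by omega)]
    refine Nat.mul_le_mul (P_le (by norm_num)) ?_
    rcases Nat.even_or_odd m with he | ho
    · have h7 : P 2 (m + 1) = 1 := P_odd_two he.add_one
      rw [h7, mul_one]
      exact (P_le (by omega)).trans (by omega)
    · rw [P_odd_two ho, one_mul]
      exact P_le (by omega)
  omega

theorem three_F (q : ℕ) (hq : 3 ≤ q) : P 3 (q ^ 2 - 1) ≤ q + 1 := by
  rw [sq_eq (by omega), P_mul (by omega) (by omega)]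
  by_cases h8 : 3 ∣ q - 1
  · have h9 : P 3 (q + 1) = 1 := P_eq_one fun h => by omega
    rw [h9, mul_one]
    exact (P_le (by omega)).trans (by omega)
  · rw [P_eq_one h8, one_mul]
    exact P_le (by omega)

theorem num_eq (q : ℕ) (hq : 2 ≤ q) : num (.C 2) q = (q ^ 2 - 1) * (q ^ 2 - 1) * (q ^ 2 + 1) := by
  have h4 : num (.C 2) q = (q ^ 2 - 1) * (q ^ 4 - 1) := by simp only [num, Finset.prod_range_succ, _root_.Finset.range_one, _root_.Finset.prod_singleton, _root_.zero_add, _root_.mul_one, _root_.Nat.reduceAdd, _root_.Nat.reduceMul]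
  have h6 : 1 ≤ q ^ 2 := Nat.one_le_pow _ _ (by omega)
  have h7 : 1 ≤ q ^ 4 := Nat.one_le_pow _ _ (by omega)
  have h5 : q ^ 4 - 1 = (q ^ 2 - 1) * (q ^ 2 + 1) := by
    zify [h6, h7]; ring
  rw [h4, h5]; ring

theorem not_three (q : ℕ) : ¬ 3 ∣ q ^ 2 + 1 := by
  intro h
  have h1 : q % 3 = 0 ∨ q % 3 = 1 ∨ q % 3 = 2 := by omega
  have h2 : (q ^ 2 + 1) % 3 = 0 := Nat.mod_eq_zero_of_dvd h
  rcases h1 with h1 | h1 | h1 <;> simp [Nat.pow_mod, Nat.add_mod, h1] at h2

theorem tt_coprime_six {q : ℕ} (hq : 2 ≤ q) : (tt q).Coprime 6 := by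
  have h1 : (tt q).Coprime 2 := ((Nat.Prime.coprime_iff_not_dvd Nat.prime_two).2 (two_tt hq)).symm
  have h2 : (tt q).Coprime 3 := ((Nat.Prime.coprime_iff_not_dvd Nat.prime_three).2 fun h =>
    not_three q (h.trans (tt_dvd hq))).symm
  exact Nat.Coprime.mul_right h1 h2

/-- **alternating groups** -/
theorem alt_false {p f M : ℕ} (h : Art.Real (.C 2) p f M) (h4 : 4 ≤ p ^ f) {n i k : ℕ} (hn : 5 ≤ n)
    (hi : i = 1 ∨ i = 2) (hk : k = 1 ∨ k = (p ^ f) ^ 4) (hik : ¬ (i = 1 ∧ k = 1))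
    (e : k * (n.factorial * i) = 2 * M) (iso : ∀ r, r.Prime → r ∣ tt (p ^ f) → n ≤ r + 2) : False := by
  have hq : 2 ≤ p ^ f := by omega
  obtain ⟨a, ha, hak⟩ : ∃ a, k = p ^ a ∧ (a = 0 ∨ a = f * 4) := by
    rcases hk with rfl | rfl
    · exact ⟨0, by simp, Or.inl rfl⟩
    · exact ⟨f * 4, by rw [pow_mul], Or.inr rfl⟩
  have hM := card_mul h
  have hptt : ¬ p ∣ tt (p ^ f) := fun h0 => by
    have h1 : p ∣ p ^ f := dvd_pow_self p (by have := h.hf; omega)
    have := Nat.dvd_gcd h0 h1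
    rw [cop_q hq] at this
    exact h.hp.one_lt.ne' (Nat.dvd_one.1 this)
  obtain ⟨h1, h2, h3, h5⟩ := alt_core (a := a) h (tt_coprime_six hq) (hM ▸ Dvd.intro_left _ rfl) hptt
    (c := i) (by rcases hi with rfl | rfl <;> norm_num) hn (by rw [← e, ha]; ring) iso
  obtain ⟨q, hqd⟩ : ∃ q, q = p ^ f := ⟨_, rfl⟩
  rw [← hqd] at h1 h2 h3 h5 h4 hq hM hk iso
  rw [num_eq q hq] at h3 h5
  have hsq0 : q ^ 2 - 1 ≠ 0 := by
    have : 4 ^ 2 ≤ q ^ 2 := Nat.pow_le_pow_left h4 2
    omega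
  have hbound : n ≤ 19 ∧ q ≤ 25 := by
    rcases Nat.even_or_odd q with he | ho
    · have hp2 : p = 2 := by
        have h6 : 2 ∣ p ^ f := by rw [← hqd]; exact he.two_dvd
        exact ((Nat.prime_dvd_prime_iff_eq Nat.prime_two h.hp).1 (Nat.prime_two.dvd_of_dvd_pow h6)).symm
      have h6 := h5 hp2
      rw [tt_even he hq] at h1
      have h7 : P 3 ((q ^ 2 - 1) * (q ^ 2 - 1) * (q ^ 2 + 1)) ≤ (q + 1) * (q + 1) := by
        rw [P_mul (Nat.mul_ne_zero hsq0 hsq0) (by omega), P_mul hsq0 hsq0, P_eq_one (not_three q), mul_one]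
        exact Nat.mul_le_mul (three_F q (by omega)) (three_F q (by omega))
      have h8 : (q + 1) * (q + 1) ≤ 2 * n ^ 2 := by
        have h9 : (q + 1) * (q + 1) ≤ 2 * (q ^ 2 + 1) := by linarith only [sq_nonneg ((q : ℤ) - 1)]
        have h10 : n * (n - 2) ≤ n ^ 2 := by rw [pow_two]; exact Nat.mul_le_mul_left _ (Nat.sub_le _ _)
        omega
      have h9 : 3 ^ n ≤ 36 * n ^ 6 := by
        calc 3 ^ n ≤ 9 * n ^ 2 * P 3 ((q ^ 2 - 1) * (q ^ 2 - 1) * (q ^ 2 + 1)) ^ 2 := h6
          _ ≤ 9 * n ^ 2 * (2 * n ^ 2) ^ 2 := Nat.mul_le_mul_left _ (Nat.pow_le_pow_left (h7.trans h8) 2)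
          _ = _ := by ring
      have hn19 : n ≤ 19 := by
        by_contra hcon
        have := growth (C := 36) (k := 6) (b := 3) (n0 := 20) (by norm_num) (by norm_num) (by norm_num)
          (n := n) (by omega)
        omega
      refine ⟨hn19, ?_⟩
      have h10 : n * (n - 2) ≤ 19 * 17 := Nat.mul_le_mul hn19 (by omega)
      nlinarith only [h1, h10]
    · have hp2 : p ≠ 2 := by
        rintro rfl
        have h6 : Even q := by rw [hqd]; exact (even_two).pow_of_ne_zero (by have := h.hf; omega)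
        exact (Nat.not_even_iff_odd.2 ho) h6
      have h6 := h3 hp2
      have h10 := tt_odd ho hq
      have h7 : P 2 ((q ^ 2 - 1) * (q ^ 2 - 1) * (q ^ 2 + 1)) ≤ (2 * (q + 1)) * (2 * (q + 1)) * 2 := by
        rw [P_mul (Nat.mul_ne_zero hsq0 hsq0) (by omega), P_mul hsq0 hsq0]
        refine Nat.mul_le_mul (Nat.mul_le_mul (two_F q ho (by omega)) (two_F q ho (by omega))) ?_
        rw [← h10, P_mul (by norm_num) (by have := tt_ge (q := q) (by omega); omega), P_odd_two (odd_tt hq), mul_one]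
        exact P_le (by norm_num)
      have h8 : (q + 1) * (q + 1) ≤ 4 * n ^ 2 := by
        have h9 : (q + 1) * (q + 1) ≤ 2 * (q ^ 2 + 1) := by linarith only [sq_nonneg ((q : ℤ) - 1)]
        have h11 : n * (n - 2) ≤ n ^ 2 := by rw [pow_two]; exact Nat.mul_le_mul_left _ (Nat.sub_le _ _)
        omega
      have h9 : 2 ^ n ≤ 128 * n ^ 3 := by
        calc 2 ^ n ≤ 4 * n * P 2 ((q ^ 2 - 1) * (q ^ 2 - 1) * (q ^ 2 + 1)) := h6
          _ ≤ 4 * n * ((2 * (q + 1)) * (2 * (q + 1)) * 2) := Nat.mul_le_mul_left _ h7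
          _ = 32 * n * ((q + 1) * (q + 1)) := by ring
          _ ≤ 32 * n * (4 * n ^ 2) := Nat.mul_le_mul_left _ h8
          _ = _ := by ring
      have hn19 : n ≤ 19 := by
        by_contra hcon
        have := growth (C := 128) (k := 3) (b := 2) (n0 := 20) (by norm_num) (by norm_num) (by norm_num)
          (n := n) (by omega)
        omega
      refine ⟨hn19, ?_⟩
      have h10 : n * (n - 2) ≤ 19 * 17 := Nat.mul_le_mul hn19 (by omega)
      nlinarith
  obtain ⟨hc4, hc5⟩ := altChk_spec (i := i) hn hbound.1 h4 hbound.2 (by (clear * - hi; omega)) (by (clear * - hi; omega))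
  rcases hk with rfl | rfl
  · have hi1 := hc4 (by rw [← hM, ← e, one_mul])
    exact hik ⟨hi1, rfl⟩
  · apply hc5
    apply Nat.eq_of_mul_eq_mul_left (show 0 < q ^ 4 from pow_pos (by omega) 4)
    rw [e, hM]; ring

end Cfsg.Agent.H72.CS4
end

-- part: H72/CS4/Index
section
/-!
# Index two (copy of the arithmetic of `H365.SpFourD` without its imports)
-/

set_option autoImplicit false

namespace Cfsg.Agent.H72.CS4

open Cfsg.Agent.H902.Art Subgroup Cfsg.Agent.H364 Cfsg.Agent.H365.SpFour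

/-- a prime dividing `tt q` with a large order -/
theorem exists_zsig {p f : ℕ} (hp : p.Prime) (hf : 0 < f) :
    ∃ r : ℕ, r.Prime ∧ r ∣ tt (p ^ f) ∧ orderOf (p : ZMod r) = 4 * f ∧ ∀ m, r ∣ p ^ m - 1 ↔ 4 * f ∣ m := by
  obtain ⟨r, hr, ho⟩ := Cfsg.Agent.Lib.Zsigmondy.exists_prime_orderOf (a := p) (n := 4 * f) hp.two_le (by omega)
    (by omega) (by
      rintro ⟨rfl, h6⟩
      omega)
  have hq2 : 2 ≤ p ^ f := hp.two_le.trans (Nat.le_self_pow hf.ne' p)
  have hrm : ∀ m, r ∣ p ^ m - 1 ↔ 4 * f ∣ m := by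
    intro m
    have h1 : 1 ≤ p ^ m := Nat.one_le_pow _ _ hp.pos
    rw [← ho, orderOf_dvd_iff_pow_eq_one, ← Nat.cast_pow, ← Nat.cast_one (R := ZMod r),
      ZMod.natCast_eq_natCast_iff', ← ZMod.natCast_eq_natCast_iff', eq_comm, ZMod.natCast_eq_natCast_iff,
      Nat.modEq_iff_dvd' h1]
  refine ⟨r, hr, ?_, ho, hrm⟩
  have h1 : r ∣ p ^ (4 * f) - 1 := (hrm _).2 dvd_rfl
  have h2 : p ^ (4 * f) - 1 = ((p ^ f) ^ 2 - 1) * ((p ^ f) ^ 2 + 1) := by
    have h3 : 1 ≤ (p ^ f) ^ 2 := Nat.one_le_pow _ _ (by omega)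
    have h4 : p ^ (4 * f) = (p ^ f) ^ 4 := by rw [← pow_mul, mul_comm]
    have h5 : 1 ≤ (p ^ f) ^ 4 := Nat.one_le_pow _ _ (by omega)
    rw [h4]
    zify [h3, h5]; ring
  have h3 : ¬ r ∣ (p ^ f) ^ 2 - 1 := by
    rw [← pow_mul]
    intro h4
    have := Nat.le_of_dvd (by omega) ((hrm _).1 h4)
    omega
  rw [h2] at h1
  have h5 : r ∣ (p ^ f) ^ 2 + 1 := (hr.dvd_mul.1 h1).resolve_left h3
  have h6 : r ≠ 2 := by
    rintro rfl
    apply h3
    have h7 : 1 ≤ (p ^ f) ^ 2 := Nat.one_le_pow _ _ (by omega)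
    omega
  rw [← mul_tt hq2] at h5
  refine (hr.dvd_mul.1 h5).resolve_left fun h7 => h6 ?_
  exact (Nat.prime_dvd_prime_iff_eq hr Nat.prime_two).1 (h7.trans (Nat.gcd_dvd_left 2 _))

/-- index two, same characteristic -/
theorem same_char {X : Sh} {p f g M' M : ℕ} (hX : Real X p g M') (hY : Real (.C 2) p f M) (h2 : M' * 2 = M)
    {r : ℕ} (hr : r.Prime) (ho : orderOf (p : ZMod r) = 4 * f) (hrM : r ∣ M') : False := by
  have hf := hY.hf
  have hM'0 := hX.M_ne
  have hM0 := hY.M_ne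
  have hq3 : 3 ≤ p ^ f := (show 2 ≤ 2 ∧ (2 = 2 → 3 ≤ p ^ f) from hY.ok).2 rfl
  have hP : P p M' * P p 2 = P p M := by rw [← P_mul hM'0 (by norm_num), h2]
  rw [hX.P_self, hY.P_self] at hP
  have hδ : 2 * (f * NN (.C 2) - g * NN X) < f * DM (.C 2) := by
    show 2 * (f * 4 - g * NN X) < f * 4
    rw [show NN (.C 2) = 4 from rfl, ← pow_mul, ← pow_mul] at hP
    by_cases hp2 : p = 2
    · subst hp2
      have h3 : P 2 2 = 2 := by
        have h := P_pow_self (r := 2) (k := 1) (a := 1) Nat.prime_two (by norm_num)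
        simpa using h
      rw [h3, ← pow_succ] at hP
      have h4 : g * NN X + 1 = f * 4 := Nat.pow_right_injective (le_refl 2) hP
      have h5 : 2 ≤ f := by
        by_contra h6
        have h7 : f = 1 := by omega
        subst h7
        norm_num at hq3
      omega
    · have h3 : P p 2 = 1 := P_eq_one fun h =>
        hp2 ((Nat.prime_dvd_prime_iff_eq hY.hp Nat.prime_two).1 h)
      rw [h3, mul_one] at hP
      have h4 : g * NN X = f * 4 := Nat.pow_right_injective hY.hp.two_le hP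
      omega
  have ho' : orderOf (p : ZMod r) = f * DM (.C 2) := by
    rw [ho]; show 4 * f = f * 4; ring
  rcases H365.Near.near hX hY (Dvd.intro _ h2) hr ho' (show 3 ≤ f * 4 by omega) hrM hδ with ⟨rfl, rfl⟩ | h
  · have h3 : dd (.C 2) (p ^ g) * M' = dd (.C 2) (p ^ g) * M := by rw [hX.eq, hY.eq]
    have h4 := Nat.eq_of_mul_eq_mul_left (Nat.pos_of_ne_zero hX.dd_ne) h3
    omega
  · rcases h with h | h | h | h | h | h | h | h
    · exact absurd h.2.1 (by decide)
    · exact absurd h.2.1 (by decide)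
    · obtain ⟨n, -, -, h, -⟩ := h
      cases h
    · exact absurd h.2.1 (by decide)
    · obtain ⟨rfl, -, rfl⟩ := h
      have h3 : M' = (p ^ g) ^ 12 * (((p ^ g) ^ 2 - 1) * ((p ^ g) ^ 6 - 1) * ((p ^ g) ^ 8 + (p ^ g) ^ 4 + 1)) := by
        have := hX.eq
        rw [show dd .TD4 (p ^ g) = 1 from rfl, one_mul] at this
        exact this
      have h4 := card_mul hY
      have h5 : p ^ (3 * g) = (p ^ g) ^ 3 := by rw [mul_comm, pow_mul]
      have hu : 2 ≤ p ^ g := hX.q_ge
      have h6 : (p ^ (3 * g)) ^ 2 + 1 ≤ 2 * tt (p ^ (3 * g)) := by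
        rw [← mul_tt (q := p ^ (3 * g)) (by omega)]
        exact Nat.mul_le_mul_right _ (Nat.le_of_dvd (by norm_num) (Nat.gcd_dvd_left 2 _))
      rw [h5] at h4 h6
      obtain ⟨T, hT⟩ : ∃ T, T = tt ((p ^ g) ^ 3) := ⟨_, rfl⟩
      rw [← hT] at h4 h6
      obtain ⟨u, hu'⟩ : ∃ u, u = p ^ g := ⟨_, rfl⟩
      rw [← hu'] at h3 h4 h6 hu
      have hu2 : 4 ≤ u ^ 2 := by
        calc 4 = 2 ^ 2 := by norm_num
          _ ≤ u ^ 2 := Nat.pow_le_pow_left hu 2
      have hu6 : 64 ≤ u ^ 6 := by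
        calc 64 = 2 ^ 6 := by norm_num
          _ ≤ u ^ 6 := Nat.pow_le_pow_left hu 6
      rw [← pow_mul, ← pow_mul] at h4
      rw [← pow_mul] at h6
      have hA : (u ^ 6 - 1) * (u ^ 6 + 1) = (u ^ 2 - 1) * (u ^ 8 + u ^ 4 + 1) * (u ^ 2 + 1) := by
        have h7 : 1 ≤ u ^ 2 := by omega
        have h8 : 1 ≤ u ^ 6 := by omega
        zify [h7, h8]; ring
      have h9 : (u ^ 12 * (u ^ 6 - 1)) * (2 * ((u ^ 2 - 1) * (u ^ 8 + u ^ 4 + 1))) =
          (u ^ 12 * (u ^ 6 - 1)) * ((u ^ 6 - 1) * T) := by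
        calc (u ^ 12 * (u ^ 6 - 1)) * (2 * ((u ^ 2 - 1) * (u ^ 8 + u ^ 4 + 1))) = M' * 2 := by rw [h3]; ring
          _ = M := h2
          _ = _ := by rw [h4]; norm_num only []; ring
      have h10 := Nat.eq_of_mul_eq_mul_left (Nat.mul_pos (by positivity) (by omega)) h9
      have h11 : ((u ^ 2 - 1) * (u ^ 8 + u ^ 4 + 1)) * (u ^ 2 + 1) ≤ ((u ^ 2 - 1) * (u ^ 8 + u ^ 4 + 1)) * 4 := by
        calc ((u ^ 2 - 1) * (u ^ 8 + u ^ 4 + 1)) * (u ^ 2 + 1) = (u ^ 6 - 1) * (u ^ 6 + 1) := hA.symm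
          _ ≤ (u ^ 6 - 1) * (2 * T) := Nat.mul_le_mul_left _ (by norm_num at h6; omega)
          _ = 2 * ((u ^ 6 - 1) * T) := by ring
          _ = 2 * (2 * ((u ^ 2 - 1) * (u ^ 8 + u ^ 4 + 1))) := by rw [h10]
          _ = _ := by ring
      have h12 := Nat.le_of_mul_le_mul_left h11 (Nat.mul_pos (by omega) (by (clear * - hu; positivity)))
      omega
    · exact absurd h.2.1 (by decide)
    · exact absurd h.2.1 (by decide)
    · exact absurd h.2.1 (by decide)

/-- index two, other characteristics -/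
theorem other_char {X : Sh} {v p f g M' M : ℕ} (hX : Real X v g M') (hY : Real (.C 2) p f M) (hvp : v ≠ p)
    (h2 : M' * 2 = M) (h4 : 4 ≤ p ^ f) : False := by
  have hv := hX.hp
  have hM'0 := hX.M_ne
  have hM0 := hY.M_ne
  have hlt := hX.lt_cube
  have hP : P v M' * P v 2 = P v M := by rw [← P_mul hM'0 (by norm_num), h2]
  have hM := card_mul hY
  have hvq : ¬ v ∣ p ^ f := fun h => hvp ((Nat.prime_dvd_prime_iff_eq hv hY.hp).1 (hv.dvd_of_dvd_pow h))
  set q := p ^ f with hq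
  have hsq : 1 ≤ q ^ 2 - 1 := by
    have : 4 ^ 2 ≤ q ^ 2 := Nat.pow_le_pow_left h4 2
    omega
  have htt : tt q ≤ q ^ 2 + 1 := Nat.le_of_dvd (by omega) (tt_dvd (by omega))
  have htt2 : q ^ 2 + 1 ≤ 2 * tt q := by
    rw [← mul_tt (q := q) (by omega)]
    exact Nat.mul_le_mul_right _ (Nat.le_of_dvd (by norm_num) (Nat.gcd_dvd_left 2 _))
  have htt0 : tt q ≠ 0 := by omega
  have hPM : P v M = P v (q ^ 2 - 1) * P v (q ^ 2 - 1) * P v (tt q) := by
    rw [hM, P_mul (by (clear * - h4 hsq; positivity)) htt0, P_mul (by (clear * - h4; positivity)) (by positivity), pow_two (q ^ 2 - 1),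
      P_mul (by omega) (by omega), P_eq_one (fun h => hvq (hv.dvd_of_dvd_pow h)), one_mul]
  have hbig : q ^ 4 * (q ^ 2 - 1) ^ 2 * (q ^ 2 + 1) ≤ 2 * M := by
    rw [hM]
    calc q ^ 4 * (q ^ 2 - 1) ^ 2 * (q ^ 2 + 1) ≤ q ^ 4 * (q ^ 2 - 1) ^ 2 * (2 * tt q) := Nat.mul_le_mul_left _ htt2
      _ = _ := by ring
  by_cases hd : v ∣ tt q
  · have hv2 : v ≠ 2 := fun h => two_tt (q := q) (by omega) (h ▸ hd)
    have h5 : P v (q ^ 2 - 1) = 1 := by
      refine P_eq_one fun h => ?_
      have := Nat.dvd_gcd hd h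
      rw [cop_sq (by omega)] at this
      exact hv.one_lt.ne' (Nat.dvd_one.1 this)
    have h6 : P v 2 = 1 := P_eq_one fun h => hv2 ((Nat.prime_dvd_prime_iff_eq hv Nat.prime_two).1 h)
    rw [h6, mul_one, hPM, h5, one_mul, one_mul] at hP
    have h7 : P v M' ≤ q ^ 2 + 1 := by rw [hP]; exact (P_le htt0).trans htt
    have h8 : M' < (q ^ 2 + 1) ^ 3 := hlt.trans_le (Nat.pow_le_pow_left h7 3)
    have h9 : (q ^ 2 + 1) * (q ^ 4 * (q ^ 2 - 1) ^ 2) < (q ^ 2 + 1) * (4 * (q ^ 2 + 1) ^ 2) := by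
      calc (q ^ 2 + 1) * (q ^ 4 * (q ^ 2 - 1) ^ 2) = q ^ 4 * (q ^ 2 - 1) ^ 2 * (q ^ 2 + 1) := by ring
        _ ≤ 2 * M := hbig
        _ = 4 * M' := by omega
        _ < 4 * (q ^ 2 + 1) ^ 3 := by omega
        _ = _ := by ring
    have h10 := Nat.lt_of_mul_lt_mul_left h9
    have h11 : q ^ 2 + 1 ≤ 2 * (q ^ 2 - 1) := by
      have : 4 ^ 2 ≤ q ^ 2 := Nat.pow_le_pow_left h4 2
      omega
    have h12 : (q ^ 2 + 1) ^ 2 ≤ 4 * (q ^ 2 - 1) ^ 2 := by
      calc (q ^ 2 + 1) ^ 2 ≤ (2 * (q ^ 2 - 1)) ^ 2 := Nat.pow_le_pow_left h11 2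
        _ = _ := by ring
    have h13 : 256 ≤ q ^ 4 := by
      calc 256 = 4 ^ 4 := by norm_num
        _ ≤ q ^ 4 := Nat.pow_le_pow_left h4 4
    have h14 : 256 * (q ^ 2 - 1) ^ 2 ≤ q ^ 4 * (q ^ 2 - 1) ^ 2 := Nat.mul_le_mul_right _ h13
    have h15 : 0 < (q ^ 2 - 1) ^ 2 := by (clear * - hsq; positivity)
    omega
  · rw [P_eq_one hd, mul_one] at hPM
    have key : 4 * M' < 32 * (q + 1) ^ 6 := by
      by_cases hv2 : v = 2
      · subst hv2
        have h3 : P 2 2 = 2 := by
          have h := P_pow_self (r := 2) (k := 1) (a := 1) Nat.prime_two (by norm_num)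
          simpa using h
        have hodd : ¬ Even q := by rw [even_iff_two_dvd]; exact hvq
        obtain ⟨m, hm⟩ := Nat.not_even_iff_odd.1 hodd
        have h5 : q ^ 2 - 1 = 4 * (m * (m + 1)) := by rw [hm]; exact sq_half m
        have h6 : P 2 (q ^ 2 - 1) ≤ 4 * (m + 1) := by
          rw [h5, P_mul (by norm_num) (Nat.mul_ne_zero (by omega) (by omega)), P_mul (by omega) (by omega)]
          refine Nat.mul_le_mul (P_le (by norm_num)) ?_
          rcases Nat.even_or_odd m with he | ho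
          · have h7 : P 2 (m + 1) = 1 := P_odd_two he.add_one
            rw [h7, mul_one]
            exact (P_le (by omega)).trans (by omega)
          · rw [P_odd_two ho, one_mul]
            exact P_le (by omega)
        have h7 : P 2 (q ^ 2 - 1) ≤ 2 * (q + 1) := by omega
        rw [h3, hPM] at hP
        have h8 : P 2 M' ≤ 2 * (q + 1) ^ 2 := by
          have h9 : P 2 (q ^ 2 - 1) * P 2 (q ^ 2 - 1) ≤ (2 * (q + 1)) * (2 * (q + 1)) := Nat.mul_le_mul h7 h7
          have h10 : (2 * (q + 1)) * (2 * (q + 1)) = 2 * (2 * (q + 1) ^ 2) := by ring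
          omega
        have h9 : M' < (2 * (q + 1) ^ 2) ^ 3 := hlt.trans_le (Nat.pow_le_pow_left h8 3)
        have h10 : (2 * (q + 1) ^ 2) ^ 3 = 8 * (q + 1) ^ 6 := by ring
        omega
      · have h6 : P v 2 = 1 := P_eq_one fun h => hv2 ((Nat.prime_dvd_prime_iff_eq hv Nat.prime_two).1 h)
        rw [h6, mul_one, hPM] at hP
        have h7 : P v (q ^ 2 - 1) ≤ q + 1 := by
          rw [sq_eq (by omega), P_mul (by omega) (by omega)]
          by_cases h8 : v ∣ q - 1
          · have h9 : P v (q + 1) = 1 := by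
              refine P_eq_one fun h => hv2 ?_
              have h10 : v ∣ (q + 1) - (q - 1) := Nat.dvd_sub h h8
              have h11 : (q + 1) - (q - 1) = 2 := by omega
              rw [h11] at h10
              exact (Nat.prime_dvd_prime_iff_eq hv Nat.prime_two).1 h10
            rw [h9, mul_one]
            exact (P_le (by omega)).trans (by omega)
          · rw [P_eq_one h8, one_mul]
            exact P_le (by omega)
        have h8 : P v M' ≤ (q + 1) * (q + 1) := by rw [hP]; exact Nat.mul_le_mul h7 h7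
        have h9 : M' < ((q + 1) * (q + 1)) ^ 3 := hlt.trans_le (Nat.pow_le_pow_left h8 3)
        have h10 : ((q + 1) * (q + 1)) ^ 3 = (q + 1) ^ 6 := by ring
        have h11 : 0 < (q + 1) ^ 6 := by (clear * - h4; positivity)
        omega
    have h5 : (q + 1) ^ 2 * (q ^ 4 * ((q - 1) ^ 2 * (q ^ 2 + 1))) < (q + 1) ^ 2 * (32 * (q + 1) ^ 4) := by
      calc (q + 1) ^ 2 * (q ^ 4 * ((q - 1) ^ 2 * (q ^ 2 + 1))) = q ^ 4 * (q ^ 2 - 1) ^ 2 * (q ^ 2 + 1) := by
            rw [sq_eq (by omega)]; ring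
        _ ≤ 2 * M := hbig
        _ = 4 * M' := by omega
        _ < 32 * (q + 1) ^ 6 := key
        _ = _ := by ring
    have h6 := Nat.lt_of_mul_lt_mul_left h5
    have h7 : 9 * 17 ≤ (q - 1) ^ 2 * (q ^ 2 + 1) := by
      have h8 : 3 ^ 2 ≤ (q - 1) ^ 2 := Nat.pow_le_pow_left (by omega) 2
      have h9 : 4 ^ 2 ≤ q ^ 2 := Nat.pow_le_pow_left h4 2
      exact Nat.mul_le_mul (by omega) (by omega)
    have h8 : (4 * (q + 1)) ^ 4 ≤ (5 * q) ^ 4 := Nat.pow_le_pow_left (by omega) 4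
    have h9 : (4 * (q + 1)) ^ 4 = 256 * (q + 1) ^ 4 := by ring
    have h10 : (5 * q) ^ 4 = 625 * q ^ 4 := by ring
    have h11 : q ^ 4 * (9 * 17) ≤ q ^ 4 * ((q - 1) ^ 2 * (q ^ 2 + 1)) := Nat.mul_le_mul_left _ h7
    have h12 : 0 < q ^ 4 := by (clear * - h4; positivity)
    omega

end Cfsg.Agent.H72.CS4
end

-- part: H72/CS4/Main
section
/-!
# A group with the order and the class sizes of `PSp₄(q)`, `q ≥ 4`, is simple
-/

set_option autoImplicit false

namespace Cfsg.Agent.H72.CS4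

open Cfsg Cfsg.Agent.H902 Cfsg.Agent.H902.Art Cfsg.Agent.OrdDiv Subgroup Cfsg.Agent.H364 Cfsg.Agent.H365.SpFour
open Cfsg.Agent.H431.CS Cfsg.Agent.H370.AAM

universe u v

/-- the order of `PSp₄(q)`, any universe -/
theorem psp_real' {F : Type v} [Field F] [Fintype F] {p f : ℕ} (hp : p.Prime) (hf : 1 ≤ f)
    (hF : Fintype.card F = p ^ f) (h3 : 3 ≤ p ^ f) : Art.Real (.C 2) p f (Nat.card (PSp 2 F)) := by
  refine ⟨hp, hf, ⟨le_rfl, fun _ => h3⟩, ?_⟩
  have h1 := S0245.result (F := F) hF 2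
  have h2 := S0246.result (F := F) hF 2 (by omega)
  have h3 := Subgroup.card_eq_card_quotient_mul_card_subgroup
    (Subgroup.center (Matrix.symplecticGroup (Fin 2) F))
  rw [h1, h2] at h3
  change Nat.gcd 2 (p ^ f - 1) * Nat.card (PSp 2 F) = _
  rw [mul_comm]
  exact h3.symm

/-- the order of `q` modulo a prime divisor of `q² + 1` -/
theorem order_four {q r : ℕ} (hq : 2 ≤ q) (hr : r.Prime) (hrm : r ∣ tt q) : orderOf ((q : ℕ) : ZMod r) = 2 * 2 := by
  have := Fact.mk hr
  have hd : r ∣ q ^ 2 + 1 := hrm.trans (tt_dvd hq)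
  have h1 : ((q : ZMod r)) ^ 2 = -1 := by
    have := (ZMod.natCast_eq_zero_iff (q ^ 2 + 1) r).2 hd
    push_cast at this
    exact eq_neg_of_add_eq_zero_left this
  have hr2 : r ≠ 2 := fun h => two_tt hq (h ▸ hrm)
  have h2 : (-1 : ZMod r) ≠ 1 := by
    have : Fact (2 < r) := ⟨by have := hr.two_le; omega⟩
    exact ZMod.neg_one_ne_one
  have h3 := orderOf_eq_prime_pow (p := 2) (n := 1) (x := (q : ZMod r)) (by
    rw [pow_one, h1]; exact h2) (by
    rw [show (2 : ℕ) ^ (1 + 1) = 2 * 2 by norm_num, pow_mul, h1]; norm_num)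
  rw [h3]; norm_num

theorem five_le {q r : ℕ} (hq : 2 ≤ q) (hr : r.Prime) (hrm : r ∣ tt q) : 5 ≤ r := by
  have h6 := (tt_coprime_six hq).coprime_dvd_left hrm
  have h2 : r ≠ 2 := by rintro rfl; revert h6; decide
  have h3 : r ≠ 3 := by rintro rfl; revert h6; decide
  have h4 : r ≠ 4 := by rintro rfl; revert hr; decide
  have := hr.two_le
  omega

/-- the centralizer orders of `G` -/
theorem ch {G : Type u} [Group G] [Finite G] {F : Type v} [Field F] [Fintype F] {p f : ℕ} (hp : p.Prime) (hf : 1 ≤ f)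
    (hF : Fintype.card F = p ^ f) (h : Same G (PSp 2 F)) : CH G (tt (p ^ f)) := by
  have hq : 2 ≤ p ^ f := hp.two_le.trans (Nat.le_self_pow (by omega) p)
  intro r hr hrm y hy
  have h1 := H510.CS.lat_psp_top (n := 2) hp hf hF le_rfl hr (order_four hq hr hrm)
  refine h1.card_cent hr hp ?_ h hy
  rintro rfl
  have h2 : r ∣ r ^ f := dvd_pow_self r (by omega)
  have := Nat.dvd_gcd hrm h2
  rw [cop_q hq] at this
  exact hr.one_lt.ne' (Nat.dvd_one.1 this)

theorem four_mod {q : ℕ} (hq : 2 ≤ q) : q ^ 4 * (q ^ 2 - 1) ^ 2 ≡ 4 [MOD tt q] := by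
  refine Nat.ModEq.of_dvd (tt_dvd hq) ?_
  have h1 : 1 ≤ q ^ 2 := Nat.one_le_pow _ _ (by omega)
  rw [← ZMod.natCast_eq_natCast_iff]
  have h5 : ((q : ZMod (q ^ 2 + 1))) ^ 2 + 1 = 0 := by
    have := (ZMod.natCast_eq_zero_iff (q ^ 2 + 1) (q ^ 2 + 1)).2 dvd_rfl
    push_cast at this
    exact this
  rw [Nat.cast_mul, Nat.cast_pow, Nat.cast_pow, Nat.cast_sub h1]
  push_cast
  linear_combination ((q : ZMod (q ^ 2 + 1)) ^ 6 - 3 * q ^ 4 + 4 * q ^ 2 - 4) * h5

/-- the structure theorem -/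
theorem struct {G : Type u} [Group G] [Finite G] {F : Type v} [Field F] [Fintype F] {p f : ℕ} (hp : p.Prime)
    (hf : 1 ≤ f) (hF : Fintype.card F = p ^ f) (h3 : 3 ≤ p ^ f) (h : Same G (PSp 2 F)) :
    ∃ (K : Subgroup G) (_ : K.Normal), (Nat.card K).Coprime (tt (p ^ f)) ∧
      (∀ t, t.Prime → tt (p ^ f) ∣ t ^ (Nat.card K).factorization t - 1) ∧
      (Nat.card G = Nat.card K * (tt (p ^ f) * 4) ∨
        ∃ N : Subgroup (G ⧸ K), N.Normal ∧ IsSimpleGroup N ∧ (¬ ∀ a b : N, a * b = b * a) ∧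
          centralizer (N : Set (G ⧸ K)) = ⊥ ∧ tt (p ^ f) ∣ Nat.card N ∧ ∃ n', 1 < n' ∧ n' * N.index = 4) := by
  have hq : 2 ≤ p ^ f := by omega
  have hY := psp_real' (F := F) hp hf hF h3
  rw [← h.card] at hY
  have hcard := card_mul hY
  have htt := tt_ge h3
  have hdiv : Nat.card G / tt (p ^ f) = (p ^ f) ^ 4 * ((p ^ f) ^ 2 - 1) ^ 2 := by
    rw [hcard, Nat.mul_div_cancel _ (by omega)]
  exact (ch hp hf hF h).struct (by omega) (hcard ▸ Dvd.intro_left _ rfl)
    (by rw [hdiv]; exact Nat.Coprime.mul_right ((cop_q hq).pow_right 4) ((cop_sq hq).pow_right 2))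
    le_rfl (by norm_num) (by rw [hdiv]; exact four_mod hq) (fun r hr hrm => five_le hq hr hrm)

/-- no edge between a prime divisor of `m` and another prime, in the quotient -/
theorem edge_quot {G : Type u} [Group G] [Finite G] {m : ℕ} (h : CH G m) (K : Subgroup G) [K.Normal] {r s : ℕ}
    (hr : r.Prime) (hs : s.Prime) (hrm : r ∣ m) (hsm : ¬ s ∣ m) : NoEdge (G ⧸ K) r s :=
  noEdge_quotient K (h.edge hr hs hrm hsm)

theorem simple_of {G : Type u} [Group G] [Finite G] {F : Type v} [Field F] [Fintype F] {p f : ℕ} (hp : p.Prime)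
    (hf : 1 ≤ f) (hF : Fintype.card F = p ^ f) (h4 : 4 ≤ p ^ f) (h : Same G (PSp 2 F)) (TT : OrderTable.{u})
    (hk : ∀ (S : Type u) [Group S] [Finite S] [IsSimpleGroup S], IsKnownSimple' S) : IsSimpleGroup G := by
  have hCH := ch hp hf hF h
  obtain ⟨K, hKn, hKm, hparts, hcases⟩ := struct hp hf hF (by omega) h
  have hY := psp_real' (F := F) hp hf hF (by omega)
  rw [← h.card] at hY
  have hedge := fun (r s : ℕ) (hr : r.Prime) (hs : s.Prime) (hrm : r ∣ tt (p ^ f)) (hsm : ¬ s ∣ tt (p ^ f)) =>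
    edge_quot hCH K hr hs hrm hsm
  have hcard := card_mul hY
  obtain ⟨r, hr, hrm, hro, hrz⟩ := exists_zsig hp hf
  obtain ⟨q, hq⟩ : ∃ q, q = p ^ f := ⟨_, rfl⟩
  rw [← hq] at hKm hparts hcases hcard hrm h4 hedge
  have hq2 : 2 ≤ q := by omega
  have htt := tt_ge (q := q) (by omega)
  have hKG : Nat.card K ∣ Nat.card G := Subgroup.card_subgroup_dvd_card K
  have hpq : p ∣ q := by rw [hq]; exact dvd_pow_self p (by omega)
  have hpt : ¬ p ∣ tt q := fun h => by
    have := Nat.dvd_gcd h hpq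
    rw [cop_q hq2] at this
    exact hp.one_lt.ne' (Nat.dvd_one.1 this)
  have hps : ¬ p ∣ (q ^ 2 - 1) ^ 2 := fun h => by
    have h1 := hp.dvd_of_dvd_pow h
    have h2 : p ∣ q ^ 2 := dvd_pow hpq (by norm_num)
    have h3 : 1 ≤ q ^ 2 := Nat.one_le_pow _ _ (by omega)
    have h5 := (Nat.dvd_sub_iff_right (by omega) h2).1 (show p ∣ q ^ 2 - 1 from h1)
    exact hp.one_lt.ne' (Nat.dvd_one.1 h5)
  -- the primes `v ≠ p`
  have hother : ∀ v : ℕ, v.Prime → v ≠ p → (Nat.card K).factorization v = 0 := by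
    intro v hv hvp
    have h1 : v ^ (Nat.card K).factorization v ∣ q ^ 4 * (q ^ 2 - 1) ^ 2 * tt q := by
      rw [← hcard]
      exact (Nat.ordProj_dvd _ v).trans hKG
    have h2 : Nat.Coprime (v ^ (Nat.card K).factorization v) (tt q) :=
      Nat.Coprime.coprime_dvd_left (Nat.ordProj_dvd _ v) hKm
    have h3 := h2.dvd_of_dvd_mul_right h1
    have h5 : Nat.Coprime (v ^ (Nat.card K).factorization v) (q ^ 4) := by
      rw [hq]
      exact Nat.Coprime.pow_left _ (((Nat.coprime_primes hv hp).2 hvp).pow_right _ |>.pow_right _)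
    have h6 := h5.dvd_of_dvd_mul_left h3
    by_cases hv2 : v = 2
    · subst hv2
      have hodd : Odd q := by
        rw [hq]
        exact (hp.eq_two_or_odd'.resolve_left fun h => hvp h.symm).pow
      obtain ⟨m, hm⟩ := hodd
      rw [hm] at h6
      have h7 := hparts 2 hv
      rw [hm] at h7
      exact two_part (by omega) h6 h7
    · exact odd_part (by omega) hv hv2 h6 (hparts v hv)
  have hKpow : Nat.card K = p ^ (Nat.card K).factorization p := by
    by_contra hne
    have h1 : (Nat.card K) / p ^ (Nat.card K).factorization p ≠ 1 := by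
      intro h
      apply hne
      have h2 := Nat.ordProj_mul_ordCompl_eq_self (Nat.card K) p
      rw [h, mul_one] at h2
      exact h2.symm
    obtain ⟨v, hv, hvd⟩ := Nat.exists_prime_and_dvd h1
    have hvp : v ≠ p := by
      rintro rfl
      exact (Nat.not_dvd_ordCompl hv Nat.card_pos.ne') hvd
    have h2 : v ∣ Nat.card K := hvd.trans (Nat.ordCompl_dvd _ _)
    have h3 := hv.factorization_pos_of_dvd Nat.card_pos.ne' h2
    rw [hother v hv hvp] at h3
    omega
  -- the `p`-part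
  have hKp : Nat.card K = 1 ∨ Nat.card K = q ^ 4 := by
    have h1 : 4 * f ∣ (Nat.card K).factorization p := (hrz _).1 (hrm.trans (hparts p hp))
    have h2 : p ^ (Nat.card K).factorization p ∣ p ^ (4 * f) := by
      have h3 : p ^ (Nat.card K).factorization p ∣ q ^ 4 * ((q ^ 2 - 1) ^ 2 * tt q) := by
        rw [← mul_assoc, ← hcard]
        exact (Nat.ordProj_dvd _ p).trans hKG
      have h5 : Nat.Coprime (p ^ (Nat.card K).factorization p) ((q ^ 2 - 1) ^ 2 * tt q) := by
        apply Nat.Coprime.pow_left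
        rw [Nat.Prime.coprime_iff_not_dvd hp, Nat.Prime.dvd_mul hp]
        (clear * - hpt hps; tauto)
      have h6 := h5.dvd_of_dvd_mul_right h3
      rw [hq, ← pow_mul, mul_comm f 4] at h6
      exact h6
    have h3 := (Nat.pow_dvd_pow_iff_le_right hp.one_lt).1 h2
    obtain ⟨j, hj⟩ := h1
    have h5 : j = 0 ∨ j = 1 := by
      have h6 : 4 * f * j ≤ 4 * f * 1 := by omega
      have := Nat.le_of_mul_le_mul_left h6 (by omega)
      omega
    rcases h5 with rfl | rfl
    · left; rw [hKpow, hj, mul_zero, pow_zero]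
    · right; rw [hKpow, hj, mul_one, hq, ← pow_mul, mul_comm f 4]
  have hGK : Nat.card G = Nat.card K * Nat.card (G ⧸ K) := by
    rw [← Subgroup.card_mul_index K, Subgroup.index_eq_card]
  have hsq1 : 225 ≤ (q ^ 2 - 1) ^ 2 := by
    have h9 : 4 ^ 2 ≤ q ^ 2 := Nat.pow_le_pow_left h4 2
    calc 225 = 15 ^ 2 := by norm_num
      _ ≤ _ := Nat.pow_le_pow_left (by omega) 2
  have hq4 : 256 ≤ q ^ 4 := by
    calc 256 = 4 ^ 4 := by norm_num
      _ ≤ _ := Nat.pow_le_pow_left h4 4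
  rcases hcases with hA | ⟨N, hNn, hNs, hNna, hNc, hNm, n', hn', hidx⟩
  · exfalso
    rw [hcard] at hA
    rcases hKp with h1 | h1
    · rw [h1, one_mul] at hA
      have h2 : tt q * (q ^ 4 * (q ^ 2 - 1) ^ 2) = tt q * 4 := by rw [← hA]; ring
      have h3 := Nat.eq_of_mul_eq_mul_left (by omega) h2
      have h5 : 256 * 225 ≤ q ^ 4 * (q ^ 2 - 1) ^ 2 := Nat.mul_le_mul hq4 hsq1
      omega
    · rw [h1] at hA
      have h2 : (q ^ 4 * tt q) * (q ^ 2 - 1) ^ 2 = (q ^ 4 * tt q) * 4 := by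
        calc (q ^ 4 * tt q) * (q ^ 2 - 1) ^ 2 = q ^ 4 * (q ^ 2 - 1) ^ 2 * tt q := by ring
          _ = _ := by rw [hA]; ring
      have h3 := Nat.eq_of_mul_eq_mul_left (Nat.mul_pos (by omega) (by omega)) h2
      omega
  have hi : N.index = 1 ∨ N.index = 2 := by
    have h1 : N.index ∣ 2 ^ 2 := Dvd.intro_left _ hidx
    obtain ⟨j, hj, h2⟩ := (Nat.dvd_prime_pow Nat.prime_two).1 h1
    have h3 : N.index ≤ 2 := by
      by_contra h5
      have h6 : 2 * 3 ≤ n' * N.index := Nat.mul_le_mul (by omega) (by omega)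
      omega
    have h5 : N.index ≠ 0 := Subgroup.index_ne_zero_of_finite
    omega
  have hNi : Nat.card N * N.index = Nat.card (G ⧸ K) := Subgroup.card_mul_index N
  -- the simple case
  by_cases hsim : N.index = 1 ∧ Nat.card K = 1
  · obtain ⟨hi, hK1⟩ := hsim
    have hNtop : N = ⊤ := Subgroup.index_eq_one.1 hi
    subst hNtop
    have eN : (⊤ : Subgroup (G ⧸ K)) ≃* G ⧸ K := Subgroup.topEquiv
    have hKbot : K = ⊥ := Subgroup.card_eq_one.1 hK1
    subst hKbot
    have e : (⊤ : Subgroup (G ⧸ (⊥ : Subgroup G))) ≃* G := eN.trans QuotientGroup.quotientBot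
    have : Nontrivial G := e.symm.toEquiv.nontrivial
    exact IsSimpleGroup.isSimpleGroup_of_surjective e.toMonoidHom e.surjective
  exfalso
  have hNG : Nat.card K * (Nat.card N * N.index) = Nat.card G := by rw [hNi, ← hGK]
  have hkn := Names.exists_nam TT (hk N) hNna
  rcases hkn with ⟨n, hn, hr', hc⟩ | ⟨g, X, w, k, hg, hr', hX⟩ | ⟨x, hx, hr', hc⟩
  · refine alt_false hY (by rw [← hq]; exact h4) hn hi (by rw [← hq]; exact hKp) hsim
      (by rw [← hc, ← hNG]; ring) ?_
    intro s hs hsm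
    rw [← hq] at hsm
    by_contra hcon
    obtain ⟨ea⟩ := hr'
    have hs5 := five_le hq2 hs hsm
    obtain ⟨g, hg⟩ := Cfsg.Agent.H402.AltG.exists_two (m := n) hs Nat.prime_three (by omega) (by omega) (by norm_num)
      (by omega)
    refine hedge s 3 hs Nat.prime_three hsm ?_ ((ea.symm g : N) : G ⧸ K) ?_
    · intro h3
      have h33 : (3 : ℕ) ∣ Nat.gcd (tt q) 6 := Nat.dvd_gcd h3 (by norm_num)
      rw [tt_coprime_six hq2] at h33
      exact absurd h33 (by norm_num)
    · rw [Subgroup.orderOf_coe, MulEquiv.orderOf_eq, hg]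
  · rcases hKp with hK1 | hK1
    · -- the kernel is trivial
      have hi2 : N.index = 2 := by (clear * - hi hsim hK1; tauto)
      rw [hK1, one_mul, hi2] at hNG
      by_cases hwp : w = p
      · subst hwp
        exact same_char hX hY hNG hr hro (hrm.trans hNm)
      · exact other_char hX hY hwp hNG (by rw [← hq]; exact h4)
    · -- the kernel is a Sylow subgroup
      rw [hcard, hK1] at hGK
      have h1 : Nat.card (G ⧸ K) = tt q * (q ^ 2 - 1) ^ 2 := by
        have h2 : q ^ 4 * Nat.card (G ⧸ K) = q ^ 4 * (tt q * (q ^ 2 - 1) ^ 2) := by rw [← hGK]; ring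
        exact Nat.eq_of_mul_eq_mul_left (by omega) h2
      rw [h1] at hNi
      rcases Nat.even_or_odd q with he | ho
      · have h2 : 2 ∣ Nat.card N := two_dvd_card hNna
        have h3 : 2 ∣ tt q * (q ^ 2 - 1) ^ 2 := by rw [← hNi]; exact h2.mul_right _
        rcases Nat.prime_two.dvd_mul.1 h3 with h5 | h5
        · exact two_tt hq2 h5
        · have h6 := Nat.prime_two.dvd_of_dvd_pow h5
          have h7 : Even (q ^ 2) := he.pow_of_ne_zero (by norm_num)
          have h8 : 1 ≤ q ^ 2 := Nat.one_le_pow _ _ (by omega)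
          obtain ⟨c, hc⟩ := h7
          omega
      · obtain ⟨m, hm⟩ := ho
        rw [hm, N0_eq m (by omega)] at hNi
        exact no_full (by omega) hi hNi hX
  · exact spor_false hY hx hi (by rw [← hq]; exact hKp) hsim (by rw [← hc, ← hNG])

end Cfsg.Agent.H72.CS4
end

-- part: H72/CS4/Three
section
/-!
# A group with the order and the class sizes of `PSp₄(3)` is simple
-/

set_option autoImplicit false

namespace Cfsg.Agent.H72.CS4

open Cfsg Cfsg.Agent.H902 Cfsg.Agent.H902.Art Cfsg.Agent.OrdDiv Subgroup Cfsg.Agent.H364 Cfsg.Agent.H365.SpFour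
open Cfsg.Agent.H431.CS Cfsg.Agent.H370.AAM

universe u v

/-- normal subgroups of order prime to `m` are nilpotent -/
theorem CH.nilpotent {G : Type*} [Group G] [Finite G] {m : ℕ} (h : CH G m) (hm : 1 < m) (hmG : m ∣ Nat.card G)
    {K : Subgroup G} [K.Normal] (hKm : (Nat.card K).Coprime m) : Group.IsNilpotent K := by
  obtain ⟨r, hr, hrm⟩ := Nat.exists_prime_and_dvd hm.ne'
  have := Fact.mk hr
  obtain ⟨x, hx⟩ := exists_prime_orderOf_dvd_card' r (hrm.trans hmG)
  have hfix : ∀ k ∈ K, x * k * x⁻¹ = k → k = 1 := by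
    intro k hk hxk
    by_contra hk1
    obtain ⟨s, hs, hsk⟩ := Nat.exists_prime_and_dvd (n := orderOf k) (fun h1 => hk1 (orderOf_eq_one_iff.1 h1))
    have hsK : s ∣ Nat.card K := by
      have h1 := _root_.orderOf_dvd_natCard (⟨k, hk⟩ : K)
      rw [Subgroup.orderOf_mk] at h1
      exact hsk.trans h1
    have hsm : ¬ s ∣ m := fun h1 => hs.one_lt.ne' (Nat.dvd_one.1 (hKm ▸ Nat.dvd_gcd hsK h1))
    have hc : Commute x k := mul_inv_eq_iff_eq_mul.1 hxk
    refine (h.edge hr hs hrm hsm).false_of_dvd hr hs ?_ hc (by rw [hx]) hsk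
    rintro rfl
    exact hsm hrm
  by_cases hKb : K = ⊥
  · subst hKb
    infer_instance
  let φ : K ≃* K := MulAut.conjNormal x
  have hφ : ∀ k : K, ((φ k : K) : G) = x * k * x⁻¹ := fun k => MulAut.conjNormal_apply x k
  refine Cfsg.Agent.S0033.result φ ?_ r hr ?_
  · intro k hk
    apply Subtype.ext
    refine hfix k k.2 ?_
    rw [← hφ]
    exact congrArg Subtype.val hk
  · refine orderOf_eq_prime ?_ ?_
    · show (MulAut.conjNormal x : MulAut K) ^ r = 1
      rw [← map_pow, ← hx, pow_orderOf_eq_one, map_one]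
    · intro h1
      apply hKb
      rw [eq_bot_iff]
      intro k hk
      rw [mem_bot]
      refine hfix k hk ?_
      rw [← hφ ⟨k, hk⟩, h1]
      rfl

/-- in a nilpotent group elements of orders `3 ^ j` and `2` commute -/
theorem commute_of_nilpotent {K : Type*} [Group K] [Finite K] (hK : Group.IsNilpotent K) {x y : K} {i j : ℕ}
    (hx : orderOf x = 3 ^ i) (hy : orderOf y = 2 ^ j) : Commute x y := by
  have hall := (Group.isNilpotent_of_finite_tfae (G := K)).out 0 3
  have hsyl : ∀ (t : ℕ) (_ : Fact t.Prime) (P : Sylow t K), P.Normal := hall.1 hK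
  have f2 : Fact (Nat.Prime 2) := ⟨Nat.prime_two⟩
  have f3 : Fact (Nat.Prime 3) := ⟨Nat.prime_three⟩
  have hxp : IsPGroup 3 (zpowers x) := IsPGroup.of_card (n := i) (by rw [Nat.card_zpowers, hx])
  have hyp : IsPGroup 2 (zpowers y) := IsPGroup.of_card (n := j) (by rw [Nat.card_zpowers, hy])
  obtain ⟨P, hP⟩ := hxp.exists_le_sylow
  obtain ⟨Q, hQ⟩ := hyp.exists_le_sylow
  have hPn := hsyl 3 f3 P
  have hQn := hsyl 2 f2 Q
  have hd : Disjoint (P : Subgroup K) (Q : Subgroup K) :=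
    IsPGroup.disjoint_of_ne 3 2 (by norm_num) _ _ P.isPGroup' Q.isPGroup'
  exact Subgroup.commute_of_normal_of_disjoint _ _ hPn hQn hd x y (hP (mem_zpowers x)) (hQ (mem_zpowers y))

theorem fac_of {p A k : ℕ} (hp : p.Prime) (hA : A ≠ 0) (h1 : p ^ k ∣ A) (h2 : ¬ p ^ (k + 1) ∣ A) :
    A.factorization p = k := by
  have h3 := (hp.pow_dvd_iff_le_factorization hA).1 h1
  by_contra hcon
  exact h2 ((hp.pow_dvd_iff_le_factorization hA).2 (by omega))

theorem cands_25920 : (cands [(2,6),(3,4),(5,1)] 25920).all (fun g => (ordN g % 5 != 0) || (ordN g == 60) || (ordN g == 360) ||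
    (ordN g == 25920)) = true := by decide +kernel

/-- `PSp₄(3)` has a nontrivial element whose centralizer is a `3`-group -/
theorem exists_three {F : Type v} [Field F] [Fintype F] (h3 : Fintype.card F = 3) :
    ∃ (x : PSp 2 F) (j : ℕ), x ≠ 1 ∧ Nat.card (centralizer ({x} : Set (PSp 2 F))) = 3 ^ j ∧ j ≠ 0 := by
  have hcard : Nat.card (PSp 2 F) = 25920 := by
    rw [card_mul (psp_real' (F := F) (p := 3) (f := 1) Nat.prime_three le_rfl (by rw [h3]; norm_num) (by norm_num))]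
    decide
  have hspec' : ∀ m, m ∈ Set.range (orderOf : PSp 2 F → ℕ) ↔ Cfsg.Agent.H374.Quad.Om (ringChar F) (Fintype.card F) m :=
    fun m => Cfsg.Agent.H374.SpFour.mem_range_iff (by omega) m
  have hchar : ringChar F = 3 := by
    obtain ⟨n, hp, hc⟩ := FiniteField.card F (ringChar F)
    rw [h3] at hc
    have h1 : ringChar F ∣ 3 := by rw [hc]; exact dvd_pow_self _ n.2.ne'
    exact (Nat.prime_dvd_prime_iff_eq hp Nat.prime_three).1 h1
  rw [hchar, h3] at hspec'
  obtain ⟨x, hx⟩ := (hspec' 9).2 (by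
    right; right; right; right; left
    exact ⟨rfl, by norm_num⟩)
  have hno : ∀ s : ℕ, s = 2 ∨ s = 5 → ∀ g : PSp 2 F, orderOf g ≠ 9 * s := by
    intro s hs g hg
    have h1 := (hspec' (9 * s)).1 ⟨g, hg⟩
    rcases hs with rfl | rfl <;> revert h1 <;> unfold Cfsg.Agent.H374.Quad.Om <;> decide
  have hprimes : ∀ s, s.Prime → s ∣ Nat.card (centralizer ({x} : Set (PSp 2 F))) → s = 3 := by
    intro s hs hsd
    have := Fact.mk hs
    have h1 : s ∣ 25920 := hcard ▸ hsd.trans (card_subgroup_dvd_card _)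
    have h2 : s = 2 ∨ s = 3 ∨ s = 5 := by
      have h4 : (25920 : ℕ) = 2 ^ 6 * (3 ^ 4 * 5) := by norm_num
      rw [h4] at h1
      rcases hs.dvd_mul.1 h1 with h1 | h1
      · exact Or.inl ((Nat.prime_dvd_prime_iff_eq hs Nat.prime_two).1 (hs.dvd_of_dvd_pow h1))
      rcases hs.dvd_mul.1 h1 with h1 | h1
      · exact Or.inr (Or.inl ((Nat.prime_dvd_prime_iff_eq hs Nat.prime_three).1 (hs.dvd_of_dvd_pow h1)))
      · exact Or.inr (Or.inr ((Nat.prime_dvd_prime_iff_eq hs Nat.prime_five).1 h1))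
    by_contra h30
    have h25 : s = 2 ∨ s = 5 := by (clear * - s h2 h30; tauto)
    obtain ⟨y, hy⟩ := exists_prime_orderOf_dvd_card' s hsd
    have hyo : orderOf (y : PSp 2 F) = s := by rw [Subgroup.orderOf_coe, hy]
    have hc : Commute x (y : PSp 2 F) := (mem_cen.1 y.2).symm
    refine hno s h25 (x * y) ?_
    rw [hc.orderOf_mul_eq_mul_orderOf_of_coprime, hx, hyo]
    rw [hx, hyo]
    rcases h25 with rfl | rfl <;> norm_num
  have hpow := Nat.eq_prime_pow_of_unique_prime_dvd (n := Nat.card (centralizer ({x} : Set (PSp 2 F))))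
    Nat.card_pos.ne' fun {d} hd hdd => hprimes d hd hdd
  refine ⟨x, _, ?_, hpow, ?_⟩
  · rintro rfl
    rw [orderOf_one] at hx
    norm_num at hx
  · intro h0
    rw [h0, pow_zero] at hpow
    have h1 := _root_.orderOf_dvd_natCard (⟨x, mem_cen.2 (Commute.refl x)⟩ : centralizer ({x} : Set (PSp 2 F)))
    rw [Subgroup.orderOf_mk, hx, hpow] at h1
    norm_num at h1

theorem simple_three {G : Type u} [Group G] [Finite G] {F : Type v} [Field F] [Fintype F] (h3 : Fintype.card F = 3)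
    (h : Same G (PSp 2 F)) (TT : OrderTable.{u})
    (hk : ∀ (S : Type u) [Group S] [Finite S] [IsSimpleGroup S], IsKnownSimple' S) : IsSimpleGroup G := by
  have hF : Fintype.card F = 3 ^ 1 := by rw [h3]; norm_num
  have hCH := ch Nat.prime_three le_rfl hF h
  obtain ⟨K, hKn, hKm, hparts, hcases⟩ := struct Nat.prime_three le_rfl hF (by norm_num) h
  have hY := psp_real' (F := F) Nat.prime_three le_rfl hF (by norm_num)
  rw [← h.card] at hY
  have h5 : tt (3 ^ 1) = 5 := by decide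
  rw [h5] at hCH hKm hparts hcases
  have hG : Nat.card G = 25920 := by
    rw [card_mul hY]; decide
  have hKG : Nat.card K * (Nat.card (G ⧸ K)) = 25920 := by
    rw [← hG, ← Subgroup.card_mul_index K, Subgroup.index_eq_card]
  have hv3 := hparts 3 Nat.prime_three
  rcases hcases with hA | ⟨N, hNn, hNs, hNna, hNc, h5N, n', hn', hnn⟩
  · exfalso
    have hK : Nat.card K = 1296 := by omega
    have hQ : Nat.card (G ⧸ K) = 20 := by
      rw [hK] at hKG; omega
    have hnil : Group.IsNilpotent K := hCH.nilpotent (by norm_num) (by rw [hG]; norm_num) hKm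
    obtain ⟨x, j, hx1, hxc, hj⟩ := exists_three h3
    obtain ⟨g, hg⟩ := h.exists_of_mem (mem_co x)
    rw [hxc] at hg
    have hgo : orderOf g ∣ 3 ^ j := by
      have h1 := _root_.orderOf_dvd_natCard (⟨g, mem_cen.2 (Commute.refl g)⟩ : centralizer ({g} : Set G))
      rwa [Subgroup.orderOf_mk, hg] at h1
    obtain ⟨i, -, hi⟩ := (Nat.dvd_prime_pow Nat.prime_three).1 hgo
    have hgK : g ∈ K := by
      rw [← QuotientGroup.eq_one_iff]
      have h1 : orderOf (g : G ⧸ K) ∣ 3 ^ i := by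
        rw [← hi]; exact orderOf_map_dvd (QuotientGroup.mk' K) g
      have h2 : orderOf (g : G ⧸ K) ∣ 20 := by rw [← hQ]; exact _root_.orderOf_dvd_natCard _
      have h4 := Nat.dvd_gcd h1 h2
      have h6 : Nat.gcd (3 ^ i) 20 = 1 := Nat.Coprime.pow_left i (by norm_num)
      rw [h6, Nat.dvd_one, orderOf_eq_one_iff] at h4
      exact h4
    have f2 : Fact (Nat.Prime 2) := ⟨Nat.prime_two⟩
    obtain ⟨y, hy⟩ := exists_prime_orderOf_dvd_card' (G := K) 2 (by rw [hK]; norm_num)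
    have hc : Commute (⟨g, hgK⟩ : K) y := commute_of_nilpotent hnil (i := i) (j := 1)
      (by rw [Subgroup.orderOf_mk, hi]) (by rw [hy]; norm_num)
    have hyc : (y : G) ∈ centralizer ({g} : Set G) := mem_cen.2 (congrArg Subtype.val hc.eq).symm
    have h1 := _root_.orderOf_dvd_natCard (⟨(y : G), hyc⟩ : centralizer ({g} : Set G))
    rw [Subgroup.orderOf_mk, Subgroup.orderOf_coe, hy, hg] at h1
    have h2 := (Nat.prime_dvd_prime_iff_eq Nat.prime_two Nat.prime_three).1 (Nat.prime_two.dvd_of_dvd_pow h1)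
    norm_num at h2
  · have hN : Nat.card N * N.index = Nat.card (G ⧸ K) := Subgroup.card_mul_index N
    have hNd : Nat.card N ∣ 25920 := by
      rw [← hKG, ← hN]
      exact (Dvd.intro _ rfl).trans (Dvd.intro_left _ rfl)
    obtain ⟨g, hg, -, hord⟩ := exists_good TT (hk N) hNna
      (l := [(2,6),(3,4),(5,1)]) (by decide +kernel) hNd
    have hc := cands_25920
    rw [List.all_eq_true] at hc
    have h1 := hc g hg
    rw [← hord] at h1
    simp only [Bool.or_eq_true, bne_iff_ne, beq_iff_eq, ne_eq] at h1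
    have h2 : Nat.card N % 5 = 0 := Nat.mod_eq_zero_of_dvd h5N
    have hidx : N.index = 1 ∨ N.index = 2 := by
      have h3 : N.index ∣ 4 := Dvd.intro_left _ hnn
      have h4 := Nat.le_of_dvd (by norm_num) h3
      have h5 : N.index ≠ 0 := Subgroup.index_ne_zero_of_finite
      interval_cases N.index
      · exact absurd rfl h5
      · exact Or.inl rfl
      · exact Or.inr rfl
      · omega
      · omega
    have hvK : ∀ c k : ℕ, Nat.card K = c → c ≠ 0 → 3 ^ k ∣ c → ¬ 3 ^ (k + 1) ∣ c → 5 ∣ 3 ^ k - 1 := by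
      intro c k h3 h4 h5 h6
      rw [h3, fac_of Nat.prime_three h4 h5 h6] at hv3
      exact hv3
    rcases h1 with ((h1 | h1) | h1) | h1
    · exact absurd h2 h1
    · exfalso
      rw [← hN, h1] at hKG
      rcases hidx with h3 | h3
      · rw [h3] at hKG
        have := hvK 432 3 (by omega) (by norm_num) (by norm_num) (by norm_num)
        norm_num at this
      · rw [h3] at hKG
        have := hvK 216 3 (by omega) (by norm_num) (by norm_num) (by norm_num)
        norm_num at this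
    · exfalso
      rw [← hN, h1] at hKG
      rcases hidx with h3 | h3
      · rw [h3] at hKG
        have := hvK 72 2 (by omega) (by norm_num) (by norm_num) (by norm_num)
        norm_num at this
      · rw [h3] at hKG
        have := hvK 36 2 (by omega) (by norm_num) (by norm_num) (by norm_num)
        norm_num at this
    · rw [← hN, h1] at hKG
      have hK1 : Nat.card K = 1 ∧ N.index = 1 := by
        rcases hidx with h3 | h3 <;> rw [h3] at hKG
        · exact ⟨by omega, h3⟩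
        · omega
      have hNtop : N = ⊤ := Subgroup.index_eq_one.1 hK1.2
      subst hNtop
      have eN : (⊤ : Subgroup (G ⧸ K)) ≃* G ⧸ K := Subgroup.topEquiv
      have hKbot : K = ⊥ := Subgroup.card_eq_one.1 hK1.1
      subst hKbot
      have e : (⊤ : Subgroup (G ⧸ (⊥ : Subgroup G))) ≃* G := eN.trans QuotientGroup.quotientBot
      have : Nontrivial G := e.symm.toEquiv.nontrivial
      exact IsSimpleGroup.isSimpleGroup_of_surjective e.toMonoidHom e.surjective

/-- **Row `PSp₄(q)`, `q ≥ 3`**, with the classification as a hypothesis -/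
theorem row {G : Type u} [Group G] [Finite G] {F : Type v} [Field F] [Fintype F] (h3 : 3 ≤ Fintype.card F)
    (h : Same G (PSp 2 F)) (TT : OrderTable.{u})
    (hk : ∀ (S : Type u) [Group S] [Finite S] [IsSimpleGroup S], IsKnownSimple' S) : IsSimpleGroup G := by
  by_cases h30 : Fintype.card F = 3
  · exact simple_three h30 h TT hk
  · obtain ⟨n, hp, hn, hF⟩ : ∃ n : ℕ, (ringChar F).Prime ∧ 1 ≤ n ∧ Fintype.card F = ringChar F ^ n := by
      obtain ⟨n, hp, hc⟩ := FiniteField.card F (ringChar F)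
      exact ⟨n, hp, n.2, hc⟩
    exact simple_of hp hn hF (by rw [← hF]; omega) h TT hk

end Cfsg.Agent.H72.CS4
end

-- part: H72/CS4/Row
section
/-!
# S3677, row `PSp₄(q)`, `q ≥ 3`
-/

set_option autoImplicit false

namespace Cfsg.Agent.H72.CS4

open Cfsg Cfsg.Agent.H431.CS

universe u v

/-- **Row `PSp₄(q)`, `q ≥ 3`.** -/
theorem row_psp_four {G : Type u} [Group G] [Finite G] {F : Type v} [Field F] [Fintype F]
    (h3 : 3 ≤ Fintype.card F) (h : Same G (PSp 2 F)) : IsSimpleGroup G :=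
  row h3 h Cfsg.Agent.OrdDiv.table (fun S _ _ _ => Cfsg.Agent.S0000.result (G := S))

end Cfsg.Agent.H72.CS4
end

private theorem dce_f8795ba79e0f : _root_.True := by
  try have : _root_.True := by simp only [_root_.Cfsg.Agent.H72.CS4.F1.eq_1]
  exact _root_.True.intro
end

-- part: H221/CS/Hyps
section
prune_inst 0x3010710474001000000000108000002030000400000000000800000009090000000000000a0000020020000010000000000800000000000000000000000400001000000010000000000000000000000000000000000000000000000000000000000000000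
set_option linter.all false
open scoped Cfsg.Agent.FastGrp

-- part: H932/CS/Center
section
/-!
# S3677, rows `PSp(2n, q)`, `PΩ(2n + 1, q)`: every prime misses some centralizer order (helper932)

* `exists_co` : an element of prime order `r` not adjacent to `l`;
* `center_hy` : from the frame `Hy` of `H364`;
* `center_psp`, `center_odd`.
-/

set_option autoImplicit false

namespace Cfsg.Agent.H932.CS

open Subgroup Cfsg Cfsg.Agent.H364 Cfsg.Agent.H902 Cfsg.Agent.H902.Art Cfsg.Agent.H364.SpFrame Cfsg.Agent.H364.SpHyp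
open Cfsg.Agent.H72.AdjOrth Cfsg.Agent.H370.AAM

universe u v

section

variable {G : Type u} [Group G] [Finite G] {l r : ℕ}

/-- an element of order `r` has a centralizer of order prime to `l` if there is no element of order `l r` -/
theorem exists_co (hl : l.Prime) (hr : r.Prime) (hlr : l ≠ r) (hrG : r ∣ Nat.card G) (h : NoEdge G l r) :
    ∃ c ∈ Co G, ¬ l ∣ c := by
  have := Fact.mk hl
  have := Fact.mk hr
  obtain ⟨x, hx⟩ := exists_prime_orderOf_dvd_card' r hrG
  refine ⟨_, mem_co x, fun hd => ?_⟩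
  obtain ⟨⟨y, hy⟩, hy'⟩ := exists_prime_orderOf_dvd_card' l hd
  rw [Subgroup.orderOf_mk] at hy'
  have hc : Commute y x := mem_cent.1 hy
  refine h (y * x) ?_
  rw [hc.orderOf_mul_eq_mul_orderOf_of_coprime (by rw [hx, hy']; exact (Nat.coprime_primes hl hr).2 hlr), hx, hy']

variable {n p f : ℕ}

theorem center_hy (h : Hy G n p f) (l : ℕ) (hl : l.Prime) : ∃ c ∈ Co G, ¬ l ∣ c := by
  have hn := h.hn
  by_cases hlG : l ∣ Nat.card G
  swap
  · refine ⟨_, mem_co 1, fun hd => hlG (hd.trans (Subgroup.card_subgroup_dvd_card _))⟩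
  by_cases hl2 : l = 2
  · subst hl2
    obtain ⟨r, hr, hr2, hrG, hx⟩ := h.far
    exact exists_co hl hr (Ne.symm hr2) hrG fun x hx' => hx ⟨x, hx'⟩
  by_cases hlp : l = p
  · subst hlp
    -- a prime of class `2n` or `n`
    by_cases h32 : l ^ f = 2 ∧ 2 * n = 6
    · obtain ⟨r, hr, hr2, hrp, he, hrG⟩ := h.exists_class (k := 3) le_rfl (by rw [eta_odd (by decide)]; omega)
        (fun h => by omega)
      refine exists_co hl hr (Ne.symm hrp) hrG (h.nadjp r hr hr2 hrp hrG ?_).symm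
      rw [he, eta_odd (by decide)]
      omega
    · obtain ⟨r, hr, hr2, hrp, he, hrG⟩ := h.exists_class (k := 2 * n) (by omega) (by rw [eta_even]) h32
      refine exists_co hl hr (Ne.symm hrp) hrG (h.nadjp r hr hr2 hrp hrG ?_).symm
      rw [he, eta_even]
      omega
  have hk := (h.dvd_iff hl hl2 hlp).1 hlG
  have hpos := ee_pos hl (h.hY.not_dvd_q hl hlp)
  -- the two ways to use `nadj`
  have up : ∀ s : ℕ, s.Prime → s ≠ 2 → s ≠ p → s ∣ Nat.card G → eta (ee (p ^ f) l) ≤ eta (ee (p ^ f) s) →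
      n < eta (ee (p ^ f) l) + eta (ee (p ^ f) s) → (∀ t, Odd t → ee (p ^ f) s ≠ ee (p ^ f) l * t) →
      ∃ c ∈ Co G, ¬ l ∣ c := by
    intro s hs hs2 hsp hsG h1 h2 h3
    have hls : l ≠ s := by
      rintro rfl
      exact h3 1 odd_one (mul_one _).symm
    exact exists_co hl hs hls hsG (h.nadj l s hl hs hl2 hs2 hlp hsp hls hlG hsG h1 h2 h3)
  have dn : ∀ s : ℕ, s.Prime → s ≠ 2 → s ≠ p → s ∣ Nat.card G → eta (ee (p ^ f) s) ≤ eta (ee (p ^ f) l) →
      n < eta (ee (p ^ f) s) + eta (ee (p ^ f) l) → (∀ t, Odd t → ee (p ^ f) l ≠ ee (p ^ f) s * t) →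
      ∃ c ∈ Co G, ¬ l ∣ c := by
    intro s hs hs2 hsp hsG h1 h2 h3
    have hls : s ≠ l := by
      rintro rfl
      exact h3 1 odd_one (mul_one _).symm
    exact exists_co hl hs hls.symm hsG (h.nadj s l hs hl hs2 hl2 hsp hlp hls hsG hlG h1 h2 h3).symm
  obtain ⟨e, he⟩ : ∃ e, e = ee (p ^ f) l := ⟨_, rfl⟩
  rw [← he] at hk hpos up dn
  rcases Nat.even_or_odd e with hev | hodd
  · obtain ⟨k, hk2⟩ := hev
    obtain rfl : e = 2 * k := by omega
    rw [eta_even] at hk up dn
    rcases Nat.even_or_odd n with hne | hno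
    · rcases Nat.lt_or_ge k 2 with hk1 | hk1
      · obtain rfl : k = 1 := by omega
        obtain ⟨s, hs, hs2, hsp, hse, hsG⟩ := h.exists_class (k := 2 * n) (by omega) (by rw [eta_even])
          (fun h => by obtain ⟨m, hm⟩ := hne; omega)
        refine up s hs hs2 hsp hsG (by rw [hse, eta_even]; omega) (by rw [hse, eta_even]; omega) ?_
        intro t ht
        rw [hse]
        obtain ⟨a, ha⟩ := ht
        obtain ⟨m, hm⟩ := hne
        omega
      · have ho : Odd (n - 1) := by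
          obtain ⟨m, hm⟩ := hne
          exact ⟨m - 1, by omega⟩
        obtain ⟨s, hs, hs2, hsp, hse, hsG⟩ := h.exists_class (k := n - 1) (by obtain ⟨m, hm⟩ := hne; omega)
          (by rw [eta_odd ho]; omega) (fun h => by obtain ⟨m, hm⟩ := ho; omega)
        rcases Nat.lt_or_ge k n with hkn | hkn
        · refine up s hs hs2 hsp hsG (by rw [hse, eta_odd ho]; omega) (by rw [hse, eta_odd ho]; omega) ?_
          intro t _
          rw [hse]
          intro h5
          obtain ⟨m, hm⟩ := ho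
          have : n - 1 = 2 * (k * t) := by rw [h5]; ring
          omega
        · refine dn s hs hs2 hsp hsG (by rw [hse, eta_odd ho]; omega) (by rw [hse, eta_odd ho]; omega) ?_
          intro t ht
          rw [hse]
          intro h5
          have h6 : Odd ((n - 1) * t) := ho.mul ht
          rw [← h5] at h6
          exact Nat.not_odd_iff_even.2 (even_two_mul k) h6
    · obtain ⟨s, hs, hs2, hsp, hse, hsG⟩ := h.exists_class (k := n) hn (by rw [eta_odd hno])
        (fun h => by obtain ⟨m, hm⟩ := hno; omega)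
      refine up s hs hs2 hsp hsG (by rw [hse, eta_odd hno]; omega) (by rw [hse, eta_odd hno]; omega) ?_
      intro t _
      rw [hse]
      intro h5
      obtain ⟨m, hm⟩ := hno
      have : n = 2 * (k * t) := by rw [← mul_assoc]; exact h5
      omega
  · rw [eta_odd hodd] at hk up dn
    by_cases h32 : p ^ f = 2 ∧ 2 * n = 6
    · -- `PSp₆(2)`
      obtain ⟨hq, hn6⟩ := h32
      obtain rfl : n = 3 := by omega
      have he3 : e = 3 := by
        have h1 : e ≠ 1 := by
          rintro rfl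
          have h2 : orderOf ((p ^ f : ℕ) : ZMod l) = 1 := he.symm
          rw [orderOf_eq_one_iff, hq] at h2
          have h3 : ((1 : ℕ) : ZMod l) = 0 := by
            have : ((2 : ℕ) : ZMod l) = ((1 : ℕ) : ZMod l) := by rw [h2, Nat.cast_one]
            have h4 : ((2 : ℕ) : ZMod l) = ((1 : ℕ) : ZMod l) + ((1 : ℕ) : ZMod l) := by push_cast; norm_num
            rw [h4] at this
            exact (add_eq_left.1 this)
          rw [ZMod.natCast_eq_zero_iff] at h3
          exact hl.one_lt.ne' (Nat.dvd_one.1 h3)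
        obtain ⟨m, hm⟩ := hodd
        omega
      obtain ⟨s, hs, hs2, hsp, hse, hsG⟩ := h.exists_class (k := 4) (by norm_num)
        (by rw [show (4 : ℕ) = 2 * 2 by rfl, eta_even]; norm_num) (fun h => by omega)
      refine dn s hs hs2 hsp hsG ?_ ?_ ?_
      · rw [hse, show (4 : ℕ) = 2 * 2 by rfl, eta_even]; omega
      · rw [hse, show (4 : ℕ) = 2 * 2 by rfl, eta_even]; omega
      · intro t _
        rw [hse]
        omega
    · obtain ⟨s, hs, hs2, hsp, hse, hsG⟩ := h.exists_class (k := 2 * n) (by omega) (by rw [eta_even]) h32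
      refine up s hs hs2 hsp hsG (by rw [hse, eta_even]; omega) (by rw [hse, eta_even]; omega) ?_
      intro t ht
      rw [hse]
      intro h5
      have h6 : Odd (e * t) := hodd.mul ht
      rw [← h5] at h6
      exact Nat.not_odd_iff_even.2 (even_two_mul n) h6

end

section

variable {F : Type v} [Field F] [Fintype F] {n p f : ℕ}

/-- a copy of the field in `Type` -/
theorem exists_small (hp : p.Prime) (hf : 1 ≤ f) (hF : Fintype.card F = p ^ f) :
    ∃ (F' : Type) (_ : Field F') (_ : Fintype F'), Fintype.card F' = p ^ f ∧ Nonempty (F ≃+* F') := by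
  have := Fact.mk hp
  have := Fintype.ofFinite (GaloisField p f)
  have hc : Fintype.card (GaloisField p f) = p ^ f := by
    rw [← Nat.card_eq_fintype_card]
    exact GaloisField.card p f (by omega)
  exact ⟨GaloisField p f, inferInstance, inferInstance, hc, ⟨FiniteField.ringEquivOfCardEq (hF.trans hc.symm)⟩⟩

/-- **every prime misses a centralizer order of `PSp(2n, q)`** -/
theorem center_psp (hp : p.Prime) (hf : 1 ≤ f) (hF : Fintype.card F = p ^ f) (hn : 3 ≤ n) (l : ℕ) (hl : l.Prime) :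
    ∃ c ∈ Co (PSp n F), ¬ l ∣ c := by
  obtain ⟨F', _, _, hF', ⟨σ⟩⟩ := exists_small hp hf hF
  rw [H431.CS.co_congr (LieClassical.FieldTransfer.pspCongr n σ)]
  exact center_hy (hy_psp hp hf hF' hn) l hl

/-- **every prime misses a centralizer order of `PΩ(2n + 1, q)`** -/
theorem center_odd (hp : p.Prime) (hp2 : p ≠ 2) (hf : 1 ≤ f) (hF : Fintype.card F = p ^ f) (hn : 3 ≤ n) (l : ℕ)
    (hl : l.Prime) : ∃ c ∈ Co (POmega F (quadFormOdd n F)), ¬ l ∣ c := by
  obtain ⟨F', _, _, hF', ⟨σ⟩⟩ := exists_small hp hf hF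
  obtain ⟨e⟩ := UGT.U2.Rec.Congr.nonempty_POmegaOdd σ n
  rw [H431.CS.co_congr e]
  exact center_hy (hy_omega hp hf hF' (by rw [hF']; exact (hp.odd_of_ne_two hp2).pow) hn) l hl

end

end Cfsg.Agent.H932.CS
end

-- part: H478/CS/MinSize
section
/-!
# S3677, piece G2: the `l`-part of `|L|` is at most the smallest class size `> 1`, `L = PSp(2n, q)`, `PΩ(2n + 1, q)` (helper478)
-/

set_option autoImplicit false

namespace Cfsg.Agent.H478.CS.MinSize

open Finset Subgroup Cfsg Cfsg.Agent.H902.Lte Cfsg.Agent.H902.Art Cfsg.Agent.H364.SpVal Cfsg.Agent.H364.SpSmall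

universe v

/-! ### The order of `l` and the `l`-part -/

/-- `3 (x + 1)⁴ ≤ x⁶`, `x ≥ 4` -/
theorem six_le {x : ℕ} (hx : 4 ≤ x) : 3 * (x + 1) ^ 4 ≤ x ^ 6 := by
  obtain ⟨y, rfl⟩ := Nat.exists_eq_add_of_le hx
  linarith only [Nat.zero_le (y ^ 3), Nat.zero_le (y ^ 4), Nat.zero_le (y ^ 5), Nat.zero_le (y ^ 6), _root_.sq_nonneg (↑y : ℤ), _root_.Nat.cast_nonneg (α := ℤ) (y)]

theorem four_le' {x : ℕ} (hx : 4 ≤ x) : 3 * (x + 1) ^ 2 ≤ x ^ 4 := by
  obtain ⟨y, rfl⟩ := Nat.exists_eq_add_of_le hx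
  linarith only [Nat.zero_le (y ^ 3), Nat.zero_le (y ^ 4), _root_.sq_nonneg (↑y : ℤ), _root_.Nat.cast_nonneg (α := ℤ) (y)]

/-- the numerical inequality for `k ≥ 2` blocks -/
theorem blocks {x : ℕ} (hx : 4 ≤ x) (j : ℕ) :
    ((x + 1) ^ 2) ^ (j + 2) * 3 ^ (j + 1) * x ^ 2 ≤ x ^ (4 * (j + 2)) := by
  have h1 := six_le hx
  have h2 := four_le' hx
  calc ((x + 1) ^ 2) ^ (j + 2) * 3 ^ (j + 1) * x ^ 2 = (3 * (x + 1) ^ 2) ^ j * (3 * (x + 1) ^ 4) * x ^ 2 := by
        rw [mul_pow 3]; ring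
    _ ≤ (x ^ 4) ^ j * x ^ 6 * x ^ 2 :=
        Nat.mul_le_mul_right _ (Nat.mul_le_mul (Nat.pow_le_pow_left h2 j) h1)
    _ = x ^ (4 * (j + 2)) := by rw [← pow_mul]; ring

/-- the main inequality: `e` with `q ^ e ≥ 4` -/
theorem sq_le {q n e A : ℕ} (hq : 2 ≤ q) (he : 1 ≤ e) (hen : e ≤ n) (hx : 4 ≤ q ^ e) (hn : 3 ≤ n)
    (hA : A ^ 2 ≤ ((q ^ e + 1) ^ 2) ^ (n / e) * 3 ^ (n / e - 1)) :
    (3 ≤ q → A ≤ q ^ (2 * n - 1)) ∧ (q = 2 → A ≤ q ^ (2 * n - 2)) := by
  set x := q ^ e with hxdef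
  have hk : 1 ≤ n / e := Nat.div_pos hen (by omega)
  have hek : e * (n / e) ≤ n := Nat.mul_div_le n e
  rcases Nat.lt_or_ge (n / e) 2 with h | h
  · have h1 : n / e = 1 := by omega
    rw [h1, pow_one, Nat.sub_self, pow_zero, mul_one] at hA
    have h2 : A ≤ x + 1 := le_of_sq_le hA
    have h3 : x ≤ q ^ n := Nat.pow_le_pow_right (by omega) hen
    constructor
    · intro h3
      have h4 : q ^ n * q ≤ q ^ (2 * n - 1) := by
        rw [← pow_succ]; exact Nat.pow_le_pow_right (by omega) (by omega)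
      have h5 : q ^ n * 3 ≤ q ^ n * q := Nat.mul_le_mul_left _ h3
      have h6 : 1 ≤ q ^ n := Nat.one_le_pow _ _ (by omega)
      omega
    · intro h3
      have h4 : q ^ n * 2 ≤ q ^ (2 * n - 2) := by
        rw [h3, ← pow_succ]; exact Nat.pow_le_pow_right (by omega) (by omega)
      have h6 : 1 ≤ q ^ n := Nat.one_le_pow _ _ (by omega)
      omega
  · obtain ⟨j, hj⟩ := Nat.exists_eq_add_of_le' h
    rw [hj] at hA hek
    have h1 := blocks hx j
    have h2 : x ^ (4 * (j + 2)) ≤ q ^ (4 * n) := by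
      rw [hxdef, ← pow_mul]
      apply Nat.pow_le_pow_right (by omega)
      calc e * (4 * (j + 2)) = 4 * (e * (j + 2)) := by ring
        _ ≤ 4 * n := Nat.mul_le_mul_left _ hek
    have h3 : A ^ 2 * x ^ 2 ≤ q ^ (4 * n) := (Nat.mul_le_mul_right _ hA).trans (h1.trans h2)
    constructor
    · intro hq3
      have h4 : q ≤ x := Nat.le_self_pow (by omega) q
      apply le_of_sq_le
      have h5 : A ^ 2 * q ^ 2 ≤ (q ^ (2 * n - 1)) ^ 2 * q ^ 2 := by
        calc A ^ 2 * q ^ 2 ≤ A ^ 2 * x ^ 2 := Nat.mul_le_mul_left _ (Nat.pow_le_pow_left h4 2)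
          _ ≤ q ^ (4 * n) := h3
          _ = _ := by rw [← pow_mul, ← pow_add]; congr 1; omega
      exact Nat.le_of_mul_le_mul_right h5 (pow_pos (by omega) 2)
    · intro hq2
      apply le_of_sq_le
      have h5 : A ^ 2 * 4 ^ 2 ≤ (q ^ (2 * n - 2)) ^ 2 * 4 ^ 2 := by
        calc A ^ 2 * 4 ^ 2 ≤ A ^ 2 * x ^ 2 := Nat.mul_le_mul_left _ (Nat.pow_le_pow_left hx 2)
          _ ≤ q ^ (4 * n) := h3
          _ = _ := by
            rw [hq2, show (4 : ℕ) ^ 2 = 2 ^ 4 by norm_num, ← pow_mul, ← pow_add]; congr 1; omega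
      exact Nat.le_of_mul_le_mul_right h5 (by norm_num)

/-- odd `l` -/
theorem P_odd {q n l : ℕ} (hl : l.Prime) (hl2 : l ≠ 2) (hq : 2 ≤ q) (hlq : ¬ l ∣ q) (hn : 3 ≤ n)
    (h2 : ¬ (q = 2 ∧ l = 3)) :
    (3 ≤ q → P l (AA n q) ≤ q ^ (2 * n - 1)) ∧ (q = 2 → P l (AA n q) ≤ q ^ (2 * n - 2)) := by
  obtain ⟨he, h | ⟨h3, h4⟩⟩ := PC_odd' hl hl2 hq hlq n
  · rw [h.2]
    exact ⟨fun _ => Nat.one_le_pow _ _ (by omega), fun _ => Nat.one_le_pow _ _ (by omega)⟩
  · refine sq_le hq he h3 ?_ hn h4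
    -- `q ^ e ≥ 4`
    by_contra hcon
    push Not at hcon
    have he1 : orderOf ((q ^ 2 : ℕ) : ZMod l) = 1 := by
      by_contra hne
      have h5 : 2 ≤ orderOf ((q ^ 2 : ℕ) : ZMod l) := by omega
      have h6 : 2 ^ 2 ≤ q ^ orderOf ((q ^ 2 : ℕ) : ZMod l) :=
        (Nat.pow_le_pow_left hq 2).trans (Nat.pow_le_pow_right (by omega) h5)
      omega
    rw [he1, pow_one] at hcon
    rw [orderOf_eq_one_iff, ← Nat.cast_one, ZMod.natCast_eq_natCast_iff] at he1
    have h7 : l ∣ q ^ 2 - 1 := (Nat.modEq_iff_dvd' (Nat.one_le_pow _ _ (by omega))).1 he1.symm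
    rcases (by omega : q = 2 ∨ q = 3) with rfl | rfl
    · have h8 : l ∣ 3 := by simpa using h7
      exact h2 ⟨rfl, (Nat.prime_dvd_prime_iff_eq hl Nat.prime_three).1 h8⟩
    · have h8 : l ∣ 2 ^ 3 := by simpa using h7
      exact hl2 ((Nat.prime_dvd_prime_iff_eq hl Nat.prime_two).1 (hl.dvd_of_dvd_pow h8))

/-- `l = 2`, `q ≥ 5` odd -/
theorem two_le {q n A : ℕ} (hq : 5 ≤ q) (hn : 3 ≤ n) (hA : A ≤ (4 * (q + 1)) ^ n / 4) :
    A ≤ (q ^ (2 * n) - 1) / (q - 1) := by
  rw [Nat.le_div_iff_mul_le (by omega)]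
  have h0 : (4 * (q + 1)) ^ n / 4 = 4 ^ (n - 1) * (q + 1) ^ n := by
    obtain ⟨m, rfl⟩ := Nat.exists_eq_add_of_le' (show 1 ≤ n by omega)
    rw [mul_pow, Nat.add_sub_cancel, pow_succ 4, mul_comm (4 ^ m) 4, mul_assoc, Nat.mul_div_cancel_left _ (by norm_num)]
  rw [h0] at hA
  -- `(4 (q + 1)) ^ (n - 1) (q + 1) (q - 1) ≤ q ^ (2 n) - 1`
  have h1 : 4 * (q + 1) ≤ q ^ 2 := by nlinarith only [hq]
  have h2 : (4 * (q + 1)) ^ (n - 1) ≤ (q ^ 2) ^ (n - 1) := Nat.pow_le_pow_left h1 _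
  have h3 : A * (q - 1) ≤ (4 * (q + 1)) ^ (n - 1) * ((q + 1) * (q - 1)) := by
    obtain ⟨m, rfl⟩ := Nat.exists_eq_add_of_le' (show 1 ≤ n by omega)
    rw [Nat.add_sub_cancel] at hA ⊢
    calc A * (q - 1) ≤ 4 ^ m * (q + 1) ^ (m + 1) * (q - 1) := Nat.mul_le_mul_right _ hA
      _ = _ := by rw [mul_pow, pow_succ]; ring
  have h4 : (q + 1) * (q - 1) + 1 = q ^ 2 := by
    obtain ⟨m, rfl⟩ := Nat.exists_eq_add_of_le' (show 1 ≤ q by omega)
    rw [Nat.add_sub_cancel]; ring
  have h5 : (q ^ 2) ^ (n - 1) * q ^ 2 = q ^ (2 * n) := by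
    rw [← pow_mul, ← pow_add]; congr 1; omega
  have h6 : 1 ≤ (q ^ 2) ^ (n - 1) := Nat.one_le_pow _ _ (pow_pos (by omega) 2)
  have h7 : A * (q - 1) ≤ (q ^ 2) ^ (n - 1) * ((q + 1) * (q - 1)) := h3.trans (Nat.mul_le_mul_right _ h2)
  have h8 : (q ^ 2) ^ (n - 1) * ((q + 1) * (q - 1)) + (q ^ 2) ^ (n - 1) = q ^ (2 * n) := by
    rw [← h5, ← h4]; ring
  omega

/-! ### The degrees -/

theorem deg_ge {q n : ℕ} (hq : 2 ≤ q) (hn : 1 ≤ n) : q ^ (2 * n - 1) ≤ (q ^ (2 * n) - 1) / (q - 1) := by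
  rw [Nat.le_div_iff_mul_le (by omega), Nat.mul_sub, mul_one, ← pow_succ, show 2 * n - 1 + 1 = 2 * n by omega]
  have := Nat.one_le_pow (2 * n - 1) q (by omega)
  omega

/-- **the number**: the `l`-part of the order is at most the degree -/
theorem part_le {n p f M l : ℕ} (hY : Real (.C n) p f M) (hn : 3 ≤ n) (hl : l.Prime) (hlp : l ≠ p)
    (h2 : ¬ (p ^ f = 2 ∧ l = 3)) (h3 : ¬ (p ^ f = 3 ∧ l = 2)) :
    (3 ≤ p ^ f → P l M ≤ ((p ^ f) ^ (2 * n) - 1) / (p ^ f - 1)) ∧
      (p ^ f = 2 → P l M ≤ 2 ^ (n - 1) * (2 ^ n - 1)) ∧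
      (p ^ f = 3 → P l M ≤ 3 ^ n * (3 ^ n - 1) / 2) := by
  have hq2 := hY.q_ge
  have hlq := hY.not_dvd_q hl hlp
  have hle : P l M ≤ P l (AA n (p ^ f)) := hY.P_other_le hl hlp
  by_cases hl2 : l = 2
  · subst hl2
    have hodd : Odd (p ^ f) := Nat.not_even_iff_odd.1 fun h => hlq h.two_dvd
    have hq3 : p ^ f ≠ 3 := fun h => h3 ⟨h, rfl⟩
    have hq5 : 5 ≤ p ^ f := by rcases hodd with ⟨k, hk⟩; (clear * - hq2 hq3 hk; omega)
    exact ⟨fun _ => two_le hq5 hn (P_two_le hY rfl hlp (by omega)), fun h => by omega, fun h => absurd h hq3⟩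
  · obtain ⟨ha, hb⟩ := P_odd hl hl2 hq2 hlq hn h2
    refine ⟨fun h => hle.trans ((ha h).trans (deg_ge hq2 (by omega))), fun h => hle.trans ((hb h).trans ?_),
      fun h => hle.trans ((ha (by omega)).trans ?_)⟩
    · rw [h, show 2 * n - 2 = (n - 1) + (n - 1) by omega, pow_add]
      apply Nat.mul_le_mul_left
      have h5 : 2 ^ n = 2 ^ (n - 1) * 2 := by rw [← pow_succ]; congr 1; omega
      have := Nat.one_le_pow (n - 1) 2 (by norm_num)
      omega
    · rw [h, Nat.le_div_iff_mul_le (by norm_num), show 2 * n - 1 = n + (n - 1) by omega, pow_add, mul_assoc]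
      apply Nat.mul_le_mul_left
      have h5 : 3 ^ n = 3 ^ (n - 1) * 3 := by rw [← pow_succ]; congr 1; omega
      have := Nat.one_le_pow (n - 1) 3 (by norm_num)
      omega

/-! ### The groups -/

variable {F : Type v} [Field F] [Fintype F] {n p f : ℕ}

theorem psp_real' (hp : p.Prime) (hf : 1 ≤ f) (hF : Fintype.card F = p ^ f) (hm : 2 ≤ n) (hm2 : n = 2 → 3 ≤ p ^ f) :
    Real (.C n) p f (Nat.card (PSp n F)) := by
  refine ⟨hp, hf, ⟨hm, hm2⟩, ?_⟩
  have h1 := Cfsg.Agent.S0245.result (F := F) hF n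
  have h2 := Cfsg.Agent.S0246.result (F := F) hF n (by omega)
  have h3 := Subgroup.card_eq_card_quotient_mul_card_subgroup
    (Subgroup.center (Matrix.symplecticGroup (Fin n) F))
  rw [h1, h2] at h3
  change Nat.gcd 2 (p ^ f - 1) * Nat.card (PSp n F) = _
  rw [mul_comm]
  exact h3.symm

theorem oodd_real' (hp : p.Prime) (hf : 1 ≤ f) (hF : Fintype.card F = p ^ f) (hm : 3 ≤ n) (ho : Odd (p ^ f)) :
    Real (.C n) p f (Nat.card (POmega F (quadFormOdd n F))) := by
  refine ⟨hp, hf, ⟨by omega, fun h => by omega⟩, ?_⟩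
  have h := Cfsg.Agent.S0292.result (F := F) hF ho n hm
  have hq : 1 ≤ p ^ f := Nat.one_le_pow _ _ hp.pos
  have h2 : Nat.gcd 2 (p ^ f - 1) = 2 := by
    apply Nat.gcd_eq_left
    rw [← even_iff_two_dvd, Nat.even_sub hq]
    constructor
    · intro h3
      exact absurd h3 (Nat.not_even_iff_odd.2 ho)
    · intro h3
      exact absurd h3 (by decide)
  change Nat.gcd 2 (p ^ f - 1) * _ = _
  rw [h2]
  exact h

/-- in a simple group of composite order the centralizers of `x ≠ 1` are proper -/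
theorem cent_ne_top {G : Type v} [Group G] [Finite G] [IsSimpleGroup G] (hG : ¬ (Nat.card G).Prime) {x : G}
    (hx : x ≠ 1) : centralizer ({x} : Set G) ≠ ⊤ := by
  intro h
  have h1 : x ∈ center G := by
    rw [mem_center_iff]
    intro g
    have h2 : g ∈ centralizer ({x} : Set G) := h ▸ mem_top g
    exact (mem_centralizer_singleton_iff.1 h2)
  have h2 : center G = ⊤ := by
    rcases IsSimpleGroup.eq_bot_or_eq_top_of_normal (center G) inferInstance with h3 | h3
    · rw [h3] at h1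
      exact absurd (mem_bot.1 h1) hx
    · exact h3
  have h3 : ∀ a b : G, a * b = b * a := fun a b => by
    have : b ∈ center G := h2 ▸ mem_top b
    exact mem_center_iff.1 this a
  let _ : CommGroup G := { ‹Group G› with mul_comm := h3 }
  exact hG IsSimpleGroup.prime_card

/-- the order is not a prime -/
theorem not_prime {M : ℕ} (hY : Real (.C n) p f M) (hn : 3 ≤ n) : ¬ M.Prime := by
  intro hM
  have h1 : P p M = (p ^ f) ^ (n ^ 2) := hY.P_self
  have hp := hY.hp
  have hf := hY.hf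
  have h2 : p ^ 2 ∣ M := by
    have h3 : P p M ∣ M := Nat.ordProj_dvd M p
    refine dvd_trans ?_ h3
    rw [h1, ← pow_mul]
    refine pow_dvd_pow p ?_
    have : 1 * 3 ^ 2 ≤ f * n ^ 2 := Nat.mul_le_mul hf (Nat.pow_le_pow_left hn 2)
    omega
  have h3 : p ∣ M := (dvd_pow_self p two_ne_zero).trans h2
  have h4 := (Nat.prime_dvd_prime_iff_eq hp hM).1 h3
  subst h4
  have h5 := Nat.le_of_dvd hp.pos h2
  have := hp.two_le
  nlinarith only [h5, this]

/-- G2 for `PSp(2n, q)` -/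
theorem min_psp (hp : p.Prime) (hf : 1 ≤ f) (hF : Fintype.card F = p ^ f) (hn : 3 ≤ n) (x : PSp n F) (hx : x ≠ 1)
    {l : ℕ} (hl : l.Prime) (hlp : l ≠ p) (h2 : ¬ (p ^ f = 2 ∧ l = 3)) (h3 : ¬ (p ^ f = 3 ∧ l = 2)) :
    l ^ (Nat.card (PSp n F)).factorization l ≤ (centralizer ({x} : Set (PSp n F))).index := by
  have hY : Real (.C n) p f (Nat.card (PSp n F)) := psp_real' hp hf hF (by omega) (by omega)
  have hs : IsSimpleGroup (PSp n F) := Cfsg.Agent.S0270.result n (by omega) fun h2 => absurd h2 (by omega)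
  have hfin : Finite (PSp n F) := Nat.finite_of_card_ne_zero fun h => by
    have := hY.M_ne
    omega
  have hne := cent_ne_top (not_prime hY hn) hx
  obtain ⟨ha, hb, -⟩ := part_le hY hn hl hlp h2 h3
  rcases (hY.q_ge : 2 ≤ p ^ f).eq_or_lt with h | h
  · exact (hb h.symm).trans ((Cfsg.Agent.S2142.result (hF.trans h.symm) n hn).1 _ hne)
  · exact (ha h).trans ((Cfsg.Agent.S2141.result hF n (by omega) h (by omega)).1 _ hne)

/-- G2 for `PΩ(2n + 1, q)` -/
theorem min_odd (hp : p.Prime) (hp2 : p ≠ 2) (hf : 1 ≤ f) (hF : Fintype.card F = p ^ f) (hn : 3 ≤ n)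
    (x : POmega F (quadFormOdd n F)) (hx : x ≠ 1) {l : ℕ} (hl : l.Prime) (hlp : l ≠ p) (h3 : ¬ (p ^ f = 3 ∧ l = 2)) :
    l ^ (Nat.card (POmega F (quadFormOdd n F))).factorization l ≤
      (centralizer ({x} : Set (POmega F (quadFormOdd n F)))).index := by
  have hodd : Odd (p ^ f) := (hp.odd_of_ne_two hp2).pow
  have hY : Real (.C n) p f (Nat.card (POmega F (quadFormOdd n F))) := oodd_real' hp hf hF hn hodd
  have hs : IsSimpleGroup (POmega F (quadFormOdd n F)) := Cfsg.Agent.S0295.result (hF ▸ hodd) n hn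
  have hfin : Finite (POmega F (quadFormOdd n F)) := Nat.finite_of_card_ne_zero fun h => by
    have := hY.M_ne
    omega
  have hne := cent_ne_top (not_prime hY hn) hx
  have h2 : ¬ (p ^ f = 2 ∧ l = 3) := fun h => by
    rw [h.1] at hodd
    exact absurd hodd (by decide)
  obtain ⟨ha, -, hb⟩ := part_le hY hn hl hlp h2 h3
  have hq2 : 2 ≤ p ^ f := hY.q_ge
  by_cases h : p ^ f = 3
  · exact (hb h).trans ((Cfsg.Agent.S2144.result (hF.trans h) n hn).1 _ hne)
  · have h5 : 5 ≤ p ^ f := by rcases hodd with ⟨k, hk⟩; omega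
    exact (ha (by omega)).trans ((Cfsg.Agent.S2143.result hF hodd h5 n hn).1 _ hne)

end Cfsg.Agent.H478.CS.MinSize
end

-- part: H79/CS/OddGeo
section
/-!
# S3677, `lat_odd_odd`: the geometry (helper79)
-/

set_option autoImplicit false
set_option linter.unusedSectionVars false

namespace Cfsg.Agent.H79.CS

open Module Polynomial
open Cfsg.Agent.H951 (Frm Isom Inv Irr fx cm mem_fx mem_cm inv_cm inv_top)
open Cfsg.Agent.H204 (Sy perp mem_perp res coe_res nd_restrict_perp)
open Cfsg.Agent.H524.CS (CI card_split card_line comm_of_irr)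

variable {F V : Type*} [Field F] [Fintype F] [AddCommGroup V] [Module F V] [FiniteDimensional F V]
  {B : LinearMap.BilinForm F V} {s x t : V ≃ₗ[F] V} {r n : ℕ}

/-- the form as a function -/
def bf (B : LinearMap.BilinForm F V) : V → V → F := fun u v => B u v

theorem frm_bf (hs : Sy B) : Frm (RingHom.id F) 1 (bf B) where
  add_left u v w := by simp [bf]
  smul_left a u v := by simp [bf]
  herm u v := by simp [bf, hs u v]
  sigma_sq _ := rfl
  eps_ne := one_ne_zero

/-- the hypotheses -/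
structure OS (B : LinearMap.BilinForm F V) (s : V ≃ₗ[F] V) (r n : ℕ) : Prop where
  sy : Sy B
  nd : Cfsg.Agent.H204.Nd B
  h2 : (2 : F) ≠ 0
  r2 : r ≠ 2
  rF : (r : F) ≠ 0
  odd : Odd n
  ord : orderOf (Fintype.card F : ZMod r) = n
  dim : finrank F V = 2 * n + 1
  isom : ∀ u v, B (s u) (s v) = B u v
  pow : s ^ r = 1
  ne : s ≠ 1

theorem pow_end (s : V ≃ₗ[F] V) (k : ℕ) (v : V) : ((s : End F V) ^ k) v = (s ^ k) v := by
  induction k generalizing v with
  | zero => rfl
  | succ k ih => rw [pow_succ, pow_succ, Module.End.mul_apply, ih]; rfl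

namespace OS

variable (h : OS B s r n)

include h

theorem pow' : (s : End F V) ^ r = 1 := by
  apply LinearMap.ext
  intro v
  rw [pow_end, h.pow]
  rfl

theorem isom' : Isom (bf B) (s : End F V) := fun u v => h.isom u v

theorem nd_top : Cfsg.Agent.H951.Nd (bf B) ⊤ := by
  intro u _ hu0
  by_contra hno
  push Not at hno
  exact hu0 (h.nd u fun v => hno v Submodule.mem_top)

variable [hr : Fact r.Prime]

theorem isCompl : IsCompl (fx (s : End F V)) (cm (s : End F V)) := Cfsg.Agent.H951.isCompl_fx_cm h.rF h.pow'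

theorem even {W' : Submodule F V} (hW : W' ≤ cm (s : End F V)) (hi : _root_.Cfsg.Agent.H951.Inv (s : End F V) W')
    (hn : Cfsg.Agent.H951.Nd (bf B) W') : Even (finrank F W') := by
  refine Cfsg.Agent.H955.even_of_symm (T := s) h.sy h.isom (hr.out.odd_of_ne_two h.r2) h.pow hi ?_ ?_
  · intro u hu hu0
    by_contra hne
    obtain ⟨v, hv, h1⟩ := hn u hu hne
    exact h1 (hu0 v hv)
  · intro w hw h1
    have h3 : w ∈ fx (s : End F V) ⊓ cm (s : End F V) := ⟨mem_fx.2 h1, hW hw⟩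
    rw [h.isCompl.inf_eq_bot, Submodule.mem_bot] at h3
    exact h3

theorem nd_cm : Cfsg.Agent.H951.Nd (bf B) (cm (s : End F V)) := by
  have := h.isom'.nd_inf_cm (frm_bf h.sy) h.rF h.pow' inv_top h.nd_top
  rwa [top_inf_eq] at this

theorem finrank_cm : finrank F (cm (s : End F V)) = 2 * n := by
  have h1 : n ∣ finrank F (cm (s : End F V)) := by
    have := Cfsg.Agent.H951.ord_dvd_finrank h.pow' (inv_cm) (by
      rw [inf_comm]; exact h.isCompl.inf_eq_bot)
    rwa [h.ord] at this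
  have h2 := h.even le_rfl inv_cm h.nd_cm
  have h3 : 2 * n ∣ finrank F (cm (s : End F V)) :=
    Nat.Coprime.mul_dvd_of_dvd_of_dvd (Nat.coprime_two_left.2 h.odd) h2.two_dvd h1
  have h4 : finrank F (cm (s : End F V)) ≤ 2 * n + 1 := h.dim ▸ Submodule.finrank_le _
  have h5 : finrank F (cm (s : End F V)) ≠ 0 := by
    intro h0
    apply h.ne
    apply LinearEquiv.ext
    intro v
    have h6 : s v - v ∈ cm (s : End F V) := mem_cm.2 ⟨v, rfl⟩
    rw [Submodule.finrank_eq_zero.1 h0, Submodule.mem_bot] at h6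
    exact sub_eq_zero.1 h6
  obtain ⟨k, hk⟩ := h3
  have hn := h.odd.pos
  rcases Nat.lt_or_ge k 2 with h7 | h7
  · interval_cases k
    · omega
    · omega
  · have : 2 * n * 2 ≤ 2 * n * k := Nat.mul_le_mul_left _ h7
    omega

theorem hyp : Hyp (bf B) (s : End F V) (cm (s : End F V)) r where
  nd := h.nd_cm
  r2 := h.r2
  rF := h.rF
  odd := by rw [h.ord]; exact h.odd
  dim := by rw [h.ord]; exact h.finrank_cm
  isom := h.isom'
  pow := h.pow'
  inv := inv_cm
  fx := by rw [inf_comm]; exact h.isCompl.inf_eq_bot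
  even _ h1 h2 h3 := h.even h1 h2 h3

theorem nd_restrict : Cfsg.Agent.H204.Nd (B.restrict (cm (s : End F V))) := by
  intro u hu
  by_contra hne
  obtain ⟨v, hv, h1⟩ := h.nd_cm u.1 u.2 (fun h0 => hne (Subtype.ext h0))
  exact h1 (hu ⟨v, hv⟩)

theorem isCompl_perp : IsCompl (cm (s : End F V)) (perp B (cm (s : End F V))) :=
  Cfsg.Agent.H204.isCompl_perp h.sy h.nd_restrict

theorem finrank_perp : finrank F (perp B (cm (s : End F V))) = 1 := by
  have h1 := Submodule.finrank_add_eq_of_isCompl h.isCompl_perp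
  rw [h.finrank_cm, h.dim] at h1
  omega

end OS

section comm

variable (hxi : ∀ u v, B (x u) (x v) = B u v)

theorem inv_cm_of_comm (hxs : ∀ v, x (s v) = s (x v)) : _root_.Cfsg.Agent.H951.Inv (x : End F V) (cm (s : End F V)) := by
  intro v hv
  obtain ⟨w, rfl⟩ := mem_cm.1 hv
  refine mem_cm.2 ⟨x w, ?_⟩
  show s (x w) - x w = x (s w - w)
  rw [map_sub, hxs]

include hxi

theorem inv_perp_of_inv {X : Submodule F V} (hX : _root_.Cfsg.Agent.H951.Inv (x : End F V) X) : _root_.Cfsg.Agent.H951.Inv (x : End F V) (perp B X) :=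
  Cfsg.Agent.H204.inv_perp (fun u v => by rw [one_mul]; exact hxi u v) x.injective hX

theorem inv_of_inv_perp (hs : Sy B) (hn : Cfsg.Agent.H204.Nd B) {X : Submodule F V} (hc : IsCompl X (perp B X))
    (hX : _root_.Cfsg.Agent.H951.Inv (x : End F V) (perp B X)) : _root_.Cfsg.Agent.H951.Inv (x : End F V) X := by
  have h1 := inv_perp_of_inv hxi hX
  have h2 : perp B (perp B X) = X := by
    apply le_antisymm
    · intro v hv
      have h3 : v ∈ X ⊔ perp B X := by rw [hc.sup_eq_top]; trivial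
      obtain ⟨a, ha, b, hb, rfl⟩ := Submodule.mem_sup.1 h3
      have hb0 : b = 0 := by
        apply hn
        intro u
        have h4 : u ∈ X ⊔ perp B X := by rw [hc.sup_eq_top]; trivial
        obtain ⟨c, hc', d, hd, rfl⟩ := Submodule.mem_sup.1 h4
        have e1 : B b c = 0 := by rw [hs]; exact mem_perp.1 hb c hc'
        have e2 : B d (a + b) = 0 := mem_perp.1 hv d hd
        have e3 : B d a = 0 := by rw [hs]; exact mem_perp.1 hd a ha
        rw [map_add, e3, zero_add] at e2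
        rw [map_add, e1, hs b d, e2, add_zero]
      rw [hb0, add_zero]
      exact ha
    · intro v hv
      rw [mem_perp]
      intro u hu
      rw [hs]
      exact mem_perp.1 hu v hv
  rwa [h2] at h1

end comm

namespace OS

variable (h : OS B s r n) [hr : Fact r.Prime]

include h

/-- on the line, everything is a scalar -/
theorem scalar {g : V ≃ₗ[F] V} (hg : _root_.Cfsg.Agent.H951.Inv (g : End F V) (perp B (cm (s : End F V)))) :
    ∃ c : F, ∀ v ∈ perp B (cm (s : End F V)), g v = c • v := by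
  obtain ⟨v, hv0, hv⟩ := finrank_eq_one_iff'.1 h.finrank_perp
  obtain ⟨c, hc⟩ := hv ⟨g v, hg v v.2⟩
  refine ⟨c, fun w hw => ?_⟩
  obtain ⟨d, hd⟩ := hv ⟨w, hw⟩
  have h1 : w = d • (v : V) := (congrArg Subtype.val hd).symm
  have h2 : g v = c • (v : V) := (congrArg Subtype.val hc).symm
  rw [h1, map_smul, h2, smul_comm]

/-- **everything commuting with `s` commutes.** -/
theorem comm (hxi : ∀ u v, B (x u) (x v) = B u v) (hxs : ∀ v, x (s v) = s (x v))
    (hti : ∀ u v, B (t u) (t v) = B u v) (hts : ∀ v, t (s v) = s (t v)) (v : V) : t (x v) = x (t v) := by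
  have hxW := inv_cm_of_comm hxs
  have htW := inv_cm_of_comm hts
  obtain ⟨U, U', f, f', -, D⟩ := h.hyp.exists_dat (frm_bf h.sy)
  have hx' : Commute ((s : End F V).restrict h.hyp.inv) ((x : End F V).restrict hxW) := by
    apply LinearMap.ext
    intro u
    apply Subtype.ext
    exact (hxs u).symm
  have ht' : Commute ((s : End F V).restrict h.hyp.inv) ((t : End F V).restrict htW) := by
    apply LinearMap.ext
    intro u
    apply Subtype.ext
    exact (hts u).symm
  have hW : ∀ u ∈ cm (s : End F V), t (x u) = x (t u) := by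
    intro u hu
    obtain ⟨a, b, hab⟩ := D.pr.exists_add ⟨u, hu⟩
    have e1 : ∀ {T : Submodule F (cm (s : End F V))}, Irr ((s : End F V).restrict h.hyp.inv) T →
        _root_.Cfsg.Agent.H951.Inv ((x : End F V).restrict hxW) T → _root_.Cfsg.Agent.H951.Inv ((t : End F V).restrict htW) T → ∀ a ∈ T,
        t (x (a : V)) = x (t (a : V)) := by
      intro T hT h1 h2 a ha
      have h3 := comm_of_irr hT (a := (t : End F V).restrict htW) (b := (x : End F V).restrict hxW)
        (fun v => (LinearMap.congr_fun ht'.eq v).symm) (fun v => (LinearMap.congr_fun hx'.eq v).symm) h2 h1 ha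
      exact congrArg Subtype.val h3
    have ea := e1 D.irr (inv_of_ker hx' D.ker) (inv_of_ker ht' D.ker) a a.2
    have eb := e1 D.irr' (inv_of_ker hx' D.ker') (inv_of_ker ht' D.ker') b b.2
    have e2 : u = ((a : cm (s : End F V)) : V) + ((b : cm (s : End F V)) : V) := congrArg Subtype.val hab
    rw [e2, map_add, map_add, map_add, map_add, ea, eb]
  have hxL := inv_perp_of_inv hxi hxW
  have htL := inv_perp_of_inv hti htW
  obtain ⟨c, hc⟩ := h.scalar hxL
  obtain ⟨d, hd⟩ := h.scalar htL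
  obtain ⟨a, b, rfl⟩ := Cfsg.Agent.H204.exists_add h.isCompl_perp v
  rw [map_add, map_add, map_add, map_add, hW a a.2, hc b b.2, hd b b.2, map_smul, map_smul, hc b b.2, hd b b.2,
    smul_comm]

/-- **reduction to `W`.** -/
theorem card_red (hxi : ∀ u v, B (x u) (x v) = B u v) (hxs : ∀ v, x (s v) = s (x v))
    (hfix : ∃ v, v ≠ 0 ∧ x v = v) (hW : ∀ v ∈ cm (s : End F V), x v = v → v = 0) :
    Nat.card (CI B (x : End F V)) =
      Nat.card (CI (B.restrict (cm (s : End F V))) (res (x : End F V) (inv_cm_of_comm hxs))) * 2 := by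
  have hxW := inv_cm_of_comm hxs
  have hxL := inv_perp_of_inv hxi hxW
  obtain ⟨c, hc⟩ := h.scalar hxL
  -- fixed vectors lie on the line
  have hfx : ∀ v, x v = v → v ∈ perp B (cm (s : End F V)) := by
    intro v hv
    obtain ⟨a, b, rfl⟩ := Cfsg.Agent.H204.exists_add h.isCompl_perp v
    rw [map_add] at hv
    have h1 : x a - (a : V) = (b : V) - x b := by
      rw [sub_eq_sub_iff_add_eq_add, hv, add_comm]
    have h3 : x a - (a : V) ∈ cm (s : End F V) ⊓ perp B (cm (s : End F V)) := by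
      refine ⟨Submodule.sub_mem _ (hxW a a.2) a.2, ?_⟩
      rw [SetLike.mem_coe, h1]
      exact Submodule.sub_mem _ b.2 (hxL b b.2)
    rw [h.isCompl_perp.inf_eq_bot, Submodule.mem_bot, sub_eq_zero] at h3
    rw [hW a a.2 h3, zero_add]
    exact b.2
  obtain ⟨v0, hv0, hxv0⟩ := hfix
  have hv0L := hfx v0 hxv0
  have hc1 : c = 1 := by
    have h1 := hc v0 hv0L
    rw [hxv0] at h1
    have h2 : (c - 1) • v0 = 0 := by rw [sub_smul, ← h1, one_smul, sub_self]
    exact sub_eq_zero.1 ((smul_eq_zero.1 h2).resolve_right hv0)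
  have hfx' : ∀ v ∈ perp B (cm (s : End F V)), x v = v := by
    intro v hv
    rw [hc v hv, hc1, one_smul]
  have hpres : ∀ g : CI B (x : End F V), _root_.Cfsg.Agent.H951.Inv (g.1 : End F V) (cm (s : End F V)) ∧
      _root_.Cfsg.Agent.H951.Inv (g.1 : End F V) (perp B (cm (s : End F V))) := by
    rintro ⟨g, hg, hgx⟩
    have h1 : _root_.Cfsg.Agent.H951.Inv (g : End F V) (perp B (cm (s : End F V))) := by
      intro v hv
      apply hfx
      show x (g v) = g v
      rw [show x (g v) = g (x v) from (hgx v).symm, hfx' v hv]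
    exact ⟨inv_of_inv_perp hg h.sy h.nd h.isCompl_perp h1, h1⟩
  rw [card_split h.sy h.isCompl_perp hxW hxL hpres,
    card_line h.h2 (nd_restrict_perp h.sy h.nd h.isCompl_perp.sup_eq_top) h.finrank_perp]

/-- **The centralizer of `s`.** -/
theorem card_s : Nat.card (CI B (s : End F V)) = (Nat.card F ^ n - 1) * 2 := by
  rw [h.card_red h.isom (fun _ => rfl)]
  · congr 1
    have h1 := h.hyp.card_self (frm_bf h.sy)
    rw [h.ord] at h1
    exact h1
  · -- a vector on the line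
    obtain ⟨v, hv0, hv⟩ := finrank_eq_one_iff'.1 h.finrank_perp
    refine ⟨v, fun h0 => hv0 (Subtype.ext h0), ?_⟩
    have h1 := v.2
    have h3 : (s v : V) - v ∈ cm (s : End F V) ⊓ perp B (cm (s : End F V)) :=
      ⟨mem_cm.2 ⟨v, rfl⟩, Submodule.sub_mem _ (inv_perp_of_inv h.isom (inv_cm_of_comm fun _ => rfl) v h1) h1⟩
    rw [h.isCompl_perp.inf_eq_bot, Submodule.mem_bot, sub_eq_zero] at h3
    exact h3
  · intro v hv h1
    have h3 : v ∈ fx (s : End F V) ⊓ cm (s : End F V) := ⟨mem_fx.2 h1, hv⟩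
    rw [h.isCompl.inf_eq_bot, Submodule.mem_bot] at h3
    exact h3

end OS

end Cfsg.Agent.H79.CS
end

-- part: H79/CS/OddAr
section
/-!
# S3677, `lat_odd_odd`: arithmetic (helper79)
-/

set_option autoImplicit false
set_option linter.unusedSectionVars false
set_option linter.unusedVariables false

namespace Cfsg.Agent.H79.CS

theorem glc_eq {Q : ℕ} (m : ℕ) :
    glc Q m = Q ^ (m * (m - 1) / 2) * ∏ i ∈ Finset.range m, (Q ^ (m - i) - 1) := by
  rw [← Finset.sum_range_id, ← Finset.prod_pow_eq_pow_sum, ← Finset.prod_mul_distrib, glc]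
  refine Finset.prod_congr rfl fun i hi => ?_
  have hi' := Finset.mem_range.1 hi
  rw [Nat.mul_sub, mul_one, ← pow_add, Nat.add_sub_cancel' hi'.le]

variable {p f : ℕ}

theorem not_dvd_pow_sub (hp : p.Prime) (hf : 1 ≤ f) {k : ℕ} (hk : 1 ≤ k) : ¬ p ∣ (p ^ f) ^ k - 1 := by
  intro h
  have hpf : p ∣ (p ^ f) ^ k := by
    rw [← pow_mul]
    exact dvd_pow_self p (by positivity)
  have h3 : p ∣ (p ^ f) ^ k - ((p ^ f) ^ k - 1) := Nat.dvd_sub hpf h
  rw [Nat.sub_sub_self (Nat.one_le_pow _ _ (pow_pos hp.pos _))] at h3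
  exact hp.one_lt.ne' (Nat.dvd_one.1 h3)

theorem glc_ne (hp : p.Prime) (hf : 1 ≤ f) {k m : ℕ} (hk : 1 ≤ k) : glc ((p ^ f) ^ k) m ≠ 0 := by
  rw [glc_eq]
  refine mul_ne_zero (pow_ne_zero _ (pow_ne_zero _ (pow_ne_zero _ hp.pos.ne'))) ?_
  rw [Finset.prod_ne_zero_iff]
  intro i hi h
  apply not_dvd_pow_sub hp hf (k := k * (m - i)) (Nat.mul_pos hk (by have := Finset.mem_range.1 hi; omega))
  rw [pow_mul, h]
  exact dvd_zero p

theorem factorization_glc (hp : p.Prime) (hf : 1 ≤ f) {k m : ℕ} (hk : 1 ≤ k) :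
    (glc ((p ^ f) ^ k) m).factorization p = f * (k * (m * (m - 1) / 2)) := by
  have h0 := glc_ne hp hf (m := m) hk
  rw [glc_eq] at h0 ⊢
  have h1 : ¬ p ∣ ∏ i ∈ Finset.range m, (((p ^ f) ^ k) ^ (m - i) - 1) := by
    rw [hp.prime.dvd_finsetProd_iff]
    rintro ⟨i, hi, h⟩
    rw [← pow_mul] at h
    exact not_dvd_pow_sub hp hf (Nat.mul_pos hk (by have := Finset.mem_range.1 hi; omega)) h
  rw [Nat.factorization_mul (left_ne_zero_of_mul h0) (right_ne_zero_of_mul h0), Finsupp.add_apply,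
    Nat.factorization_eq_zero_of_not_dvd h1, add_zero, ← pow_mul, ← pow_mul, Nat.Prime.factorization_pow hp,
    Finsupp.single_eq_same]

section

variable {n r N : ℕ} (hp : p.Prime) (hf : 1 ≤ f) (hn : 3 ≤ n)
  (hN : 2 * N = (p ^ f) ^ (n ^ 2) * ∏ i ∈ Finset.range n, ((p ^ f) ^ (2 * (i + 1)) - 1))

include hp hf hn hN

theorem fac_N (hp2 : p ≠ 2) : N.factorization p = f * n ^ 2 := by
  have h1 : ¬ p ∣ ∏ i ∈ Finset.range n, ((p ^ f) ^ (2 * (i + 1)) - 1) := by
    rw [hp.prime.dvd_finsetProd_iff]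
    rintro ⟨i, hi, h⟩
    exact not_dvd_pow_sub hp hf (by omega) h
  have h0 : ∏ i ∈ Finset.range n, ((p ^ f) ^ (2 * (i + 1)) - 1) ≠ 0 := fun h => h1 (by rw [h]; exact dvd_zero p)
  have hN0 : N ≠ 0 := by
    rintro rfl
    rw [mul_zero] at hN
    exact (mul_ne_zero (pow_ne_zero _ (pow_ne_zero _ hp.pos.ne')) h0) hN.symm
  have h2 : (2 * N).factorization p =
      ((p ^ f) ^ (n ^ 2) * ∏ i ∈ Finset.range n, ((p ^ f) ^ (2 * (i + 1)) - 1)).factorization p := by rw [hN]
  rw [Nat.factorization_mul two_ne_zero hN0, Finsupp.add_apply, Nat.factorization_eq_zero_of_not_dvd (n := 2),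
    zero_add, Nat.factorization_mul (pow_ne_zero _ (pow_ne_zero _ hp.pos.ne')) h0, Finsupp.add_apply,
    Nat.factorization_eq_zero_of_not_dvd h1, add_zero, ← pow_mul, Nat.Prime.factorization_pow hp,
    Finsupp.single_eq_same] at h2
  · exact h2
  · intro h
    exact hp2 ((Nat.prime_dvd_prime_iff_eq hp Nat.prime_two).1 h)

theorem two_dvd_pow_sub (hp2 : p ≠ 2) : 2 * (((p ^ f) ^ n - 1) / 2) = (p ^ f) ^ n - 1 := by
  apply Nat.mul_div_cancel'
  have hodd : Odd ((p ^ f) ^ n) := ((hp.odd_of_ne_two hp2).pow).pow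
  obtain ⟨k, hk⟩ := hodd
  rw [hk]
  exact ⟨k, by omega⟩

variable (hr : r.Prime) (hodd : Odd n) (ho : orderOf (((p ^ f : ℕ)) : ZMod r) = n)

include hr hodd ho

theorem r_dvd (k : ℕ) (hk : 1 ≤ k) : r ∣ (p ^ f) ^ k - 1 ↔ n ∣ k := by
  have h1 : r ∣ (p ^ f) ^ k - 1 ↔ (((p ^ f : ℕ)) : ZMod r) ^ k = 1 := by
    rw [← ZMod.natCast_eq_zero_iff, Nat.cast_sub (Nat.one_le_pow _ _ (pow_pos hp.pos _)), Nat.cast_one,
      Nat.cast_pow, sub_eq_zero]
  rw [h1, ← orderOf_dvd_iff_pow_eq_one, ho]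

theorem r_ne_two : r ≠ 2 := by
  rintro rfl
  have h1 : (((p ^ f : ℕ)) : ZMod 2) = 0 ∨ (((p ^ f : ℕ)) : ZMod 2) = 1 := by
    generalize (((p ^ f : ℕ)) : ZMod 2) = y
    revert y; decide
  rcases h1 with h | h
  · rw [h] at ho
    have : (0 : ZMod 2) ^ n = 1 := by rw [← ho]; exact pow_orderOf_eq_one _
    rw [zero_pow (by omega)] at this
    exact absurd this (by decide)
  · rw [h, orderOf_one] at ho
    omega

theorem r_ne_p : r ≠ p := by
  rintro rfl
  have h1 : (((r ^ f : ℕ)) : ZMod r) = 0 := by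
    rw [ZMod.natCast_eq_zero_iff]
    exact dvd_pow_self r (by omega)
  have : (((r ^ f : ℕ)) : ZMod r) ^ n = 1 := by rw [← ho]; exact pow_orderOf_eq_one _
  have hr' : Fact r.Prime := ⟨hr⟩
  rw [h1, zero_pow (by omega)] at this
  exact zero_ne_one this

theorem full_N (hp2 : p ≠ 2) : r ∣ N ∧ r ^ (N.factorization r) ∣ ((p ^ f) ^ n - 1) / 2 := by
  have hr2 := r_ne_two hp hf hn hN hr hodd ho
  have hrp := r_ne_p hp hf hn hN hr hodd ho
  have hd := r_dvd hp hf hn hN hr hodd ho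
  have h2 := two_dvd_pow_sub (p := p) (f := f) (n := n) hp hf hn hN hp2
  have hc2 : Nat.Coprime r 2 := (Nat.coprime_primes hr Nat.prime_two).2 hr2
  have hN0 : N ≠ 0 := by
    intro h
    have := fac_N hp hf hn hN hp2
    rw [h, Nat.factorization_zero, Finsupp.coe_zero, Pi.zero_apply] at this
    have : 0 < f * n ^ 2 := by positivity
    omega
  obtain ⟨k, hk⟩ : ∃ k, n = k + 1 := ⟨n - 1, by omega⟩
  have hsq : (p ^ f) ^ (2 * (k + 1)) - 1 = ((p ^ f) ^ n + 1) * ((p ^ f) ^ n - 1) := by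
    have h3 : ((p ^ f) ^ n) ^ 2 - 1 ^ 2 = ((p ^ f) ^ n + 1) * ((p ^ f) ^ n - 1) := Nat.sq_sub_sq _ _
    rw [← h3, one_pow, hk, mul_comm 2 (k + 1), pow_mul]
  have hN' : 2 * N = ((p ^ f) ^ (n ^ 2) * (∏ i ∈ Finset.range k, ((p ^ f) ^ (2 * (i + 1)) - 1)) *
      ((p ^ f) ^ n + 1)) * ((p ^ f) ^ n - 1) := by
    have e : Finset.range n = Finset.range (k + 1) := by rw [hk]
    rw [hN, e, Finset.prod_range_succ, hsq]
    ring
  have hrn : r ∣ (p ^ f) ^ n - 1 := (hd n (by omega)).2 dvd_rfl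
  have hcop : Nat.Coprime r ((p ^ f) ^ (n ^ 2) * (∏ i ∈ Finset.range k, ((p ^ f) ^ (2 * (i + 1)) - 1)) *
      ((p ^ f) ^ n + 1)) := by
    rw [Nat.Prime.coprime_iff_not_dvd hr]
    intro h
    rcases hr.dvd_mul.1 h with h | h
    · rcases hr.dvd_mul.1 h with h | h
      · exact hrp ((Nat.prime_dvd_prime_iff_eq hr hp).1 (hr.dvd_of_dvd_pow (hr.dvd_of_dvd_pow h)))
      · rw [hr.prime.dvd_finsetProd_iff] at h
        obtain ⟨i, hi, h⟩ := h
        have h3 := (hd _ (by omega)).1 h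
        have h4 : n ∣ i + 1 := (Nat.Coprime.dvd_mul_left (Nat.coprime_comm.1 (Nat.coprime_two_left.2 hodd))).1 h3
        have := Nat.le_of_dvd (by omega) h4
        have := Finset.mem_range.1 hi
        omega
    · have h3 : r ∣ ((p ^ f) ^ n + 1) - ((p ^ f) ^ n - 1) := Nat.dvd_sub h hrn
      have h4 : ((p ^ f) ^ n + 1) - ((p ^ f) ^ n - 1) = 2 := by
        have := Nat.one_le_pow n (p ^ f) (pow_pos hp.pos _)
        (clear * - this; omega)
      rw [h4] at h3
      exact hr2 ((Nat.prime_dvd_prime_iff_eq hr Nat.prime_two).1 h3)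
  constructor
  · have h3 : r ∣ 2 * N := by rw [hN']; exact hrn.mul_left _
    exact (Nat.Coprime.dvd_mul_left hc2).1 h3
  · have h3 : r ^ (N.factorization r) ∣ 2 * N := (Nat.ordProj_dvd N r).mul_left 2
    rw [hN'] at h3
    have h4 := (Nat.Coprime.dvd_mul_left (hcop.pow_left _)).1 h3
    rw [← h2] at h4
    exact (Nat.Coprime.dvd_mul_left (hc2.pow_left _)).1 h4

end

end Cfsg.Agent.H79.CS
end

-- part: H79/CS/OddLat
section
/-!
# S3677, `lat_odd_odd` (helper79)

`POmega_{2n+1}(q)`, `q` odd, `n ≥ 3` odd, `r` of order `n`.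
-/

set_option autoImplicit false
set_option linter.unusedSectionVars false

namespace Cfsg.Agent.H79.CS

open Module QuadraticMap Cfsg
open Cfsg.Agent.H951 (Inv cm mem_fx mem_cm)
open Cfsg.Agent.H204 (Sy perp mem_perp res coe_res nd_restrict_perp)
open Cfsg.Agent.H524.CS
open Cfsg.Agent.LieClassical.OrthFinite Cfsg.Agent.LieClassical.OrthForms Cfsg.Agent.LieClassical.OrthCore
open Cfsg.Agent.ClassicalGeometry.SpinorSign Cfsg.Agent.ClassicalGeometry.OmegaIndex
open Cfsg.Agent.H370.AAM Cfsg.Agent.H431.CS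

section

variable {F : Type*} [Field F] [Fintype F] {ι : Type} [Fintype ι] [DecidableEq ι] {Q : QuadraticForm F (ι → F)}
  {r n : ℕ}

/-- the situation -/
structure Sit (Q : QuadraticForm F (ι → F)) (r n : ℕ) : Prop where
  nd : (polarBilin Q).Nondegenerate
  h2 : (2 : F) ≠ 0
  pr : r.Prime
  r2 : r ≠ 2
  rF : (r : F) ≠ 0
  odd : Odd n
  three : 3 ≤ n
  ord : orderOf (Fintype.card F : ZMod r) = n
  dim : Fintype.card ι = 2 * n + 1

variable (h : Sit Q r n)

include h

theorem Sit.os {y : Omega F ⇑Q} (hy : orderOf y = r) : OS (polarBilin Q) (ie Q y.1) r n where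
  sy := sy_polar Q
  nd := fun u hu => h.nd.1 u hu
  h2 := h.h2
  r2 := h.r2
  rF := h.rF
  odd := h.odd
  ord := h.ord
  dim := by rw [Module.finrank_fintype_fun_eq_card, h.dim]
  isom := ie_B y.1
  pow := by
    rw [← map_pow, ← Subgroup.coe_pow, ← hy, pow_orderOf_eq_one, Subgroup.coe_one, map_one]
  ne := by
    intro h1
    have h2 : y.1 = 1 := isometryHom_injective Q (by rw [map_one]; exact h1)
    have h3 : y = 1 := Subtype.ext h2
    rw [h3, orderOf_one] at hy
    exact h.pr.one_lt.ne hy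

theorem Sit.det {x : Omega F ⇑Q} : LinearMap.det (ie Q x.1 : End F (ι → F)) = 1 := by
  rw [det_ie]
  exact ((mem_Omega_iff h.h2 Q h.nd (by rw [h.dim]; have := h.three; omega) one_ne_zero x.1).1 x.2).1

theorem Sit.comm' {x y : Omega F ⇑Q} (hxy : Commute y x) (v : ι → F) :
    ie Q x.1 (ie Q y.1 v) = ie Q y.1 (ie Q x.1 v) := by
  have h1 : x.1 * y.1 = y.1 * x.1 := congrArg Subtype.val hxy.eq.symm
  have h2 := congrArg (fun k => ie Q k v) h1
  simp only [map_mul] at h2
  exact h2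

theorem Sit.card4 {x y : Omega F ⇑Q} (hy : orderOf y = r) (hxy : Commute y x) :
    Nat.card (CI (polarBilin Q) (ie Q x.1 : End F (ι → F))) =
      4 * Nat.card (Subgroup.centralizer ({x} : Set (Omega F ⇑Q))) := by
  have hr : Fact r.Prime := ⟨h.pr⟩
  have os := h.os hy
  have hodd : Odd (Fintype.card ι) := by rw [h.dim]; exact ⟨n, rfl⟩
  have h3 : 3 ≤ Fintype.card ι := by rw [h.dim]; have := h.three; omega
  obtain ⟨t, ht1, ht2, ht3⟩ := exists_t (x := x.1) (s := y.1) h.h2 h.nd (h.pr.odd_of_ne_two h.r2) h.rF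
    (by rw [← Subgroup.coe_pow, ← hy, pow_orderOf_eq_one, Subgroup.coe_one])
    (fun h1 => os.ne (by rw [h1, map_one]))
    (fun t ht hts v => by
      have hinj : Function.Injective t := by
        rw [← LinearMap.ker_eq_bot, LinearMap.ker_eq_bot']
        intro u hu
        apply h.nd.1
        intro v
        rw [← ht, hu, map_zero, LinearMap.zero_apply]
      exact os.comm (x := ie Q x.1) (t := LinearEquiv.ofInjectiveEndo t hinj) (ie_B x.1) (h.comm' hxy) ht hts v)
  exact card_omega h.h2 h.nd hodd h3 x ht1 ht2 ht3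

/-- elements of order `r` -/
theorem Sit.cent_y {y : Omega F ⇑Q} (hy : orderOf y = r) :
    2 * Nat.card (Subgroup.centralizer ({y} : Set (Omega F ⇑Q))) = Nat.card F ^ n - 1 := by
  have hr : Fact r.Prime := ⟨h.pr⟩
  have h1 := h.card4 hy (Commute.refl y)
  rw [(h.os hy).card_s] at h1
  omega

theorem Sit.det_split {y : Omega F ⇑Q} (hy : orderOf y = r) {x : (ι → F) ≃ₗ[F] (ι → F)}
    (hx : ∀ v ∈ cm (ie Q y.1 : End F (ι → F)), x v = v) {c : F}
    (hc : ∀ v ∈ perp (polarBilin Q) (cm (ie Q y.1 : End F (ι → F))), x v = c • v) :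
    LinearMap.det (x : End F (ι → F)) = c := by
  have hr : Fact r.Prime := ⟨h.pr⟩
  have os := h.os hy
  have h1 : (x : End F (ι → F)) = Cfsg.Agent.H204.glue os.isCompl_perp 1 (c • 1) := by
    apply LinearMap.ext
    intro v
    obtain ⟨a, b, rfl⟩ := Cfsg.Agent.H204.exists_add os.isCompl_perp v
    rw [Cfsg.Agent.H204.glue_add]
    show x (a + b) = _
    rw [map_add, hx a a.2, hc b b.2]
    rfl
  rw [h1, Cfsg.Agent.H204.det_glue, map_one, one_mul, LinearMap.det_smul, os.finrank_perp, pow_one, map_one, mul_one]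

/-- **The classification.** -/
theorem Sit.classes {p f : ℕ} (hp : p.Prime) (hf : 1 ≤ f) (hF : Fintype.card F = p ^ f) {x y : Omega F ⇑Q}
    (hx1 : x ≠ 1) (hxy : Commute y x) (hy : orderOf y = r) :
    (∃ A, ¬ p ∣ A ∧ Nat.card (Subgroup.centralizer ({x} : Set (Omega F ⇑Q))) = (p ^ f) ^ (n * (n - 1)) * A) ∨
      ∃ k m, k * m = n ∧ 2 * Nat.card (Subgroup.centralizer ({x} : Set (Omega F ⇑Q))) = glc ((p ^ f) ^ k) m := by
  have hr : Fact r.Prime := ⟨h.pr⟩
  have os := h.os hy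
  have h4 := h.card4 hy hxy
  have hxi := ie_B x.1
  have hxs := h.comm' hxy
  have hxW := inv_cm_of_comm hxs
  have hxL := inv_perp_of_inv hxi hxW
  have hcomm : Commute (ie Q x.1 : End F (ι → F)) (ie Q y.1 : End F (ι → F)) := LinearMap.ext hxs
  have hfix := exists_fixed (D := ι → F) (B := polarBilin Q) (by rw [os.dim]; exact ⟨n, rfl⟩) h.h2
    (fun u hu => h.nd.1 u hu) (f := (ie Q x.1 : End F (ι → F))) hxi h.det
  rcases os.hyp.tri (frm_bf os.sy) (x := (ie Q x.1 : End F (ι → F))) (fun u v => hxi u v) hcomm hxW with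
    h1 | h1 | ⟨h1, -, k, m, hk, hkm, hcard⟩
  · exfalso
    obtain ⟨c, hc⟩ := os.scalar hxL
    have h5 := h.det_split hy h1 hc
    rw [h.det] at h5
    apply hx1
    apply Subtype.ext
    apply isometryHom_injective Q
    rw [Subgroup.coe_one, map_one]
    apply LinearEquiv.ext
    intro v
    obtain ⟨a, b, rfl⟩ := Cfsg.Agent.H204.exists_add os.isCompl_perp v
    show ie Q x.1 (a + b) = a + b
    rw [map_add, hc b b.2, ← h5, one_smul]
    congr 1
    exact h1 a a.2
  · left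
    have h5 := os.card_red hxi hxs hfix (fun v hv hv1 => by
      have h6 := h1 v hv
      change ie Q x.1 v = -v at h6
      rw [hv1] at h6
      have h7 : (2 : F) • v = 0 := by
        rw [two_smul]
        nth_rewrite 2 [h6]
        exact add_neg_cancel v
      exact (smul_eq_zero.1 h7).resolve_left h.h2)
    have h6 : Nat.card (CI (LinearMap.BilinForm.restrict (polarBilin Q) (cm (ie Q y.1 : End F (ι → F))))
        (res (ie Q x.1 : End F (ι → F)) (inv_cm_of_comm hxs))) =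
        Nat.card {g : (cm (ie Q y.1 : End F (ι → F))) ≃ₗ[F] (cm (ie Q y.1 : End F (ι → F))) // ∀ u v,
          polarBilin (Q.comp (cm (ie Q y.1 : End F (ι → F))).subtype) (g u) (g v) =
            polarBilin (Q.comp (cm (ie Q y.1 : End F (ι → F))).subtype) u v} := by
      refine Nat.card_congr (Equiv.subtypeEquivRight fun g => ⟨fun h7 => h7.1, fun h7 => ⟨h7, fun v => ?_⟩⟩)
      apply Subtype.ext
      have e1 := h1 v v.2
      have e2 := h1 (g v) (g v).2
      have e3 : res (ie Q x.1 : End F (ι → F)) (inv_cm_of_comm hxs) v = -v := Subtype.ext e1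
      have e4 : res (ie Q x.1 : End F (ι → F)) (inv_cm_of_comm hxs) (g v) = - (g v) := Subtype.ext e2
      rw [e3, e4, map_neg]
    obtain ⟨A, hA, hA2⟩ := card_even h.h2 hp hf (by rw [Nat.card_eq_fintype_card, hF]) (by have := h.three; omega)
      os.finrank_cm (Q.comp (cm (ie Q y.1 : End F (ι → F))).subtype) (by
        intro u hu
        exact os.nd_restrict u fun v => hu v)
    refine ⟨A, hA, ?_⟩
    rw [h6, hA2, h4] at h5
    omega
  · right
    refine ⟨k, m, by rw [hkm, h.ord], ?_⟩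
    have h5 := os.card_red hxi hxs hfix h1
    have h6 : Nat.card (CI (LinearMap.BilinForm.restrict (polarBilin Q) (cm (ie Q y.1 : End F (ι → F))))
        (res (ie Q x.1 : End F (ι → F)) (inv_cm_of_comm hxs))) = glc (Nat.card F ^ k) m := hcard
    have e : Nat.card F = p ^ f := by rw [Nat.card_eq_fintype_card, hF]
    rw [h6, h4, e] at h5
    omega

end

theorem _root_.Cfsg.Agent.H431.CS.Lat.of_eq {S T : Type*} [Group S] [Group T] {p r m : ℕ} (hco : Co S = Co T)
    (hc : Nat.card S = Nat.card T) (h : Lat S p r m) : Lat T p r m := by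
  obtain ⟨h1, h2, h3, h4, h5, h6, h7, h8⟩ := h
  rw [hco] at h2 h3 h6 h7 h8
  rw [hc] at h1 h4 h6 h7 h8
  exact ⟨h1, h2, h3, h4, h5, h6, h7, h8⟩

/-- **`PΩ_{2n+1}(q)`, `q` odd, `n ≥ 3` odd, `r` of order `n`.** -/
theorem lat_odd_odd {F : Type*} [Field F] [Fintype F] {p f n r : ℕ} (hp : p.Prime) (hp2 : p ≠ 2) (hf : 1 ≤ f)
    (hF : Fintype.card F = p ^ f) (hn : 3 ≤ n) (hodd : Odd n) (hr : r.Prime)
    (ho : orderOf (((p ^ f : ℕ)) : ZMod r) = n) :
    Lat (POmega F (quadFormOdd n F)) p r (((p ^ f) ^ n - 1) / 2) := by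
  have h2 : (2 : F) ≠ 0 := Cfsg.Agent.LieClassical.PomegaCard.odd_card_iff.1 (by rw [hF]; exact (hp.odd_of_ne_two hp2).pow)
  have hN := Cfsg.Agent.S0292.result (F := F) (q := p ^ f) hF ((hp.odd_of_ne_two hp2).pow) n hn
  rw [← coe_oddForm] at hN ⊢
  have hnd : (polarBilin (oddForm n F)).Nondegenerate := by
    have h3 := nondeg_oddForm n F h2
    exact ⟨fun u hu => h3 u hu, fun u hu => h3 u fun v => by rw [polar_comm]; exact hu v⟩
  have hcard : Fintype.card (Unit ⊕ (Fin n ⊕ Fin n)) = 2 * n + 1 := by simp only [_root_.Fintype.card_sum, _root_.Fintype.card_unique, _root_.Fintype.card_fin]; omega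
  have hr2 := r_ne_two hp hf hn hN hr hodd ho
  have hrp := r_ne_p hp hf hn hN hr hodd ho
  have hchar : CharP F p := by
    obtain ⟨l, hl⟩ := CharP.exists F
    obtain ⟨k, hlp, hk⟩ := FiniteField.card F l
    have h3 : p = l := by
      rw [hF] at hk
      exact (Nat.prime_dvd_prime_iff_eq hp hlp).1 (hp.dvd_of_dvd_pow (n := (k : ℕ)) (by
        rw [← hk]; exact dvd_pow_self p (by omega)))
    rw [h3]; exact hl
  have hS : Sit (oddForm n F) r n := ⟨hnd, h2, hr, hr2, by
    intro h0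
    have h3 : p ∣ r := (CharP.cast_eq_zero_iff F p r).1 h0
    exact hrp ((Nat.prime_dvd_prime_iff_eq hp hr).1 h3).symm, hodd, hn, by rw [hF]; exact ho, hcard⟩
  have hco := co_pomega h2 hnd (by rw [hcard]; exact ⟨n, rfl⟩) (by omega)
  have hpc := card_pomega h2 hnd (by rw [hcard]; exact ⟨n, rfl⟩) (by omega)
  refine Cfsg.Agent.H431.CS.Lat.of_eq hco.symm hpc.symm ?_
  rw [hpc] at hN
  obtain ⟨hf1, hf2⟩ := full_N hp hf hn hN hr hodd ho hp2
  have h2M := two_dvd_pow_sub (p := p) (f := f) (n := n) hp hf hn hN hp2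
  refine lat_of hp hp2 hf (by omega : 2 ≤ n) hr (fac_N hp hf hn hN hp2) hf1 hf2 ?_ (fun k m => glc ((p ^ f) ^ k) m) ?_ ?_
    ?_ ?_ ?_
  · intro h3
    exact not_dvd_pow_sub hp hf (k := n) (by omega) (by rw [← h2M]; exact h3.mul_left 2)
  · intro k m hkm
    exact glc_ne hp hf (Nat.pos_of_ne_zero (by rintro rfl; omega))
  · intro k m hkm
    exact factorization_glc hp hf (Nat.pos_of_ne_zero (by rintro rfl; omega))
  · intro y hy
    have h3 := hS.cent_y hy
    rw [Nat.card_eq_fintype_card (α := F), hF, ← h2M] at h3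
    omega
  · show glc ((p ^ f) ^ n) 1 = _
    rw [glc_one, h2M]
  · intro x y hx1 hxy hy
    exact hS.classes hp hf hF hx1 hxy hy

end Cfsg.Agent.H79.CS
end

-- part: H221/CS/Hyps
section
/-!
# S3677, rows `PSp(2n, q)` and `PΩ(2n + 1, q)`: the hypotheses (helper221)
-/

set_option autoImplicit false
set_option linter.unusedSectionVars false

namespace Cfsg.Agent.H221.CS

open Subgroup Cfsg Cfsg.Agent.H364 Cfsg.Agent.H902 Cfsg.Agent.H902.Art Cfsg.Agent.H902.Lte

universe u v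

theorem p_dvd {n p f M : ℕ} (hY : Real (.C n) p f M) (hn : 3 ≤ n) : p ∣ M := by
  have h1 := fac_self hY
  have h2 : 0 < M.factorization p := by
    rw [h1]
    exact Nat.mul_pos hY.hf (show 0 < n ^ 2 by positivity)
  exact Nat.dvd_of_factorization_pos h2.ne'

/-- the common part -/
theorem rowHyp_of {G : Type u} [Group G] [Finite G] {L : Type v} [Group L] [Finite L] {n p f : ℕ} (h : H431.CS.Same G L)
    (hn : 3 ≤ n) (hY : Real (.C n) p f (Nat.card L))
    (htop : ∀ r : ℕ, r.Prime → orderOf ((p ^ f : ℕ) : ZMod r) = 2 * n →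
      H431.CS.Lat L p r (((p ^ f) ^ n + 1) / Nat.gcd 2 (p ^ f - 1)))
    (hodd : Odd n → ∀ r : ℕ, r.Prime → orderOf ((p ^ f : ℕ) : ZMod r) = n →
      H431.CS.Lat L p r (((p ^ f) ^ n - 1) / Nat.gcd 2 (p ^ f - 1)))
    (hctr : ∀ l : ℕ, l.Prime → ∃ c ∈ H370.AAM.Co L, ¬ l ∣ c)
    (hmin : ∀ x : L, x ≠ 1 → ∀ l : ℕ, l.Prime → l ≠ p → ¬ (p ^ f = 2 ∧ l = 3) → ¬ (p ^ f = 3 ∧ l = 2) →
      l ^ (Nat.card L).factorization l ≤ (centralizer ({x} : Set L)).index) : RowHyp G n p f where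
  hn := hn
  hY := h.card ▸ hY
  top := fun r hr ho => Tor.of_lat (htop r hr ho) hr hY.hp (ne_p_of_class hY.hf hr (by omega) ho) h (p_dvd hY hn)
  odd := fun ho' r hr ho => Tor.of_lat (hodd ho' r hr ho) hr hY.hp (ne_p_of_class hY.hf hr hn ho) h (p_dvd hY hn)
  ctr := fun l hl => by
    obtain ⟨c, hc, hlc⟩ := hctr l hl
    obtain ⟨g, hg⟩ := h.exists_of_mem hc
    exact ⟨g, hg ▸ hlc⟩
  minc := fun x hx l hl hlp h2 h3 => by
    obtain ⟨y, hy⟩ := exists_index h x
    rw [hy] at hx ⊢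
    rw [h.card]
    refine hmin y ?_ l hl hlp h2 h3
    rintro rfl
    apply hx
    rw [Subgroup.index_eq_one, eq_top_iff]
    intro z _
    rw [Subgroup.mem_centralizer_singleton_iff, mul_one, one_mul]

variable {F : Type v} [Field F] [Fintype F] {n p f : ℕ}

theorem finite_of_real {L : Type v} {n p f : ℕ} (hY : Real (.C n) p f (Nat.card L)) : Finite L :=
  Nat.finite_of_card_ne_zero hY.M_ne

theorem rowHyp_psp (hp : p.Prime) (hf : 1 ≤ f) (hF : Fintype.card F = p ^ f) (hn : 3 ≤ n) {G : Type u} [Group G]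
    [Finite G] (h : H431.CS.Same G (PSp n F)) : RowHyp G n p f := by
  have hY : Real (.C n) p f (Nat.card (PSp n F)) := H478.CS.MinSize.psp_real' hp hf hF (by omega) (by omega)
  have := finite_of_real hY
  exact rowHyp_of h hn hY (fun r hr ho => H510.CS.lat_psp_top hp hf hF (by omega) hr ho)
    (fun hodd r hr ho => H128.CS.lat_psp_odd hp hf hF hn hodd hr ho)
    (fun l hl => H932.CS.center_psp hp hf hF hn l hl)
    (fun x hx l hl hlp h2 h3 => H478.CS.MinSize.min_psp hp hf hF hn x hx hl hlp h2 h3)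

theorem gcd_two {q : ℕ} (ho : Odd q) : Nat.gcd 2 (q - 1) = 2 :=
  Nat.gcd_eq_left (by obtain ⟨c, hc⟩ := ho; exact ⟨c, by omega⟩)

theorem rowHyp_odd (hp : p.Prime) (hp2 : p ≠ 2) (hf : 1 ≤ f) (hF : Fintype.card F = p ^ f) (hn : 3 ≤ n)
    (htop : ∀ r : ℕ, r.Prime → orderOf (((p ^ f : ℕ)) : ZMod r) = 2 * n →
      H431.CS.Lat (POmega F (quadFormOdd n F)) p r (((p ^ f) ^ n + 1) / 2)) {G : Type u} [Group G]
    [Finite G] (h : H431.CS.Same G (POmega F (quadFormOdd n F))) : RowHyp G n p f := by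
  have ho : Odd (p ^ f) := (hp.odd_of_ne_two hp2).pow
  have hY : Real (.C n) p f (Nat.card (POmega F (quadFormOdd n F))) := H478.CS.MinSize.oodd_real' hp hf hF hn ho
  have := finite_of_real hY
  refine rowHyp_of h hn hY (fun r hr ho' => ?_) (fun hodd r hr ho' => ?_)
    (fun l hl => H932.CS.center_odd hp hp2 hf hF hn l hl)
    (fun x hx l hl hlp _ h3 => H478.CS.MinSize.min_odd hp hp2 hf hF hn x hx hl hlp h3)
  · rw [gcd_two ho]; exact htop r hr ho'
  · rw [gcd_two ho]; exact H79.CS.lat_odd_odd hp hp2 hf hF hn hodd hr ho'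

end Cfsg.Agent.H221.CS
end

private theorem dce_6dedee1d94e2 : _root_.True := by
  try have : _root_.True := by simp only [_root_.Cfsg.Agent.H79.CS.bf.eq_1]
  exact _root_.True.intro
end

-- part: H221/CS/Rows
section
prune_inst 0x1010510010e0000000000000820000200000000000000000000002000a01000000000000000000020022000000000020000800100000000000000000000400001000040000000000000000000000000000000000000000000000000000000000000000000
set_option linter.all false
open scoped Cfsg.Agent.FastGrp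

-- part: H524/CS/Red
section
/-!
# S3677, orthogonal groups of odd dimension: reduction to `W = [V, s]` (helper524)
-/

set_option autoImplicit false

namespace Cfsg.Agent.H524.CS

open Module QuadraticMap Cfsg.Agent.H951 Cfsg.Agent.H204 Cfsg.Agent.LieClassical.OrthFinite

section Gen

variable {F V : Type*} [Field F] [AddCommGroup V] [Module F V]

theorem inv_cm_of_comm {s x : End F V} (h : ∀ v, x (s v) = s (x v)) : _root_.Cfsg.Agent.H951.Inv x (cm s) := by
  intro w hw
  obtain ⟨u, rfl⟩ := mem_cm.1 hw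
  exact mem_cm.2 ⟨x u, by rw [map_sub, h]⟩

theorem inv_fx_of_comm {s x : End F V} (h : ∀ v, x (s v) = s (x v)) : _root_.Cfsg.Agent.H951.Inv x (fx s) := by
  intro w hw
  rw [mem_fx] at hw ⊢
  rw [← h, hw]

/-- the space orthogonal to `[V, s]` is the fixed space -/
theorem perp_cm {B : LinearMap.BilinForm F V} (hs : Sy B) (hn : _root_.Cfsg.Agent.H204.Nd B) {s : V ≃ₗ[F] V}
    (hB : ∀ u v, B (s u) (s v) = B u v) : perp B (cm (s : End F V)) = fx (s : End F V) := by
  ext v
  rw [mem_perp, mem_fx]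
  constructor
  · intro h
    rw [← sub_eq_zero]
    apply hn
    intro w
    obtain ⟨u, rfl⟩ := s.surjective w
    have h1 := h _ (mem_cm.2 ⟨u, rfl⟩)
    rw [map_sub, LinearMap.sub_apply] at h1
    have h3 : B (s u) v - B u v = 0 := h1
    rw [map_sub, LinearMap.sub_apply]
    have h4 : B ((s : End F V) v) (s u) = B v u := hB v u
    rw [h4, hs v u, hs v (s u)]
    linear_combination -h3
  · intro h x hx
    obtain ⟨u, rfl⟩ := mem_cm.1 hx
    rw [map_sub, LinearMap.sub_apply]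
    have h4 : B ((s : End F V) u) ((s : End F V) v) = B u v := hB u v
    rw [h] at h4
    rw [h4, sub_self]

/-- every operator commuting with `s` and acting trivially on the fixed space of `s`... commutes with `x` -/
theorem comm_of_split {s x t : End F V} {r : ℕ} (hr : (r : F) ≠ 0) (hs : s ^ r = 1)
    (hts : ∀ v, t (s v) = s (t v)) (hfx : fx s ≤ fx x)
    (h : ∀ w ∈ cm s, t (x w) = x (t w)) (v : V) : t (x v) = x (t v) := by
  have hc := isCompl_fx_cm hr hs
  obtain ⟨a, b, rfl⟩ := exists_add hc v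
  have h1 : x (a : V) = a := mem_fx.1 (hfx a.2)
  have h3 : x (t (a : V)) = t (a : V) := mem_fx.1 (hfx (inv_fx_of_comm hts _ a.2))
  rw [map_add, map_add, map_add, map_add, h1, h3, h _ b.2]

end Gen

variable {F : Type*} [Field F] [Finite F] {ι : Type} [Fintype ι] [DecidableEq ι] {Q : QuadraticForm F (ι → F)}

omit [Finite F] [Fintype ι] [DecidableEq ι] in
theorem nd_polar (hQ : (polarBilin Q).Nondegenerate) : _root_.Cfsg.Agent.H204.Nd (polarBilin Q) := fun u hu => hQ.1 u hu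

omit [Finite F] in
theorem ie_pow (s : Cfsg.isometryGroup F ⇑Q) (n : ℕ) :
    (((ie Q s : (ι → F) ≃ₗ[F] (ι → F)) : End F (ι → F)) ^ n) = (ie Q (s ^ n) : (ι → F) ≃ₗ[F] (ι → F)) := by
  induction n with
  | zero => rw [pow_zero, pow_zero, map_one]; rfl
  | succ n ih => rw [pow_succ, pow_succ, map_mul, ih]; rfl

omit [Finite F] in
theorem ie_comm {x s : Cfsg.isometryGroup F ⇑Q} (h : Commute x s) (v : ι → F) :
    (ie Q x : End F (ι → F)) ((ie Q s : End F (ι → F)) v) = (ie Q s : End F (ι → F)) ((ie Q x : End F (ι → F)) v) := by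
  have h1 := congrArg (fun k => ie Q k v) h.eq
  simp only [map_mul] at h1
  exact h1

omit [Finite F] in
/-- **reduction to `W = [V, s]`** -/
theorem red (h2 : (2 : F) ≠ 0) (hQ : (polarBilin Q).Nondegenerate) {s x : Cfsg.isometryGroup F ⇑Q} {r : ℕ}
    (hr : (r : F) ≠ 0) (hs : s ^ r = 1) (hxs : Commute x s)
    (h1 : finrank F (fx (ie Q s : End F (ι → F))) = 1)
    (hfx : fx (ie Q x : End F (ι → F)) = fx (ie Q s : End F (ι → F)))
    (hinv : _root_.Cfsg.Agent.H951.Inv (ie Q x : End F (ι → F)) (cm (ie Q s : End F (ι → F)))) :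
    Nat.card (CI (polarBilin Q) (ie Q x : End F (ι → F))) =
      2 * Nat.card (CI (LinearMap.BilinForm.restrict (polarBilin Q) (cm (ie Q s : End F (ι → F)))) (res (ie Q x : End F (ι → F)) hinv)) := by
  have hnd := nd_polar hQ
  have hsy := sy_polar Q
  have hs' : ((ie Q s : (ι → F) ≃ₗ[F] (ι → F)) : End F (ι → F)) ^ r = 1 := by
    rw [ie_pow, hs, map_one]; rfl
  have hperp := perp_cm hsy hnd (s := ie Q s) (ie_B s)
  have hcomp : IsCompl (cm (ie Q s : End F (ι → F))) (perp (polarBilin Q) (cm (ie Q s : End F (ι → F)))) := by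
    rw [hperp]
    exact (isCompl_fx_cm hr hs').symm
  have hxY : _root_.Cfsg.Agent.H951.Inv (ie Q x : End F (ι → F)) (perp (polarBilin Q) (cm (ie Q s : End F (ι → F)))) := by
    rw [hperp]
    exact inv_fx_of_comm (ie_comm hxs)
  rw [card_split hsy hcomp hinv hxY, card_line h2 (nd_restrict_perp hsy hnd hcomp.sup_eq_top) (by rw [hperp, h1]),
    mul_comm]
  intro g
  have hY : _root_.Cfsg.Agent.H951.Inv (g.1 : End F (ι → F)) (perp (polarBilin Q) (cm (ie Q s : End F (ι → F)))) := by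
    rw [hperp, ← hfx]
    exact inv_fx_of_comm fun v => g.2.2 v
  refine ⟨?_, hY⟩
  have hg : Smi (polarBilin Q) 1 (g.1 : End F (ι → F)) := fun u v => by
    rw [one_mul]; exact g.2.1 u v
  have h3 := inv_perp hg g.1.injective hY
  have h4 : perp (polarBilin Q) (perp (polarBilin Q) (cm (ie Q s : End F (ι → F)))) = cm (ie Q s : End F (ι → F)) :=
    LinearMap.BilinForm.orthogonal_orthogonal hQ hsy.isSymm.isRefl _
  rw [h4] at h3
  exact h3

/-- **the centralizer in `Omega`**: twice the centralizer order is the number of isometries of `W` commuting with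
`x` -/
theorem card_red (h2 : (2 : F) ≠ 0) (hQ : (polarBilin Q).Nondegenerate) (hodd : Odd (Fintype.card ι))
    (h3 : 3 ≤ Fintype.card ι) {s x : Cfsg.Omega F ⇑Q} {r : ℕ} (hro : Odd r)
    (hr : (r : F) ≠ 0) (hs : s ^ r = 1) (hs1 : s ≠ 1) (hxs : Commute x s)
    (h1 : finrank F (fx (ie Q s.1 : End F (ι → F))) = 1)
    (hfx : fx (ie Q x.1 : End F (ι → F)) = fx (ie Q s.1 : End F (ι → F)))
    (hinv : _root_.Cfsg.Agent.H951.Inv (ie Q x.1 : End F (ι → F)) (cm (ie Q s.1 : End F (ι → F))))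
    (hcm : ∀ t : End F (ι → F), (∀ u v, polarBilin Q (t u) (t v) = polarBilin Q u v) →
      (∀ v, t (ie Q s.1 v) = ie Q s.1 (t v)) → ∀ w ∈ cm (ie Q s.1 : End F (ι → F)), t (ie Q x.1 w) = ie Q x.1 (t w)) :
    2 * Nat.card (Subgroup.centralizer ({x} : Set (Cfsg.Omega F ⇑Q))) =
      Nat.card (CI (LinearMap.BilinForm.restrict (polarBilin Q) (cm (ie Q s.1 : End F (ι → F)))) (res (ie Q x.1 : End F (ι → F)) hinv)) := by
  have hs' : s.1 ^ r = 1 := congrArg Subtype.val hs
  have hs1' : s.1 ≠ 1 := fun h => hs1 (Subtype.ext h)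
  have hxs' : Commute x.1 s.1 := congrArg Subtype.val hxs.eq
  have hse : ((ie Q s.1 : (ι → F) ≃ₗ[F] (ι → F)) : End F (ι → F)) ^ r = 1 := by
    rw [ie_pow, hs', map_one]; rfl
  obtain ⟨t, ht, ht1, ht2⟩ := exists_t h2 hQ hro hr (x := x.1) hs' hs1' fun t htB hts v =>
    comm_of_split (s := (ie Q s.1 : End F (ι → F))) (x := (ie Q x.1 : End F (ι → F))) hr hse hts hfx.ge
      (hcm t htB hts) v
  have h4 := card_omega h2 hQ hodd h3 x ht ht1 ht2
  rw [red h2 hQ hr hs' hxs' h1 hfx hinv] at h4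
  omega

end Cfsg.Agent.H524.CS
end

-- part: H524/CS/Fix
section
/-!
# S3677, orthogonal groups of odd dimension: the fixed space (helper524)
-/

set_option autoImplicit false

namespace Cfsg.Agent.H524.CS

open Module QuadraticMap Cfsg.Agent.H951 Cfsg.Agent.H204 Cfsg.Agent.LieClassical.OrthFinite

section Gen

variable {F V : Type*} [Field F] [AddCommGroup V] [Module F V] [FiniteDimensional F V]

/-- `x` of determinant one commuting with `s`, `dim C_V(s) = 1`: `x = 1` or `C_V(x) = C_V(s)`, if `x` fixes no vector of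
`[V, s]` unless it is trivial there. -/
theorem fx_eq (h2 : (2 : F) ≠ 0) {B : LinearMap.BilinForm F V} (hn : _root_.Cfsg.Agent.H204.Nd B) (hodd : Odd (finrank F V)) {s x : End F V}
    {r : ℕ} (hr : (r : F) ≠ 0) (hs : s ^ r = 1) (hxB : ∀ u v, B (x u) (x v) = B u v) (hxs : ∀ v, x (s v) = s (x v))
    (hdet : LinearMap.det x = 1) (h1 : finrank F (fx s) = 1)
    (hW : (∃ w ∈ cm s, w ≠ 0 ∧ x w = w) → ∀ w ∈ cm s, x w = w) : x = 1 ∨ fx x = fx s := by
  have hc := isCompl_fx_cm hr hs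
  have hU := inv_fx_of_comm hxs
  have hM := inv_cm_of_comm hxs
  -- the determinant on the fixed space of `s`
  obtain ⟨u, hu0, hu⟩ := finrank_eq_one_iff'.1 h1
  obtain ⟨c, hcu⟩ := hu (res x hU u)
  have hxu : ∀ a : fx s, x (a : V) = c • (a : V) := by
    intro a
    obtain ⟨d, rfl⟩ := hu a
    have h3 : x (u : V) = c • (u : V) := (congrArg Subtype.val hcu).symm
    rw [Submodule.coe_smul, map_smul, h3, smul_smul, smul_smul, mul_comm]
  have hdet1 : (∀ w ∈ cm s, x w = w) → c = 1 := by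
    intro hw
    have h3 : x = glue hc (c • LinearMap.id) LinearMap.id := by
      refine LinearMap.ext fun v => ?_
      obtain ⟨a, b, rfl⟩ := exists_add hc v
      rw [glue_add, map_add, hxu a, hw b b.2]
      rfl
    rw [h3, det_glue, LinearMap.det_smul, h1, pow_one, LinearMap.det_id, LinearMap.det_id, mul_one, mul_one] at hdet
    exact hdet
  by_cases hw : ∃ w ∈ cm s, w ≠ 0 ∧ x w = w
  · left
    have h3 := hW hw
    have h4 := hdet1 h3
    refine LinearMap.ext fun v => ?_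
    obtain ⟨a, b, rfl⟩ := exists_add hc v
    rw [map_add, hxu, h4, one_smul, h3 b b.2]
    rfl
  · right
    obtain ⟨v, hv0, hv⟩ := exists_fixed hodd h2 hn hxB hdet
    obtain ⟨a, b, rfl⟩ := exists_add hc v
    have hsplit : ∀ (a : fx s) (b : cm s), x ((a : V) + b) = a + b → x (a : V) = a ∧ x (b : V) = b := by
      intro a b h
      rw [map_add] at h
      have h5 : (x (a : V) - a) + (x (b : V) - b) = 0 := by
        rw [sub_add_sub_comm, h, sub_self]
      have h6 : x (a : V) - a ∈ fx s := (fx s).sub_mem (hU _ a.2) a.2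
      have h7 : x (b : V) - b ∈ cm s := (cm s).sub_mem (hM _ b.2) b.2
      have h8 : x (a : V) - a = -(x (b : V) - b) := eq_neg_of_add_eq_zero_left h5
      have h9 : x (a : V) - a ∈ fx s ⊓ cm s := ⟨h6, by rw [h8]; exact (cm s).neg_mem h7⟩
      rw [hc.inf_eq_bot, Submodule.mem_bot] at h9
      rw [h9, zero_add] at h5
      exact ⟨sub_eq_zero.1 h9, sub_eq_zero.1 h5⟩
    obtain ⟨h3, h4⟩ := hsplit a b hv
    have hb : (b : V) = 0 := by
      by_contra hb0
      exact hw ⟨b, b.2, hb0, h4⟩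
    have ha : (a : V) ≠ 0 := by
      intro ha
      apply hv0
      rw [ha, hb, add_zero]
    have hc1 : c = 1 := by
      rw [hxu] at h3
      have h5 : (c - 1) • (a : V) = 0 := by rw [sub_smul, h3, one_smul, sub_self]
      exact sub_eq_zero.1 ((smul_eq_zero.1 h5).resolve_right ha)
    apply le_antisymm
    · intro v hv
      obtain ⟨a, b, rfl⟩ := exists_add hc v
      obtain ⟨-, h5⟩ := hsplit a b (mem_fx.1 hv)
      have h6 : (b : V) = 0 := by
        by_contra hb0
        exact hw ⟨b, b.2, hb0, h5⟩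
      rw [h6, add_zero]
      exact a.2
    · intro v hv
      rw [mem_fx]
      have := hxu ⟨v, hv⟩
      rw [hc1, one_smul] at this
      exact this

end Gen

variable {F : Type*} [Field F] [Finite F] {ι : Type} [Fintype ι] [DecidableEq ι] {Q : QuadraticForm F (ι → F)}

theorem ie_fx (h2 : (2 : F) ≠ 0) (hQ : (polarBilin Q).Nondegenerate) (hodd : Odd (Fintype.card ι))
    (h3 : 3 ≤ Fintype.card ι) {s x : Cfsg.Omega F ⇑Q} {r : ℕ}
    (hr : (r : F) ≠ 0) (hs : s ^ r = 1) (hxs : Commute x s) (hx1 : x ≠ 1)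
    (h1 : finrank F (fx (ie Q s.1 : End F (ι → F))) = 1)
    (hW : (∃ w ∈ cm (ie Q s.1 : End F (ι → F)), w ≠ 0 ∧ ie Q x.1 w = w) →
      ∀ w ∈ cm (ie Q s.1 : End F (ι → F)), ie Q x.1 w = w) :
    fx (ie Q x.1 : End F (ι → F)) = fx (ie Q s.1 : End F (ι → F)) := by
  have hs' : s.1 ^ r = 1 := congrArg Subtype.val hs
  have hxs' : Commute x.1 s.1 := congrArg Subtype.val hxs.eq
  have hse : ((ie Q s.1 : (ι → F) ≃ₗ[F] (ι → F)) : End F (ι → F)) ^ r = 1 := by
    rw [ie_pow, hs', map_one]; rfl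
  have hdet : LinearMap.det ((ie Q x.1 : (ι → F) ≃ₗ[F] (ι → F)) : End F (ι → F)) = 1 := by
    rw [det_ie]
    exact ((ClassicalGeometry.OmegaIndex.mem_Omega_iff h2 Q hQ (by omega) one_ne_zero x.1).1 x.2).1
  refine (fx_eq h2 (nd_polar hQ) (by rwa [Module.finrank_fintype_fun_eq_card]) hr hse (fun u v => ie_B x.1 u v)
    (ie_comm hxs') hdet h1 hW).resolve_left ?_
  intro h
  apply hx1
  apply Subtype.ext
  apply isometryHom_injective Q
  apply LinearEquiv.ext
  intro v
  have h4 := LinearMap.congr_fun h v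
  rw [OneMemClass.coe_one, map_one]
  exact h4

end Cfsg.Agent.H524.CS
end

-- part: H524/CS/Top
section
/-!
# S3677: the centralizers of `Omega_{2n+1}(q)` whose order is divisible by a primitive prime divisor of
`q^(2n) - 1` (helper524)
-/

set_option autoImplicit false

namespace Cfsg.Agent.H524.CS

open Module QuadraticMap Cfsg.Agent.H951 Cfsg.Agent.H204 Cfsg.Agent.LieClassical.OrthFinite
  Cfsg.Agent.LieClassical.OrthForms Cfsg.Agent.H510.CS Cfsg.Agent.H370.AAM Cfsg.Agent.H431.CS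

section Gen

variable {F V : Type*} [Field F] [Fintype F] [AddCommGroup V] [Module F V] [FiniteDimensional F V]

/-- `[V, s]` is irreducible if `dim V < 2 ord_r(q)` -/
theorem irr_cm {s : End F V} {r d : ℕ} [Fact r.Prime] (hr : (r : F) ≠ 0) (hs : s ^ r = 1) (hs1 : s ≠ 1)
    (ho : orderOf (Fintype.card F : ZMod r) = d) (hd : finrank F V < 2 * d) :
    Irr s (cm s) ∧ finrank F (cm s) = d := by
  have hcm0 : cm s ≠ ⊥ := by
    intro h
    apply hs1
    refine LinearMap.ext fun v => ?_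
    have h1 : s v - v ∈ cm s := mem_cm.2 ⟨v, rfl⟩
    rw [h, Submodule.mem_bot] at h1
    exact sub_eq_zero.1 h1
  have hdv : ∀ U : Submodule F V, U ≤ cm s → _root_.Cfsg.Agent.H951.Inv s U → d ∣ finrank F U := fun U hU hUi => by
    rw [← ho]
    exact ord_dvd_finrank hs hUi (inf_fx_of_le_cm hr hs hU)
  have hdim : finrank F (cm s) = d := by
    obtain ⟨c, hc⟩ := hdv _ le_rfl inv_cm
    have h1 := Submodule.finrank_le (cm s)
    have h3 : finrank F (cm s) ≠ 0 := fun h => hcm0 (Submodule.finrank_eq_zero.1 h)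
    have h4 : c ≠ 0 := by rintro rfl; exact h3 hc
    have h5 : c < 2 := by
      by_contra h6
      have : d * 2 ≤ d * c := Nat.mul_le_mul_left _ (by omega)
      omega
    have h6 : c = 1 := by omega
    rw [hc, h6, mul_one]
  refine ⟨⟨hcm0, inv_cm, fun U hU hUi => ?_⟩, hdim⟩
  obtain ⟨c, hc⟩ := hdv U hU hUi
  rcases Nat.eq_zero_or_pos c with h | h
  · left
    rw [h, mul_zero] at hc
    exact Submodule.finrank_eq_zero.1 hc
  · right
    refine Submodule.eq_of_le_of_finrank_le hU ?_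
    rw [hdim, hc]
    exact Nat.le_mul_of_pos_right d h

omit [Fintype F] [FiniteDimensional F V] in
/-- on an irreducible space a commuting operator without fixed vectors has square one only if it is `-1` -/
theorem eq_neg_of_sq {s x : End F V} {W : Submodule F V} (hW : Irr s W) (hxs : ∀ v, x (s v) = s (x v)) (hxW : _root_.Cfsg.Agent.H951.Inv x W)
    (hsq : ∀ w ∈ W, x (x w) = w) (hne : ¬ ∀ w ∈ W, x w = w) : ∀ w ∈ W, x w = -w := by
  have hinv : _root_.Cfsg.Agent.H951.Inv s (W ⊓ fx x) := by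
    refine hW.2.1.inf fun v hv => ?_
    rw [mem_fx] at hv ⊢
    rw [hxs, hv]
  rcases hW.2.2 _ inf_le_left hinv with h | h
  · intro w hw
    have h1 : x w + w ∈ W ⊓ fx x := by
      refine ⟨W.add_mem (hxW w hw) hw, mem_fx.2 ?_⟩
      rw [map_add, hsq w hw, add_comm]
    rw [h, Submodule.mem_bot] at h1
    exact eq_neg_of_add_eq_zero_left h1
  · exfalso
    apply hne
    intro w hw
    rw [← h] at hw
    exact mem_fx.1 hw.2

end Gen

variable {F : Type*} [Field F] [Fintype F] {ι : Type} [Fintype ι] [DecidableEq ι] {Q : QuadraticForm F (ι → F)}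

theorem nd_cm (hQ : (polarBilin Q).Nondegenerate) (s : Cfsg.isometryGroup F ⇑Q) {r : ℕ} (hr : (r : F) ≠ 0)
    (hs : s ^ r = 1) : _root_.Cfsg.Agent.H204.Nd (LinearMap.BilinForm.restrict (polarBilin Q) (cm (ie Q s : End F (ι → F)))) := by
  have hs' : ((ie Q s : (ι → F) ≃ₗ[F] (ι → F)) : End F (ι → F)) ^ r = 1 := by
    rw [ie_pow, hs, map_one]; rfl
  apply nd_restrict_of_isCompl (nd_polar hQ)
  rw [perp_cm (sy_polar Q) (nd_polar hQ) (s := ie Q s) (ie_B s)]
  exact (isCompl_fx_cm hr hs').symm.sup_eq_top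

/-- case `x = -1` on `W = [V, s]` -/
theorem card_neg (h2 : (2 : F) ≠ 0) (hQ : (polarBilin Q).Nondegenerate) {p f : ℕ} (hp : p.Prime) (hf : 1 ≤ f)
    (hF : Nat.card F = p ^ f) {n : ℕ} (hn : 1 ≤ n) (s : Cfsg.isometryGroup F ⇑Q) {r : ℕ} (hr : (r : F) ≠ 0)
    (hs : s ^ r = 1) (hd : finrank F (cm (ie Q s : End F (ι → F))) = 2 * n) {y : End F (cm (ie Q s : End F (ι → F)))}
    (hy : ∀ w, y w = -w) :
    ∃ A, ¬ p ∣ A ∧ Nat.card (CI (LinearMap.BilinForm.restrict (polarBilin Q) (cm (ie Q s : End F (ι → F)))) y) =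
      2 * ((p ^ f) ^ (n * (n - 1)) * A) := by
  have hnd := nd_cm hQ s hr hs
  obtain ⟨A, hA, hc⟩ := card_even h2 hp hf hF hn hd (Q.comp (cm (ie Q s : End F (ι → F))).subtype) (fun u hu => by
    apply hnd
    intro v
    have := hu v
    exact this)
  refine ⟨A, hA, ?_⟩
  rw [← hc]
  refine Nat.card_congr (Equiv.subtypeEquivRight fun g => ?_)
  constructor
  · intro h u v
    exact h.1 u v
  · intro h
    refine ⟨fun u v => h u v, fun v => ?_⟩
    rw [hy, hy, map_neg]

section Top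

variable {n r p f : ℕ}

/-- **the centralizers, top case** -/
theorem top_cases (h2 : (2 : F) ≠ 0) (hQ : (polarBilin Q).Nondegenerate) (hn : 1 ≤ n) (hι : Fintype.card ι = 2 * n + 1)
    (hr : r.Prime) (hro : Odd r) (hrF : (r : F) ≠ 0) (ho : orderOf (Fintype.card F : ZMod r) = 2 * n)
    (hp : p.Prime) (hf : 1 ≤ f) (hF : Fintype.card F = p ^ f) {s x : Cfsg.Omega F ⇑Q}
    (hs : orderOf s = r) (hxs : Commute x s) (hx1 : x ≠ 1) :
    (x ≠ s ∧ ∃ A, ¬ p ∣ A ∧
      Nat.card (Subgroup.centralizer ({x} : Set (Cfsg.Omega F ⇑Q))) = (p ^ f) ^ (n * (n - 1)) * A) ∨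
      ∃ k m, k * m = n ∧ (x = s → k = n) ∧
        2 * Nat.card (Subgroup.centralizer ({x} : Set (Cfsg.Omega F ⇑Q))) = gu ((p ^ f) ^ k) m := by
  have hfact : Fact r.Prime := ⟨hr⟩
  have hs0 : s ^ r = 1 := by rw [← hs, pow_orderOf_eq_one]
  have hs1 : s ≠ 1 := by
    rintro rfl
    rw [orderOf_one] at hs
    exact hr.one_lt.ne hs
  have hs' : s.1 ^ r = 1 := congrArg Subtype.val hs0
  have hxs' : Commute x.1 s.1 := congrArg Subtype.val hxs.eq
  set se : End F (ι → F) := (ie Q s.1 : End F (ι → F)) with hse0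
  set xe : End F (ι → F) := (ie Q x.1 : End F (ι → F)) with hxe0
  have hse : se ^ r = 1 := by
    rw [hse0, ie_pow, hs', map_one]; rfl
  have hse1 : se ≠ 1 := by
    intro h
    apply hs1
    apply Subtype.ext
    apply isometryHom_injective Q
    apply LinearEquiv.ext
    intro v
    rw [OneMemClass.coe_one, map_one]
    exact LinearMap.congr_fun h v
  have hdimV : finrank F (ι → F) = 2 * n + 1 := by rw [Module.finrank_fintype_fun_eq_card, hι]
  obtain ⟨hirr, hdim⟩ := irr_cm hrF hse hse1 ho (by rw [hdimV]; omega)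
  have hfx1 : finrank F (fx se) = 1 := by
    have := finrank_fx_add_cm hrF hse
    rw [hdim, hdimV] at this
    omega
  have hxc : ∀ v, xe (se v) = se (xe v) := ie_comm hxs'
  have hinv : _root_.Cfsg.Agent.H951.Inv xe (cm se) := inv_cm_of_comm hxc
  -- fixed vectors
  have hW : (∃ w ∈ cm se, w ≠ 0 ∧ xe w = w) → ∀ w ∈ cm se, xe w = w := by
    rintro ⟨w, hw, hw0, hxw⟩
    have hi : _root_.Cfsg.Agent.H951.Inv se (cm se ⊓ fx xe) := by
      refine hirr.2.1.inf fun v hv => ?_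
      rw [mem_fx] at hv ⊢
      rw [hxc, hv]
    rcases hirr.2.2 _ inf_le_left hi with h | h
    · exfalso
      apply hw0
      rw [← Submodule.mem_bot F, ← h]
      exact ⟨hw, mem_fx.2 hxw⟩
    · intro v hv
      rw [← h] at hv
      exact mem_fx.1 hv.2
  have hι3 : 3 ≤ Fintype.card ι := by omega
  have hιo : Odd (Fintype.card ι) := ⟨n, hι⟩
  have hfx := ie_fx h2 hQ hιo hι3 hrF hs0 hxs hx1 hfx1 hW
  have hcard := card_red h2 hQ hιo hι3 hro hrF hs0 hs1 hxs hfx1 hfx hinv (fun t htB hts w hw => by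
    exact comm_of_irr hirr hts hxc (inv_cm_of_comm hts) hinv hw)
  have hcm0 : cm se ≠ ⊥ := hirr.1
  have hnefix : ¬ ∀ w ∈ cm se, xe w = w := by
    intro h
    obtain ⟨w, hw, hw0⟩ := (Submodule.ne_bot_iff _).1 hcm0
    have h3 : w ∈ fx xe := mem_fx.2 (h w hw)
    rw [hfx] at h3
    have h4 := (isCompl_fx_cm hrF hse).inf_eq_bot
    apply hw0
    rw [← Submodule.mem_bot F, ← h4]
    exact ⟨h3, hw⟩
  have hF' : Nat.card F = p ^ f := by rw [Nat.card_eq_fintype_card, hF]
  by_cases hsq : ∀ w ∈ cm se, xe (xe w) = w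
  · left
    have hneg := eq_neg_of_sq hirr hxc hinv hsq hnefix
    obtain ⟨A, hA, hA2⟩ := card_neg h2 hQ hp hf hF' hn s.1 hrF hs' hdim (y := res xe hinv) (fun w =>
      Subtype.ext ((hneg w w.2 :)))
    refine ⟨?_, A, hA, ?_⟩
    · rintro rfl
      apply hnefix
      intro w hw
      obtain ⟨j, hj⟩ := hro
      have h5 : (xe ^ 2) w = w := by
        rw [pow_two, Module.End.mul_apply]
        exact hsq w hw
      have h6 := pow_fx h5 j
      have h7 : (xe ^ r) w = xe w := by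
        rw [hj, pow_succ', Module.End.mul_apply, pow_mul, h6]
      rw [← h7]
      have h8 : xe ^ r = 1 := hse
      rw [h8]
      rfl
    · rw [hA2] at hcard
      omega
  · right
    push Not at hsq
    obtain ⟨w1, hw1, hw1'⟩ := hsq
    have hnt : Nontrivial (cm se) := (Submodule.nontrivial_iff_ne_bot).2 hcm0
    let B : cm se → cm se → F := fun u v => (polarBilin Q (u : ι → F) v :)
    have hB : Frm (RingHom.id F) 1 B :=
      { add_left := fun u v w => by
          show polarBilin Q ((u : ι → F) + v) w = _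
          rw [map_add, LinearMap.add_apply]
        smul_left := fun a u v => by
          show polarBilin Q (a • (u : ι → F)) v = _
          rw [map_smul, LinearMap.smul_apply, smul_eq_mul]
        herm := fun u v => by
          rw [one_mul]
          exact sy_polar Q _ _
        sigma_sq := fun a => rfl
        eps_ne := one_ne_zero }
    have hndW := nd_cm hQ s.1 hrF hs'
    let w : cm se ≃ₗ[F] cm se := resE (ie Q x.1) hinv
    have hw : ∀ u, ((w u : cm se) : ι → F) = xe u := fun u => rfl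
    have hwe : (w : End F (cm se)) = res xe hinv := rfl
    have hirrw : Irreducible (minpoly F (w : End F (cm se))) := by
      rw [hwe]
      exact irreducible_minpoly hirr hxc hinv
    obtain ⟨k, m, hk, hm, hkm, hdeg, hc⟩ := card_cent (V := cm se) hB (fun u hu => hndW u hu) (Or.inl rfl)
      (W := w) (fun u v => ie_B x.1 u v) hirrw ⟨⟨w1, hw1⟩, fun h => hw1' (congrArg Subtype.val h)⟩
    refine ⟨k, m, ?_, ?_, ?_⟩
    · rw [hdim, mul_assoc] at hkm
      omega
    · rintro rfl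
      have h5 : finrank F (cm se) = (minpoly F (w : End F (cm se))).natDegree := by
        refine hirr.finrank_eq_natDegree hirrw fun v hv => ?_
        have h6 := aeval_res hinv (minpoly F (w : End F (cm se))) ⟨v, hv⟩
        have h7 : Polynomial.aeval (res xe hinv) (minpoly F (w : End F (cm se))) = 0 := minpoly.aeval F (res xe hinv)
        exact h6.symm.trans (congrArg Subtype.val (LinearMap.congr_fun h7 ⟨v, hv⟩))
      rw [hdim, hdeg] at h5
      omega
    · rw [hcard, ← hF', gu, ← hc]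
      rfl

end Top

theorem Lat.of_eq {S T : Type*} [Group S] [Group T] {p r m : ℕ} (h : Lat S p r m) (hc : Nat.card T = Nat.card S)
    (hco : Co T = Co S) : Lat T p r m := by
  refine ⟨?_, ?_, ?_, ?_, h.pm, ?_, ?_, ?_⟩
  · rw [hc]; exact h.rS
  · rw [hco]; exact h.h0
  · rw [hco]; exact h.mem
  · rw [hc]; exact h.full
  · rw [hco, hc]; exact h.one
  · rw [hco, hc]; exact h.h3
  · rw [hco, hc]; exact h.h4

end Cfsg.Agent.H524.CS
end

-- part: H524/CS/LatTop
section
/-!
# S3677: the lattice `lat_odd_top` (helper524)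
-/

set_option autoImplicit false

namespace Cfsg.Agent.H524.CS

open Module QuadraticMap Cfsg Cfsg.Agent.LieClassical.OrthFinite
  Cfsg.Agent.LieClassical.OrthForms Cfsg.Agent.H510.CS Cfsg.Agent.H370.AAM Cfsg.Agent.H431.CS

universe v

variable {F : Type v} [Field F] [Fintype F] {p f n r : ℕ}

theorem card_idx (m : ℕ) : Fintype.card (Unit ⊕ (Fin m ⊕ Fin m)) = 2 * m + 1 := by
  simp only [Fintype.card_sum, Fintype.card_unit, Fintype.card_fin]
  omega

theorem odd_q (hp : p.Prime) (hp2 : p ≠ 2) (hF : Fintype.card F = p ^ f) : Odd (Fintype.card F) := by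
  rw [hF]
  exact (hp.odd_of_ne_two hp2).pow

theorem two_ne (hp : p.Prime) (hp2 : p ≠ 2) (hF : Fintype.card F = p ^ f) : (2 : F) ≠ 0 :=
  Cfsg.Agent.H204.two_ne_zero_of_odd (odd_q hp hp2 hF)

theorem nondeg_odd (h2 : (2 : F) ≠ 0) (n : ℕ) : (polarBilin (oddForm n F)).Nondegenerate :=
  Cfsg.Agent.H182.Sign.nondegenerate_iff_nondeg.2 (nondeg_oddForm n F h2)

/-- twice the order of `Omega_{2n+1}(q)` -/
theorem card_om (hp : p.Prime) (hp2 : p ≠ 2) (hF : Fintype.card F = p ^ f) (hn : 3 ≤ n) :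
    2 * Nat.card (Omega F ⇑(oddForm n F)) = sp (p ^ f) n := by
  have h2 := two_ne hp hp2 hF
  rw [← card_pomega h2 (nondeg_odd h2 n) ⟨n, card_idx n⟩ (by rw [card_idx]; omega), coe_oddForm,
    Cfsg.Agent.S0292.result hF (by rw [← hF]; exact odd_q hp hp2 hF) n hn, sp]

/-- **the lattice, top case** -/
theorem lat_odd_top (hp : p.Prime) (hp2 : p ≠ 2) (hf : 1 ≤ f) (hF : Fintype.card F = p ^ f) (hn : 3 ≤ n) (hr : r.Prime)
    (ho : orderOf (((p ^ f : ℕ)) : ZMod r) = 2 * n) :
    Lat (POmega F (quadFormOdd n F)) p r (((p ^ f) ^ n + 1) / 2) := by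
  have h2 := two_ne hp hp2 hF
  have hQ := nondeg_odd h2 n
  have hι : Fintype.card (Unit ⊕ (Fin n ⊕ Fin n)) = 2 * n + 1 := card_idx n
  have hιo : Odd (Fintype.card (Unit ⊕ (Fin n ⊕ Fin n))) := ⟨n, hι⟩
  have hι3 : 3 ≤ Fintype.card (Unit ⊕ (Fin n ⊕ Fin n)) := by omega
  have hq0 : 0 < p ^ f := pow_pos hp.pos f
  have hpo : Odd p := hp.odd_of_ne_two hp2
  have hfact : Fact r.Prime := ⟨hr⟩
  have hrq : ¬ r ∣ p ^ f := by
    intro h
    have h0 : ((p ^ f : ℕ) : ZMod r) = 0 := (ZMod.natCast_eq_zero_iff _ r).2 h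
    rw [h0] at ho
    have : orderOf (0 : ZMod r) = 0 := orderOf_eq_zero_iff'.2 fun n hn => by rw [zero_pow hn.ne']; exact zero_ne_one
    omega
  have hr2 : r ≠ 2 := by
    rintro rfl
    have h1 := Cfsg.Agent.Lib.Zsigmondy.orderOf_dvd_pred hr hrq
    rw [ho] at h1
    have := Nat.le_of_dvd (by norm_num) h1
    omega
  have hrp : r ≠ p := by
    rintro rfl
    exact hrq (dvd_pow_self r (by omega))
  have hrF : (r : F) ≠ 0 := by
    intro h
    have hch : CharP F p := charP_of hp hF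
    have h1 : p ∣ r := (CharP.cast_eq_zero_iff F p r).1 h
    exact hrp ((Nat.prime_dvd_prime_iff_eq hp hr).1 h1).symm
  have hcardS := card_om (n := n) hp hp2 hF hn
  have h2M : 2 * (((p ^ f) ^ n + 1) / 2) = (p ^ f) ^ n + 1 := by
    apply Nat.mul_div_cancel'
    have : Odd ((p ^ f) ^ n) := hpo.pow.pow
    exact this.add_one.two_dvd
  have hS : Nat.card (Omega F ⇑(oddForm n F)) = spA (p ^ f) n * (((p ^ f) ^ n + 1) / 2) := by
    apply Nat.eq_of_mul_eq_mul_left two_pos
    rw [hcardS, sp_eq _ (by omega : 2 ≤ n), mul_left_comm, h2M]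
  have hS0 : Nat.card (Omega F ⇑(oddForm n F)) ≠ 0 := Nat.card_pos.ne'
  rw [← coe_oddForm]
  refine Lat.of_eq (S := Omega F ⇑(oddForm n F)) ?_ (card_pomega h2 hQ hιo hι3) (co_pomega h2 hQ hιo hι3)
  have hkpos : ∀ k m : ℕ, k * m = n → 1 ≤ k := by
    intro k m h
    rcases Nat.eq_zero_or_pos k with rfl | h1
    · rw [zero_mul] at h
      omega
    · exact h1
  refine lat_of (f := f) (n := n) hp hp2 hf (by omega) hr ?_ ?_ ?_ ?_ (fun k m => gu ((p ^ f) ^ k) m) ?_ ?_ ?_ ?_ ?_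
  · have h1 : (2 * Nat.card (Omega F ⇑(oddForm n F))).factorization p = f * n ^ 2 := by
      rw [hcardS, fac_sp hp hf]
    rw [Nat.factorization_mul two_ne_zero hS0, Finsupp.add_apply, Nat.factorization_eq_zero_of_not_dvd (n := 2),
      zero_add] at h1
    · exact h1
    · intro h
      exact hp2 ((Nat.prime_dvd_prime_iff_eq hp Nat.prime_two).1 h)
  · rw [hS]
    refine Dvd.dvd.mul_left ?_ _
    have h1 := dvd_add_one hr hq0 (by omega : 2 ≤ n) ho
    rw [← h2M] at h1
    exact (hr.dvd_mul.1 h1).resolve_left fun h => hr2 ((Nat.prime_dvd_prime_iff_eq hr Nat.prime_two).1 h)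
  · have h1 : r ^ (Nat.card (Omega F ⇑(oddForm n F))).factorization r ∣ Nat.card (Omega F ⇑(oddForm n F)) :=
      Nat.ordProj_dvd _ _
    nth_rewrite 2 [hS] at h1
    refine Nat.Coprime.dvd_of_dvd_mul_left (Nat.Coprime.pow_left _ ?_) h1
    exact (Nat.Prime.coprime_iff_not_dvd hr).2 (not_dvd_spA hr hrq hq0 (by omega) ho)
  · intro h
    have h1 : p ∣ (p ^ f) ^ n + 1 := by
      rw [← h2M]
      exact h.mul_left _
    have h3 : p ∣ (p ^ f) ^ n := (dvd_pow_self p (by omega)).trans (dvd_pow_self _ (by omega))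
    exact hp.one_lt.ne' (Nat.dvd_one.1 ((Nat.dvd_add_right h3).1 h1))
  · intro k m hkm
    have := hkpos k m hkm
    apply gu_ne_zero
    rw [← pow_mul]
    exact hp.two_le.trans (Nat.le_self_pow (Nat.mul_ne_zero (by omega) (by omega)) p)
  · intro k m hkm
    have := hkpos k m hkm
    show (gu ((p ^ f) ^ k) m).factorization p = _
    rw [← pow_mul, fac_gu hp (Nat.mul_pos hf this), mul_assoc]
  · intro y hy
    rcases top_cases h2 hQ (by omega) hι hr (hr.odd_of_ne_two hr2) hrF (by rw [hF]; exact ho) hp hf hF hy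
      (Commute.refl y) (by rintro rfl; rw [orderOf_one] at hy; exact hr.one_lt.ne hy) with ⟨h, -⟩ | ⟨k, m, hkm, hk, h⟩
    · exact absurd rfl h
    · obtain rfl := hk rfl
      have hm1 : m = 1 := Nat.eq_of_mul_eq_mul_left (by omega : 0 < k) (by rw [hkm, mul_one])
      rw [hm1, gu_one] at h
      omega
  · show gu ((p ^ f) ^ n) 1 = _
    rw [gu_one, h2M]
  · intro x y hx hxy hy
    rcases top_cases h2 hQ (by omega) hι hr (hr.odd_of_ne_two hr2) hrF (by rw [hF]; exact ho) hp hf hF hy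
      hxy.symm hx with ⟨-, h⟩ | ⟨k, m, hkm, -, h⟩
    · exact Or.inl h
    · exact Or.inr ⟨k, m, hkm, h⟩

end Cfsg.Agent.H524.CS
end

-- part: H429/CS/AltFus
section
/-!
# Elements of prime order `r` in `A_k` (helper429, S3677)

`exists_comm`: if `r + 4 ≤ k`, some element of order `r` commutes with an involution.
`exists_fus`: if `r ≤ k`, some element `y` of order `r` is conjugate to at least `(r - 1) / 2` of its powers.
-/

set_option autoImplicit false

namespace Cfsg.Agent.H429.AltFus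

open Equiv Equiv.Perm

theorem exists_perm {k : ℕ} {m : Multiset ℕ} (h1 : m.sum ≤ k) (h2 : ∀ a ∈ m, 2 ≤ a) :
    ∃ g : Perm (Fin k), g.cycleType = m :=
  (Equiv.Perm.exists_with_cycleType_iff (Fin k)).2 ⟨by rwa [Fintype.card_fin], h2⟩

theorem exists_comm {k r : ℕ} (hr : r.Prime) (hr2 : r ≠ 2) (h : r + 4 ≤ k) :
    ∃ y : alternatingGroup (Fin k), orderOf y = r ∧ ∃ z : alternatingGroup (Fin k), orderOf z = 2 ∧ Commute y z := by
  obtain ⟨g, hg⟩ := exists_perm (k := k) (m := {r, 2, 2}) (by simp; omega) (by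
    intro a ha
    simp only [Multiset.insert_eq_cons, Multiset.mem_cons, Multiset.mem_singleton] at ha
    rcases ha with rfl | rfl | rfl
    · exact hr.two_le
    · exact le_rfl
    · exact le_rfl)
  have hodd : Odd r := hr.odd_of_ne_two hr2
  have hs : sign g = 1 := by
    rw [sign_of_cycleType, hg]
    simp only [Multiset.insert_eq_cons, Multiset.sum_cons, Multiset.sum_singleton, Multiset.card_cons,
      Multiset.card_singleton]
    obtain ⟨c, rfl⟩ := hodd
    exact Even.neg_one_pow ⟨c + 4, by omega⟩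
  have ho : orderOf g = 2 * r := by
    rw [← lcm_cycleType, hg]
    simp only [Multiset.insert_eq_cons, Multiset.lcm_cons, Multiset.lcm_singleton, normalize_eq]
    rw [lcm_same, normalize_eq]
    show Nat.lcm r 2 = 2 * r
    rw [Nat.Coprime.lcm_eq_mul (Nat.coprime_two_right.2 hodd), mul_comm]
  let g' : alternatingGroup (Fin k) := ⟨g, mem_alternatingGroup.2 hs⟩
  have ho' : orderOf g' = 2 * r := by rw [← ho]; exact Subgroup.orderOf_mk g _
  refine ⟨g' ^ 2, ?_, g' ^ r, ?_, (Commute.refl g').pow_pow _ _⟩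
  · rw [orderOf_pow_of_dvd (by norm_num) (by rw [ho']; exact dvd_mul_right _ _), ho']
    exact Nat.mul_div_cancel_left _ (by norm_num)
  · rw [orderOf_pow_of_dvd hr.ne_zero (by rw [ho']; exact dvd_mul_left _ _), ho']
    exact Nat.mul_div_cancel _ hr.pos

theorem exists_fus {k r : ℕ} (hr : r.Prime) (hr2 : r ≠ 2) (h : r ≤ k) :
    ∃ y : alternatingGroup (Fin k), orderOf y = r ∧
      ∀ j : ℕ, ¬ r ∣ j → IsConj y (y ^ (j ^ 2)) := by
  obtain ⟨g, hg⟩ := exists_perm (k := k) (m := {r}) (by simpa using h) (by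
    intro a ha
    rw [Multiset.mem_singleton] at ha
    rw [ha]; exact hr.two_le)
  have hodd : Odd r := hr.odd_of_ne_two hr2
  have hs : sign g = 1 := by
    rw [sign_of_cycleType, hg]
    simp only [Multiset.sum_singleton, Multiset.card_singleton]
    exact (hodd.add_odd odd_one).neg_one_pow
  have ho : orderOf g = r := by
    rw [← lcm_cycleType, hg, Multiset.lcm_singleton, normalize_eq]
  let g' : alternatingGroup (Fin k) := ⟨g, mem_alternatingGroup.2 hs⟩
  have ho' : orderOf g' = r := by rw [← ho]; exact Subgroup.orderOf_mk g _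
  refine ⟨g', ho', fun j hj => ?_⟩
  have hcop : Nat.Coprime (orderOf g) j := by rw [ho]; exact (Nat.Prime.coprime_iff_not_dvd hr).2 hj
  have hct : (g ^ j).cycleType = g.cycleType := by
    have hgc : g.IsCycle := by
      rw [← card_cycleType_eq_one, hg, Multiset.card_singleton]
    have h1 : (g ^ j).IsCycle := by
      rw [hgc.pow_iff]
      exact hcop.symm
    rw [h1.cycleType, hgc.cycleType, support_pow_coprime hcop.symm]
  have hconj : IsConj g (g ^ j) := isConj_iff_cycleType_eq.2 hct.symm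
  obtain ⟨c, hc⟩ := isConj_iff.1 hconj
  have h2 : ∀ i : ℕ, c * g ^ i * c⁻¹ = g ^ (j * i) := by
    intro i
    rw [← conj_pow, hc, pow_mul]
  have h3 : (c * c) * g * (c * c)⁻¹ = g ^ (j ^ 2) := by
    calc (c * c) * g * (c * c)⁻¹ = c * (c * g * c⁻¹) * c⁻¹ := by group
      _ = g ^ (j ^ 2) := by rw [hc, h2, sq]
  rw [isConj_iff]
  refine ⟨⟨c * c, mem_alternatingGroup.2 ?_⟩, Subtype.ext h3⟩
  rw [Equiv.Perm.sign_mul]
  exact Int.units_mul_self _

end Cfsg.Agent.H429.AltFus
end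

-- part: H429/CS/AltNum
section
/-!
# The arithmetic of the alternating case (helper429, S3677)
-/

set_option autoImplicit false

namespace Cfsg.Agent.H429.AltNum

open Cfsg.Agent.H902.Lte Cfsg.Agent.H902.Art
open Cfsg.Agent.H364.SpVal Cfsg.Agent.H364.SpIneq Cfsg.Agent.H364.SpPrim
  Cfsg.Agent.H364.SpTot Cfsg.Agent.H364.SpSmall

/-- the start of the range of `q` -/
def l1 : List ℕ := [54, 453, 36, 76, 23, 45, 17, 27, 13, 18, 10, 13, 9, 11, 8, 9, 7, 8, 6, 7, 6, 6, 5, 6, 5, 5, 5, 5, 4, 5, 4, 4, 4, 4, 4, 4, 4, 4, 4, 4, 4, 4, 3, 4]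

def q1 (n : ℕ) : ℕ := if n < 5 then 2 else (l1[n - 5]?).getD (if n < 107 then 3 else 2)

/-- lower bound for `ss n` -/
def sl (n : ℕ) : ℕ := (7 * n ^ 2 - 6 * n + 35) / 36

/-- factorial by a fold -/
def fa (n : ℕ) : ℕ := (List.range n).foldl (fun a i => a * (i + 1)) 1

def c1 (n : ℕ) : Bool := decide (2 * (lam n * fa (4 * n + 4)) < (q1 n ^ 2 - 1) ^ sl n * q1 n ^ cn n) && decide (2 ≤ q1 n)

def c2 (n q : ℕ) : Bool := good n q (te n q) && (2 * fa (4 * n + 4)) % (q ^ cn n * te n q) != 0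

private noncomputable def _root_.Cfsg.Agent.KOe86a5e9.k0 : type_of% @Decidable.decide := @(fun x0 x1 => @Decidable.rec.{1} _ @(fun x2 => @Bool) @(fun x2 => @Bool.false) @(fun x2 => @Bool.true) @x1)
private theorem _root_.Cfsg.Agent.KOe86a5e9.e0 : @Decidable.decide = @_root_.Cfsg.Agent.KOe86a5e9.k0 := by delta _root_.Cfsg.Agent.KOe86a5e9.k0; rfl'
private theorem _root_.Cfsg.Agent.KOe86a5e9.e1.{ku, kv} {α : Type kv} {M : List α → Sort ku} (φ : ∀ l, M l) {z : M List.nil} {s : ∀ a l, M l → M (List.cons a l)} (h0 : φ List.nil = z) (hs : ∀ a l, φ (List.cons a l) = s a l (φ l)) (l : List α) : φ l = @List.rec α M z s l := List.rec h0 (fun a l ih => (hs a l).trans (congrArg (s a l) ih)) l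
private noncomputable def _root_.Cfsg.Agent.KOe86a5e9.k2.{ku0} : type_of% @List.decidableBAll.{ku0} := @(fun x0 x1 x2 x3 => @List.rec.{1, ku0} @x0 @(fun x4 => @Decidable ((x5 : @x0) → (@Membership.mem.{ku0, ku0} _ _ _ @x4 @x5) → @x1 @x5)) (@Decidable.isTrue _ (@List.decidableBAll._proof_1.{ku0} _ @x1)) @(fun x4 x5 x6 => @Decidable.rec.{1} _ @(fun x7 => @Decidable ((x8 : @x0) → (@Membership.mem.{ku0, ku0} _ _ _ (@x4 :: @x5) @x8) → @x1 @x8)) @(fun x7 => @Decidable.isFalse _ (@List.decidableBAll._proof_4.{ku0} _ @x1 @x4 @x5 @x7)) @(fun x7 => @Decidable.rec.{1} _ @(fun x8 => @Decidable ((x9 : @x0) → (@Membership.mem.{ku0, ku0} _ _ _ (@x4 :: @x5) @x9) → @x1 @x9)) @(fun x8 => @Decidable.isFalse _ (@List.decidableBAll._proof_3.{ku0} _ @x1 @x4 @x5 @x8)) @(fun x8 => @Decidable.isTrue _ (@List.decidableBAll._proof_2.{ku0} _ @x1 @x4 @x5 @x7 @x8)) @x6) (@x2 @x4)) @x3)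
private theorem _root_.Cfsg.Agent.KOe86a5e9.e2.{ku0} : @List.decidableBAll.{ku0} = @_root_.Cfsg.Agent.KOe86a5e9.k2.{ku0} := by delta _root_.Cfsg.Agent.KOe86a5e9.k2; funext a0 a1 a2 a3; refine (_root_.Cfsg.Agent.KOe86a5e9.e1 (fun a3 => @List.decidableBAll.{ku0} a0 a1 a2 a3) ?_ (fun c0 c1 => ?_) a3 :) <;> (rfl')
private noncomputable def _root_.Cfsg.Agent.KOe86a5e9.k3 : type_of% @instDecidableOr := @(fun x0 x1 x2 x3 => @Decidable.rec.{1} _ @(fun x4 => @Decidable (@Or @x0 @x1)) @(fun x4 => @Decidable.rec.{1} _ @(fun x5 => @Decidable (@Or @x0 @x1)) @(fun x5 => @Decidable.isFalse _ (@instDecidableOr._proof_1 _ _ @x4 @x5)) @(fun x5 => @Decidable.isTrue _ (@Or.inr _ _ @x5)) @x3) @(fun x4 => @Decidable.isTrue _ (@Or.inl _ _ @x4)) @x2)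
private theorem _root_.Cfsg.Agent.KOe86a5e9.e3 : @instDecidableOr = @_root_.Cfsg.Agent.KOe86a5e9.k3 := by delta _root_.Cfsg.Agent.KOe86a5e9.k3; rfl'
private noncomputable def _root_.Cfsg.Agent.KOe86a5e9.k4 : type_of% @Bool.decEq := @(fun x0 x1 => @Bool.rec.{1} @(fun x2 => @Decidable (@Eq.{1} _ @x2 @x1)) (@Bool.rec.{1} @(fun x2 => @Decidable (@Eq.{1} _ @Bool.false @x2)) (@Decidable.isTrue _ (@rfl.{1} _ _)) (@Decidable.isFalse _ @(fun x2 => @Bool.noConfusion.{0} _ _ _ @x2)) @x1) (@Bool.rec.{1} @(fun x2 => @Decidable (@Eq.{1} _ @Bool.true @x2)) (@Decidable.isFalse _ @(fun x2 => @Bool.noConfusion.{0} _ _ _ @x2)) (@Decidable.isTrue _ (@rfl.{1} _ _)) @x1) @x0)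
private theorem _root_.Cfsg.Agent.KOe86a5e9.e4 : @Bool.decEq = @_root_.Cfsg.Agent.KOe86a5e9.k4 := by delta _root_.Cfsg.Agent.KOe86a5e9.k4; rfl'
private noncomputable def _root_.Cfsg.Agent.KOe86a5e9.k5 : type_of% @Nat.decLe := @(fun x0 x1 => @Decidable.rec.{1} _ @(fun x2 => @Decidable (@LE.le.{0} _ _ @x0 @x1)) @(fun x2 => @Decidable.isFalse _ (@Nat.not_le_of_not_ble_eq_true _ _ @x2)) @(fun x2 => @Decidable.isTrue _ (@Nat.le_of_ble_eq_true _ _ @x2)) (@Cfsg.Agent.KOe86a5e9.k4 (@Nat.ble @x0 @x1) @Bool.true))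
private theorem _root_.Cfsg.Agent.KOe86a5e9.e5 : @Nat.decLe = @_root_.Cfsg.Agent.KOe86a5e9.k5 := by delta _root_.Cfsg.Agent.KOe86a5e9.k5; rewrite [← Cfsg.Agent.KOe86a5e9.e4]; rfl'
private noncomputable def _root_.Cfsg.Agent.KOe86a5e9.k6 : type_of% @Nat.decLt := @(fun x0 x1 => @Cfsg.Agent.KOe86a5e9.k5 (@Nat.succ @x0) @x1)
private theorem _root_.Cfsg.Agent.KOe86a5e9.e6 : @Nat.decLt = @_root_.Cfsg.Agent.KOe86a5e9.k6 := by delta _root_.Cfsg.Agent.KOe86a5e9.k6; rewrite [← Cfsg.Agent.KOe86a5e9.e5]; rfl'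
private noncomputable def _root_.Cfsg.Agent.KOe86a5e9.k7 : type_of% @instDecidableEqBool := @Cfsg.Agent.KOe86a5e9.k4
private theorem _root_.Cfsg.Agent.KOe86a5e9.e7 : @instDecidableEqBool = @_root_.Cfsg.Agent.KOe86a5e9.k7 := by delta _root_.Cfsg.Agent.KOe86a5e9.k7; rewrite [← Cfsg.Agent.KOe86a5e9.e4]; rfl'
private noncomputable def _root_.Cfsg.Agent.KOe86a5e9.oLe.{ku} (α : Sort ku) (a b : Nat) (f t : α) : α := @Decidable.rec (@LE.le Nat instLENat a b) (fun _ => α) (fun _ => f) (fun _ => t) (Nat.decLe a b)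
private noncomputable def _root_.Cfsg.Agent.KOe86a5e9.k8.{ku} (α : Sort ku) (a b : Nat) (f t : α) : α := @Bool.rec (fun _ => α) f t (Nat.ble a b)
private theorem _root_.Cfsg.Agent.KOe86a5e9.e8.{ku} : @_root_.Cfsg.Agent.KOe86a5e9.oLe.{ku} = @_root_.Cfsg.Agent.KOe86a5e9.k8.{ku} := funext fun α => funext fun a => funext fun b => funext fun f => funext fun t => by delta _root_.Cfsg.Agent.KOe86a5e9.oLe _root_.Cfsg.Agent.KOe86a5e9.k8; cases h : Nat.ble a b <;> cases Nat.decLe a b <;> rename_i g <;> first | rfl | exact absurd (h.symm.trans (Nat.ble_eq_true_of_le g)) Bool.false_ne_true | exact absurd (Nat.le_of_ble_eq_true h) g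
private noncomputable def _root_.Cfsg.Agent.KOe86a5e9.k10.{ku0} : type_of% @List.get?Internal.{ku0} := @(fun x0 x1 x2 => @List.rec.{(ku0+1), ku0} @x0 @(fun x3 => ℕ → @Option.{ku0} @x0) @(fun x3 => @Option.none.{ku0} _) @(fun x3 x4 x5 x6 => @Nat.rec.{(ku0+1)} @(fun x7 => @Option.{ku0} @x0) (@Option.some.{ku0} _ @x3) @(fun x7 x8 => @x5 @x7) @x6) @x1 @x2)
private theorem _root_.Cfsg.Agent.KOe86a5e9.e10.{ku0} : @List.get?Internal.{ku0} = @_root_.Cfsg.Agent.KOe86a5e9.k10.{ku0} := by delta _root_.Cfsg.Agent.KOe86a5e9.k10; funext a0 a1 a2; refine (congrFun (_root_.Cfsg.Agent.KOe86a5e9.e1 (fun a1 a2 => @List.get?Internal.{ku0} a0 a1 a2) ?_ (fun c0 c1 => ?_) a1) a2 :) <;> [(funext b0; (rfl')); (funext b0; (cases b0 with | @zero  => (rfl') | @succ b0_0 => (rfl')))]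
private noncomputable def _root_.Cfsg.Agent.KOe86a5e9.k11 : (by first | exact type_of% @Cfsg.Agent.H429.AltNum.q1 | exact Unit : Sort _) := by first | (refine @Subtype.val _ (fun g => @Cfsg.Agent.H429.AltNum.q1 = @g) (@Subtype.mk _ _ (@(fun x0 => @Cfsg.Agent.KOe86a5e9.k8.{1} ℕ (@Nat.succ @x0) (nat_lit 5) (@Option.rec.{1, 0} ℕ @(fun x1 => ℕ) (@Cfsg.Agent.KOe86a5e9.k8.{1} ℕ (@Nat.succ @x0) (nat_lit 107) (nat_lit 2) (nat_lit 3)) @(fun x1 => @x1) (@Cfsg.Agent.KOe86a5e9.k10.{0} _ @Cfsg.Agent.H429.AltNum.l1 (@Nat.sub @x0 (nat_lit 5)))) (nat_lit 2))) ?_); rewrite [← Cfsg.Agent.KOe86a5e9.e10.{0}, ← Cfsg.Agent.KOe86a5e9.e8.{1}]; (try delta Cfsg.Agent.H429.AltNum.q1); (try generalize @Cfsg.Agent.H429.AltNum.l1 = g0); rfl') | exact @Cfsg.Agent.H429.AltNum.q1 | exact ()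
private theorem _root_.Cfsg.Agent.KOe86a5e9.e11 : (by first | exact @Cfsg.Agent.H429.AltNum.q1 = @_root_.Cfsg.Agent.KOe86a5e9.k11 | exact True : Prop) := by first | (delta _root_.Cfsg.Agent.KOe86a5e9.k11; exact @Subtype.property _ (fun g => @Cfsg.Agent.H429.AltNum.q1 = @g) _) | rfl | trivial
private noncomputable def _root_.Cfsg.Agent.KOe86a5e9.k13.{ku0, ku1} : type_of% @Multiset.foldr.{ku0, ku1} := @(fun x0 x1 x2 x3 x4 x5 => @Quot.lift.{(ku1+1), (ku0+1)} _ _ _ @(fun x6 => @List.foldr.{ku1, ku0} _ _ @x2 @x4 @x6) @(fun x6 x7 x8 => @List.Perm.foldr_eq.{ku1, ku0} _ _ _ _ _ _ @x8 @x4) @x5)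
private theorem _root_.Cfsg.Agent.KOe86a5e9.e13.{ku0, ku1} : @Multiset.foldr.{ku0, ku1} = @_root_.Cfsg.Agent.KOe86a5e9.k13.{ku0, ku1} := by delta _root_.Cfsg.Agent.KOe86a5e9.k13; rfl'
private noncomputable def _root_.Cfsg.Agent.KOe86a5e9.k14.{ku0} : type_of% @Multiset.prod.{ku0} := @(fun x0 x1 => @Cfsg.Agent.KOe86a5e9.k13.{ku0, ku0} _ _ @(fun x2 x3 => @Mul.mul.{ku0} _ (@Semigroup.toMul.{ku0} _ (@Monoid.toSemigroup.{ku0} _ (@CommMonoid.toMonoid.{ku0} _ @x1))) @x2 @x3) (@Multiset.prod._proof_1.{ku0} _ _) (@One.one.{ku0} _ (@Monoid.toOne.{ku0} _ (@CommMonoid.toMonoid.{ku0} _ @x1))))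
private theorem _root_.Cfsg.Agent.KOe86a5e9.e14.{ku0} : @Multiset.prod.{ku0} = @_root_.Cfsg.Agent.KOe86a5e9.k14.{ku0} := by delta _root_.Cfsg.Agent.KOe86a5e9.k14; rewrite [← Cfsg.Agent.KOe86a5e9.e13.{ku0, ku0}]; rfl'
private theorem _root_.Cfsg.Agent.KOe86a5e9.e16.{ku} {M : Nat → Sort ku} (φ : ∀ n, M n) {z : M Nat.zero} {s : ∀ n, M n → M (Nat.succ n)} (h0 : φ Nat.zero = z) (hs : ∀ n, φ (Nat.succ n) = s n (φ n)) (n : Nat) : φ n = @Nat.rec M z s n := Nat.rec h0 (fun n ih => (hs n).trans (congrArg (s n) ih)) n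
private noncomputable def _root_.Cfsg.Agent.KOe86a5e9.k17 : type_of% @List.range' := @(fun x0 x1 x2 => @Nat.rec.{1} @(fun x3 => ℕ → ℕ → @List.{0} ℕ) @(fun x3 x4 => []) @(fun x3 x4 x5 x6 => @x5 :: (@x4 (@Nat.add @x5 @x6) @x6)) @x1 @x0 @x2)
private theorem _root_.Cfsg.Agent.KOe86a5e9.e17 : @List.range' = @_root_.Cfsg.Agent.KOe86a5e9.k17 := by delta _root_.Cfsg.Agent.KOe86a5e9.k17; funext a0 a1 a2; refine (congrFun (congrFun (_root_.Cfsg.Agent.KOe86a5e9.e16 (fun a1 a0 a2 => @List.range' a0 a1 a2) ?_ (fun c0 => ?_) a1) a0) a2 :) <;> (rfl')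
private noncomputable def _root_.Cfsg.Agent.KOe86a5e9.k18 : (by first | exact type_of% @Cfsg.Agent.H364.SpPrim.lam | exact Unit : Sort _) := by first | (refine @Subtype.val _ (fun g => @Cfsg.Agent.H364.SpPrim.lam = @g) (@Subtype.mk _ _ (@(fun x0 => @Cfsg.Agent.KOe86a5e9.k14.{0} _ @Nat.instCommMonoid (@Quot.lift.{1, 1} _ _ _ @(fun x1 => @Quot.mk.{1} _ (@Setoid.r.{1} _ _) (@List.map.{0, 0} _ _ @(fun x2 => @x2) @x1)) (@Multiset.map._proof_1.{0, 0} _ _ @(fun x1 => @x1)) (@Quot.mk.{1} _ (@Setoid.r.{1} _ _) (@Cfsg.Agent.KOe86a5e9.k17 (@Nat.add (@Nat.div @x0 (nat_lit 2)) (nat_lit 1)) (@Nat.sub @x0 (@Nat.div @x0 (nat_lit 2))) (nat_lit 1)))))) ?_); rewrite [← Cfsg.Agent.KOe86a5e9.e17, ← Cfsg.Agent.KOe86a5e9.e14.{0}]; rfl') | exact @Cfsg.Agent.H364.SpPrim.lam | exact ()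
private theorem _root_.Cfsg.Agent.KOe86a5e9.e18 : (by first | exact @Cfsg.Agent.H364.SpPrim.lam = @_root_.Cfsg.Agent.KOe86a5e9.k18 | exact True : Prop) := by first | (delta _root_.Cfsg.Agent.KOe86a5e9.k18; exact @Subtype.property _ (fun g => @Cfsg.Agent.H364.SpPrim.lam = @g) _) | rfl | trivial
private noncomputable def _root_.Cfsg.Agent.KOe86a5e9.k19.{ku0, ku1} : type_of% @List.foldl.{ku0, ku1} := @(fun x0 x1 x2 x3 x4 => @List.rec.{(ku0+1), ku1} @x1 @(fun x5 => @x0 → @x0) @(fun x5 => @x5) @(fun x5 x6 x7 x8 => @x7 (@x2 @x8 @x5)) @x4 @x3)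
private theorem _root_.Cfsg.Agent.KOe86a5e9.e19.{ku0, ku1} : @List.foldl.{ku0, ku1} = @_root_.Cfsg.Agent.KOe86a5e9.k19.{ku0, ku1} := by delta _root_.Cfsg.Agent.KOe86a5e9.k19; funext a0 a1 a2 a3 a4; refine (congrFun (_root_.Cfsg.Agent.KOe86a5e9.e1 (fun a4 a3 => @List.foldl.{ku0, ku1} a0 a1 a2 a3 a4) ?_ (fun c0 c1 => ?_) a4) a3 :) <;> (rfl')
private noncomputable def _root_.Cfsg.Agent.KOe86a5e9.k20 : type_of% @List.range.loop := @(fun x0 x1 => @Nat.rec.{1} @(fun x2 => (@List.{0} ℕ) → @List.{0} ℕ) @(fun x2 => @x2) @(fun x2 x3 x4 => @x3 (@x2 :: @x4)) @x0 @x1)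
private theorem _root_.Cfsg.Agent.KOe86a5e9.e20 : @List.range.loop = @_root_.Cfsg.Agent.KOe86a5e9.k20 := by delta _root_.Cfsg.Agent.KOe86a5e9.k20; funext a0 a1; refine (congrFun (_root_.Cfsg.Agent.KOe86a5e9.e16 (fun a0 a1 => @List.range.loop a0 a1) ?_ (fun c0 => ?_) a0) a1 :) <;> (rfl')
private noncomputable def _root_.Cfsg.Agent.KOe86a5e9.k21 : (by first | exact type_of% @Cfsg.Agent.H429.AltNum.fa | exact Unit : Sort _) := by first | (refine @Subtype.val _ (fun g => @Cfsg.Agent.H429.AltNum.fa = @g) (@Subtype.mk _ _ (@(fun x0 => @Cfsg.Agent.KOe86a5e9.k19.{0, 0} _ _ @(fun x1 x2 => @Nat.mul @x1 (@Nat.add @x2 (nat_lit 1))) (nat_lit 1) (@Cfsg.Agent.KOe86a5e9.k20 @x0 []))) ?_); rewrite [← Cfsg.Agent.KOe86a5e9.e20, ← Cfsg.Agent.KOe86a5e9.e19.{0, 0}]; rfl') | exact @Cfsg.Agent.H429.AltNum.fa | exact ()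
private theorem _root_.Cfsg.Agent.KOe86a5e9.e21 : (by first | exact @Cfsg.Agent.H429.AltNum.fa = @_root_.Cfsg.Agent.KOe86a5e9.k21 | exact True : Prop) := by first | (delta _root_.Cfsg.Agent.KOe86a5e9.k21; exact @Subtype.property _ (fun g => @Cfsg.Agent.H429.AltNum.fa = @g) _) | rfl | trivial
private noncomputable def _root_.Cfsg.Agent.KOe86a5e9.k22 : (by first | exact type_of% @Cfsg.Agent.H429.AltNum.sl | exact Unit : Sort _) := by first | (refine @Subtype.val _ (fun g => @Cfsg.Agent.H429.AltNum.sl = @g) (@Subtype.mk _ _ (@(fun x0 => @Nat.div (@Nat.add (@Nat.sub (@Nat.mul (nat_lit 7) (@Nat.pow @x0 (nat_lit 2))) (@Nat.mul (nat_lit 6) @x0)) (nat_lit 35)) (nat_lit 36))) ?_); rfl') | exact @Cfsg.Agent.H429.AltNum.sl | exact ()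
private theorem _root_.Cfsg.Agent.KOe86a5e9.e22 : (by first | exact @Cfsg.Agent.H429.AltNum.sl = @_root_.Cfsg.Agent.KOe86a5e9.k22 | exact True : Prop) := by first | (delta _root_.Cfsg.Agent.KOe86a5e9.k22; exact @Subtype.property _ (fun g => @Cfsg.Agent.H429.AltNum.sl = @g) _) | rfl | trivial
private noncomputable def _root_.Cfsg.Agent.KOe86a5e9.oEq.{ku} (α : Sort ku) (a b : Nat) (f t : α) : α := @Decidable.rec (a = b) (fun _ => α) (fun _ => f) (fun _ => t) (Nat.decEq a b)
private noncomputable def _root_.Cfsg.Agent.KOe86a5e9.k23.{ku} (α : Sort ku) (a b : Nat) (f t : α) : α := @Bool.rec (fun _ => α) f t (Nat.beq a b)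
private theorem _root_.Cfsg.Agent.KOe86a5e9.e23.{ku} : @_root_.Cfsg.Agent.KOe86a5e9.oEq.{ku} = @_root_.Cfsg.Agent.KOe86a5e9.k23.{ku} := funext fun α => funext fun a => funext fun b => funext fun f => funext fun t => by delta _root_.Cfsg.Agent.KOe86a5e9.oEq _root_.Cfsg.Agent.KOe86a5e9.k23; cases h : Nat.beq a b <;> cases Nat.decEq a b <;> rename_i g <;> first | rfl | exact absurd g (Nat.ne_of_beq_eq_false h) | exact absurd (Nat.eq_of_beq_eq_true h) g
private noncomputable def _root_.Cfsg.Agent.KOe86a5e9.k24 : (by first | exact type_of% @Cfsg.Agent.H364.SpIneq.cn | exact Unit : Sort _) := by first | (refine @Subtype.val _ (fun g => @Cfsg.Agent.H364.SpIneq.cn = @g) (@Subtype.mk _ _ (@(fun x0 => @Cfsg.Agent.KOe86a5e9.k23.{1} ℕ (@Nat.mod @x0 (nat_lit 2)) (nat_lit 1) (nat_lit 0) @x0)) ?_); rewrite [← Cfsg.Agent.KOe86a5e9.e23.{1}]; rfl') | exact @Cfsg.Agent.H364.SpIneq.cn | exact ()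
private theorem _root_.Cfsg.Agent.KOe86a5e9.e24 : (by first | exact @Cfsg.Agent.H364.SpIneq.cn = @_root_.Cfsg.Agent.KOe86a5e9.k24 | exact True : Prop) := by first | (delta _root_.Cfsg.Agent.KOe86a5e9.k24; exact @Subtype.property _ (fun g => @Cfsg.Agent.H364.SpIneq.cn = @g) _) | rfl | trivial
private noncomputable def _root_.Cfsg.Agent.KOe86a5e9.k25 : (by first | exact type_of% @Cfsg.Agent.H429.AltNum.c1 | exact Unit : Sort _) := by first | (refine @Subtype.val _ (fun g => @Cfsg.Agent.H429.AltNum.c1 = @g) (@Subtype.mk _ _ (@(fun x0 => @Bool.rec.{1} @(fun x1 => @Bool) @Bool.false (@Cfsg.Agent.KOe86a5e9.k8.{1} @Bool (nat_lit 2) (@Cfsg.Agent.KOe86a5e9.k11 @x0) @Bool.false @Bool.true) (@Cfsg.Agent.KOe86a5e9.k8.{1} @Bool (@Nat.succ (@Nat.mul (nat_lit 2) (@Nat.mul (@Cfsg.Agent.KOe86a5e9.k18 @x0) (@Cfsg.Agent.KOe86a5e9.k21 (@Nat.add (@Nat.mul (nat_lit 4) @x0) (nat_lit 4)))))) (@Nat.mul (@Nat.pow (@Nat.sub (@Nat.pow (@Cfsg.Agent.KOe86a5e9.k11 @x0) (nat_lit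 2)) (nat_lit 1)) (@Cfsg.Agent.KOe86a5e9.k22 @x0)) (@Nat.pow (@Cfsg.Agent.KOe86a5e9.k11 @x0) (@Cfsg.Agent.KOe86a5e9.k24 @x0))) @Bool.false @Bool.true))) ?_); rewrite [← Cfsg.Agent.KOe86a5e9.e24, ← Cfsg.Agent.KOe86a5e9.e22, ← Cfsg.Agent.KOe86a5e9.e21, ← Cfsg.Agent.KOe86a5e9.e18, ← Cfsg.Agent.KOe86a5e9.e11, ← Cfsg.Agent.KOe86a5e9.e8.{1}]; (try delta Cfsg.Agent.H429.AltNum.c1); (try generalize @Cfsg.Agent.H429.AltNum.q1 = g0); (try generalize @Cfsg.Agent.H364.SpPrim.lam = g1); (try generalize @Cfsg.Agent.H429.AltNum.fa = g2); (try generalize @Cfsg.Agent.H429.AltNum.sl = g3); (try generalize @Cfsg.Agent.H364.SpIneq.cn = g4); rfl') | exact @Cfsg.Agent.H429.AltNum.c1 | exact ()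
private theorem _root_.Cfsg.Agent.KOe86a5e9.e25 : (by first | exact @Cfsg.Agent.H429.AltNum.c1 = @_root_.Cfsg.Agent.KOe86a5e9.k25 | exact True : Prop) := by first | (delta _root_.Cfsg.Agent.KOe86a5e9.k25; exact @Subtype.property _ (fun g => @Cfsg.Agent.H429.AltNum.c1 = @g) _) | rfl | trivial
private noncomputable def _root_.Cfsg.Agent.KOe86a5e9.k26 : type_of% @List.range := @(fun x0 => @Cfsg.Agent.KOe86a5e9.k20 @x0 [])
private theorem _root_.Cfsg.Agent.KOe86a5e9.e26 : @List.range = @_root_.Cfsg.Agent.KOe86a5e9.k26 := by delta _root_.Cfsg.Agent.KOe86a5e9.k26; rewrite [← Cfsg.Agent.KOe86a5e9.e20]; rfl'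

theorem c1_all : ∀ n ∈ List.range 150, n < 5 ∨ c1 n = true := by
  (first | (refine of_decide_eq_true ?_; rewrite [Cfsg.Agent.KOe86a5e9.e0, Cfsg.Agent.KOe86a5e9.e2.{0}, Cfsg.Agent.KOe86a5e9.e3, Cfsg.Agent.KOe86a5e9.e6, Cfsg.Agent.KOe86a5e9.e7, Cfsg.Agent.KOe86a5e9.e25, Cfsg.Agent.KOe86a5e9.e26]; decide +kernel) | decide +kernel)

private noncomputable def _root_.Cfsg.Agent.KOe86a5e9.k27 : (by first | exact type_of% @Cfsg.Agent.H364.SpSmall.strip | exact Unit : Sort _) := by first | (refine @Subtype.val _ (fun g => @Cfsg.Agent.H364.SpSmall.strip = @g) (@Subtype.mk _ _ (@(fun x0 x1 x2 => @Nat.rec.{1} @(fun x3 => ℕ → ℕ → ℕ) @(fun x3 x4 => @x3) @(fun x3 x4 x5 x6 => (let x7 : ℕ := @Nat.gcd @x5 @x6; @Cfsg.Agent.KOe86a5e9.k23.{1} ℕ (@Nat.gcd @x5 @x6) (nat_lit 1) (@x4 (@Nat.div @x5 @x7) @x6) @x5)) @x0 @x1 @x2)) ?_); rewrite [← Cfsg.Agent.KOe86a5e9.e23.{1}]; funext a0 a1 a2; refine (congrFun (congrFun (_root_.Cfsg.Agent.KOe86a5e9.e16 (fun a0 a1 a2 =>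 @Cfsg.Agent.H364.SpSmall.strip a0 a1 a2) ?_ (fun c0 => ?_) a0) a1) a2 :) <;> (rfl')) | exact @Cfsg.Agent.H364.SpSmall.strip | exact ()
private theorem _root_.Cfsg.Agent.KOe86a5e9.e27 : (by first | exact @Cfsg.Agent.H364.SpSmall.strip = @_root_.Cfsg.Agent.KOe86a5e9.k27 | exact True : Prop) := by first | (delta _root_.Cfsg.Agent.KOe86a5e9.k27; exact @Subtype.property _ (fun g => @Cfsg.Agent.H364.SpSmall.strip = @g) _) | rfl | trivial
private noncomputable def _root_.Cfsg.Agent.KOe86a5e9.k28 : (by first | exact type_of% @Cfsg.Agent.H364.SpVal.AA | exact Unit : Sort _) := by first | (refine @Subtype.val _ (fun g => @Cfsg.Agent.H364.SpVal.AA = @g) (@Subtype.mk _ _ (@(fun x0 x1 => @Cfsg.Agent.KOe86a5e9.k14.{0} _ @Nat.instCommMonoid (@Quot.lift.{1, 1} _ _ _ @(fun x2 => @Quot.mk.{1} _ (@Setoid.r.{1} _ _) (@List.map.{0, 0} _ _ @(fun x3 => @Nat.sub (@Nat.pow @x1 (@Nat.mul (nat_lit 2) (@Nat.add @x3 (nat_lit 1)))) (nat_lit 1)) @x2)) (@Multiset.map._proof_1.{0,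 0} _ _ @(fun x2 => @HSub.hSub.{0, 0, 0} _ _ _ _ (@HPow.hPow.{0, 0, 0} _ _ _ _ @x1 (@HMul.hMul.{0, 0, 0} _ _ _ _ ((2 : ℕ)) (@HAdd.hAdd.{0, 0, 0} _ _ _ _ @x2 ((1 : ℕ))))) ((1 : ℕ)))) (@Quot.mk.{1} _ (@Setoid.r.{1} _ _) (@Cfsg.Agent.KOe86a5e9.k20 @x0 []))))) ?_); rewrite [← Cfsg.Agent.KOe86a5e9.e20, ← Cfsg.Agent.KOe86a5e9.e14.{0}]; rfl') | exact @Cfsg.Agent.H364.SpVal.AA | exact ()
private theorem _root_.Cfsg.Agent.KOe86a5e9.e28 : (by first | exact @Cfsg.Agent.H364.SpVal.AA = @_root_.Cfsg.Agent.KOe86a5e9.k28 | exact True : Prop) := by first | (delta _root_.Cfsg.Agent.KOe86a5e9.k28; exact @Subtype.property _ (fun g => @Cfsg.Agent.H364.SpVal.AA = @g) _) | rfl | trivial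
private noncomputable def _root_.Cfsg.Agent.KOe86a5e9.k29 : (by first | exact type_of% @Cfsg.Agent.H364.SpSmall.te | exact Unit : Sort _) := by first | (refine @Subtype.val _ (fun g => @Cfsg.Agent.H364.SpSmall.te = @g) (@Subtype.mk _ _ (@(fun x0 x1 => @Cfsg.Agent.KOe86a5e9.k27 (nat_lit 40) (@Cfsg.Agent.KOe86a5e9.k28 @x0 @x1) (@Cfsg.Agent.KOe86a5e9.k28 (@Nat.div @x0 (nat_lit 2)) @x1))) ?_); rewrite [← Cfsg.Agent.KOe86a5e9.e28, ← Cfsg.Agent.KOe86a5e9.e27]; (try delta Cfsg.Agent.H364.SpSmall.te); (try generalize @Cfsg.Agent.H364.SpSmall.strip = g0); (try generalize @Cfsg.Agent.H364.SpVal.AA = g1); rfl') | exact @Cfsg.Agent.H364.SpSmall.te | exact ()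
private theorem _root_.Cfsg.Agent.KOe86a5e9.e29 : (by first | exact @Cfsg.Agent.H364.SpSmall.te = @_root_.Cfsg.Agent.KOe86a5e9.k29 | exact True : Prop) := by first | (delta _root_.Cfsg.Agent.KOe86a5e9.k29; exact @Subtype.property _ (fun g => @Cfsg.Agent.H364.SpSmall.te = @g) _) | rfl | trivial
private noncomputable def _root_.Cfsg.Agent.KOe86a5e9.k30 : (by first | exact type_of% @Cfsg.Agent.H364.SpSmall.good | exact Unit : Sort _) := by first | (refine @Subtype.val _ (fun g => @Cfsg.Agent.H364.SpSmall.good = @g) (@Subtype.mk _ _ (@(fun x0 x1 x2 => @Bool.rec.{1} @(fun x3 => @Bool) @Bool.false (@Cfsg.Agent.KOe86a5e9.k23.{1} @Bool (@Nat.gcd @x2 (@Cfsg.Agent.KOe86a5e9.k28 (@Nat.div @x0 (nat_lit 2)) @x1)) (nat_lit 1) @Bool.false @Bool.true) (@Cfsg.Agent.KOe86a5e9.k23.{1} @Bool (@Nat.mod (@Cfsg.Agent.KOe86a5e9.k28 @x0 @x1) @x2) (nat_lit 0) @Bool.false @Bool.true))) ?_); rewrite [← Cfsg.Agent.KOe86a5e9.e28, ← Cfsg.Agent.KOe86a5e9.e23.{1}]; (try delta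 Cfsg.Agent.H364.SpSmall.good); (try generalize @Cfsg.Agent.H364.SpVal.AA = g0); rfl') | exact @Cfsg.Agent.H364.SpSmall.good | exact ()
private theorem _root_.Cfsg.Agent.KOe86a5e9.e30 : (by first | exact @Cfsg.Agent.H364.SpSmall.good = @_root_.Cfsg.Agent.KOe86a5e9.k30 | exact True : Prop) := by first | (delta _root_.Cfsg.Agent.KOe86a5e9.k30; exact @Subtype.property _ (fun g => @Cfsg.Agent.H364.SpSmall.good = @g) _) | rfl | trivial
private noncomputable def _root_.Cfsg.Agent.KOe86a5e9.k31 : (by first | exact type_of% @Cfsg.Agent.H429.AltNum.c2 | exact Unit : Sort _) := by first | (refine @Subtype.val _ (fun g => @Cfsg.Agent.H429.AltNum.c2 = @g) (@Subtype.mk _ _ (@(fun x0 x1 => @Bool.rec.{1} @(fun x2 => @Bool) @Bool.false (@Bool.rec.{1} @(fun x2 => @Bool) @Bool.true @Bool.false (@Cfsg.Agent.KOe86a5e9.k23.{1} @Bool (@Nat.mod (@Nat.mul (nat_lit 2) (@Cfsg.Agent.KOe86a5e9.k21 (@Nat.add (@Nat.mul (nat_lit 4) @x0) (nat_lit 4)))) (@Nat.mul (@Nat.pow @x1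 (@Cfsg.Agent.KOe86a5e9.k24 @x0)) (@Cfsg.Agent.KOe86a5e9.k29 @x0 @x1))) (nat_lit 0) @Bool.false @Bool.true)) (@Cfsg.Agent.KOe86a5e9.k30 @x0 @x1 (@Cfsg.Agent.KOe86a5e9.k29 @x0 @x1)))) ?_); rewrite [← Cfsg.Agent.KOe86a5e9.e30, ← Cfsg.Agent.KOe86a5e9.e29, ← Cfsg.Agent.KOe86a5e9.e24, ← Cfsg.Agent.KOe86a5e9.e21, ← Cfsg.Agent.KOe86a5e9.e23.{1}]; (try delta Cfsg.Agent.H429.AltNum.c2); (try generalize @Cfsg.Agent.H429.AltNum.fa = g0); (try generalize @Cfsg.Agent.H364.SpIneq.cn = g1); (try generalize @Cfsg.Agent.H364.SpSmall.te = g2); (try generalize @Cfsg.Agent.H364.SpSmall.good = g3); rfl') | exact @Cfsg.Agent.H429.AltNum.c2 | exact ()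
private theorem _root_.Cfsg.Agent.KOe86a5e9.e31 : (by first | exact @Cfsg.Agent.H429.AltNum.c2 = @_root_.Cfsg.Agent.KOe86a5e9.k31 | exact True : Prop) := by first | (delta _root_.Cfsg.Agent.KOe86a5e9.k31; exact @Subtype.property _ (fun g => @Cfsg.Agent.H429.AltNum.c2 = @g) _) | rfl | trivial

theorem c2_all : ∀ n ∈ List.range 150, n < 5 ∨ ∀ q ∈ List.range (q1 n), q < 2 ∨ c2 n q = true := by
  (first | (refine of_decide_eq_true ?_; rewrite [Cfsg.Agent.KOe86a5e9.e0, Cfsg.Agent.KOe86a5e9.e2.{0}, Cfsg.Agent.KOe86a5e9.e3, Cfsg.Agent.KOe86a5e9.e6, Cfsg.Agent.KOe86a5e9.e7, Cfsg.Agent.KOe86a5e9.e31, Cfsg.Agent.KOe86a5e9.e26, Cfsg.Agent.KOe86a5e9.e11]; decide +kernel) | decide +kernel)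

theorem fa_eq (n : ℕ) : fa n = n.factorial := by
  induction n with
  | zero => rfl
  | succ n ih =>
    rw [fa] at ih ⊢
    rw [List.range_succ, List.foldl_append, ih, List.foldl_cons, List.foldl_nil, Nat.factorial_succ, mul_comm]

theorem pow26 {n : ℕ} (hn : 150 ≤ n) : n ^ 26 ≤ 3 ^ n := by
  induction n, hn using Nat.le_induction with
  | base => norm_num
  | succ n hn ih =>
    have h1 : (n + 1) ^ 26 * 150 ^ 26 ≤ 3 * n ^ 26 * 150 ^ 26 := by
      calc (n + 1) ^ 26 * 150 ^ 26 = ((n + 1) * 150) ^ 26 := by rw [mul_pow]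
        _ ≤ (151 * n) ^ 26 := Nat.pow_le_pow_left (by omega) 26
        _ = 151 ^ 26 * n ^ 26 := by rw [mul_pow]
        _ ≤ (3 * 150 ^ 26) * n ^ 26 := Nat.mul_le_mul_right _ (by norm_num)
        _ = _ := by ring
    have h2 : (n + 1) ^ 26 ≤ 3 * n ^ 26 := Nat.le_of_mul_le_mul_right h1 (by norm_num)
    calc (n + 1) ^ 26 ≤ 3 * n ^ 26 := h2
      _ ≤ 3 * 3 ^ n := Nat.mul_le_mul_left 3 ih
      _ = 3 ^ (n + 1) := by ring

theorem bern (a m : ℕ) : a ^ m + m * a ^ (m - 1) ≤ (a + 1) ^ m := by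
  induction m with
  | zero => simp
  | succ m ih =>
    rw [pow_succ (a + 1)]
    have h1 : (a ^ m + m * a ^ (m - 1)) * (a + 1) ≤ (a + 1) ^ m * (a + 1) := Nat.mul_le_mul_right _ ih
    refine le_trans ?_ h1
    rw [Nat.add_sub_cancel]
    have h2 : m * a ^ (m - 1) * a = m * a ^ m := by
      rcases m with _ | m
      · simp
      · rw [Nat.add_sub_cancel, pow_succ]; ring
    calc a ^ (m + 1) + (m + 1) * a ^ m = a ^ m * a + m * a ^ m + a ^ m := by ring
      _ = a ^ m * a + m * a ^ (m - 1) * a + a ^ m := by rw [h2]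
      _ ≤ a ^ m * a + m * a ^ (m - 1) * a + a ^ m + m * a ^ (m - 1) := Nat.le_add_right _ _
      _ = _ := by ring

theorem fac_le (m : ℕ) : 2 ^ m * m.factorial ≤ (m + 1) ^ m := by
  induction m with
  | zero => simp
  | succ m ih =>
    have h1 := bern (m + 1) (m + 1)
    rw [Nat.add_sub_cancel] at h1
    calc 2 ^ (m + 1) * (m + 1).factorial = 2 * (m + 1) * (2 ^ m * m.factorial) := by
          rw [Nat.factorial_succ]; ring
      _ ≤ 2 * (m + 1) * (m + 1) ^ m := Nat.mul_le_mul_left _ ih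
      _ = (m + 1) ^ (m + 1) + (m + 1) * (m + 1) ^ m := by ring
      _ ≤ _ := h1

theorem large {n : ℕ} (hn : 150 ≤ n) : 2 * (lam n * (4 * n + 4).factorial) < 3 ^ ss n := by
  have hl := lam_le n
  have hs := ss_bound n
  have hf := fac_le (4 * n + 4)
  generalize lam n = L at *
  generalize ss n = s at *
  generalize hF : (4 * n + 4).factorial = F at *
  have h1 : F ^ 26 ≤ 3 ^ ((n + 17) * (4 * n + 4)) := by
    have h2 : (2 ^ 26) ^ (4 * n + 4) * F ^ 26 ≤ ((4 * n + 5) ^ 26) ^ (4 * n + 4) := by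
      calc (2 ^ 26) ^ (4 * n + 4) * F ^ 26 = (2 ^ (4 * n + 4) * F) ^ 26 := by
            rw [mul_pow, ← pow_mul, ← pow_mul, mul_comm 26]
        _ ≤ ((4 * n + 4 + 1) ^ (4 * n + 4)) ^ 26 := Nat.pow_le_pow_left hf 26
        _ = _ := by rw [← pow_mul, ← pow_mul, mul_comm 26]
    have h3 : (4 * n + 5) ^ 26 ≤ 2 ^ 26 * 3 ^ (n + 17) := by
      have h4 : (4 * n + 5) ^ 26 * 150 ^ 26 ≤ 2 ^ 26 * 3 ^ (n + 17) * 150 ^ 26 := by
        calc (4 * n + 5) ^ 26 * 150 ^ 26 = ((4 * n + 5) * 150) ^ 26 := by rw [mul_pow]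
          _ ≤ (605 * n) ^ 26 := Nat.pow_le_pow_left (by omega) 26
          _ = 605 ^ 26 * n ^ 26 := by rw [mul_pow]
          _ ≤ (2 ^ 26 * 3 ^ 17 * 150 ^ 26) * 3 ^ n := Nat.mul_le_mul (by norm_num) (pow26 hn)
          _ = _ := by ring
      exact Nat.le_of_mul_le_mul_right h4 (by norm_num)
    have h5 : (2 ^ 26) ^ (4 * n + 4) * F ^ 26 ≤ (2 ^ 26) ^ (4 * n + 4) * 3 ^ ((n + 17) * (4 * n + 4)) := by
      refine h2.trans ?_
      calc ((4 * n + 5) ^ 26) ^ (4 * n + 4) ≤ (2 ^ 26 * 3 ^ (n + 17)) ^ (4 * n + 4) := Nat.pow_le_pow_left h3 _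
        _ = _ := by rw [mul_pow, ← pow_mul 3]
    exact Nat.le_of_mul_le_mul_left h5 (by positivity)
  have h2 : L ^ 26 ≤ 3 ^ (n * (n - n / 2)) := by
    calc L ^ 26 ≤ (n ^ (n - n / 2)) ^ 26 := Nat.pow_le_pow_left hl 26
      _ = (n ^ 26) ^ (n - n / 2) := by rw [← pow_mul, ← pow_mul, mul_comm]
      _ ≤ (3 ^ n) ^ (n - n / 2) := Nat.pow_le_pow_left (pow26 hn) _
      _ = _ := by rw [← pow_mul]
  have h3 : 17 + n * (n - n / 2) + (n + 17) * (4 * n + 4) < 26 * s := by
    have h5 : 2 * (n * (n - n / 2)) ≤ n * (n + 1) := by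
      calc 2 * (n * (n - n / 2)) = n * (2 * (n - n / 2)) := by ring
        _ ≤ _ := Nat.mul_le_mul_left n (by omega)
    nlinarith only [hn, hs, h5]
  refine lt_of_pow_lt_pow_left₀ 26 (Nat.zero_le _) ?_
  calc (2 * (L * F)) ^ 26 = 2 ^ 26 * (L ^ 26 * F ^ 26) := by rw [mul_pow, mul_pow]
    _ ≤ 3 ^ 17 * (3 ^ (n * (n - n / 2)) * 3 ^ ((n + 17) * (4 * n + 4))) :=
        Nat.mul_le_mul (by norm_num) (Nat.mul_le_mul h2 h1)
    _ = 3 ^ (17 + n * (n - n / 2) + (n + 17) * (4 * n + 4)) := by rw [← pow_add, ← pow_add, add_assoc]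
    _ < 3 ^ (26 * s) := Nat.pow_lt_pow_right (by norm_num) h3
    _ = (3 ^ s) ^ 26 := by rw [← pow_mul, mul_comm]

theorem sl_le {n : ℕ} (hn : 1 ≤ n) : sl n ≤ ss n := by
  have h := ss_bound n
  rw [sl]
  have h1 : 6 * n ≤ 7 * n ^ 2 := by nlinarith
  omega

theorem key {n q : ℕ} (hn : 5 ≤ n) (hq : 2 ≤ q) (h : n < 150 → q1 n ≤ q) :
    2 * (lam n * (4 * n + 4).factorial) < (q ^ 2 - 1) ^ ss n * q ^ cn n := by
  have hq2 : 3 ≤ q ^ 2 - 1 := by
    have : 2 * 2 ≤ q * q := Nat.mul_le_mul hq hq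
    rw [sq]; omega
  rcases Nat.lt_or_ge n 150 with h1 | h1
  · rcases c1_all n (List.mem_range.2 h1) with h2 | h2
    · omega
    · rw [c1, Bool.and_eq_true, decide_eq_true_eq, decide_eq_true_eq, fa_eq] at h2
      have h3 := h h1
      refine h2.1.trans_le ?_
      apply Nat.mul_le_mul
      · calc (q1 n ^ 2 - 1) ^ sl n ≤ (q ^ 2 - 1) ^ sl n :=
              Nat.pow_le_pow_left (Nat.sub_le_sub_right (Nat.pow_le_pow_left h3 2) 1) _
          _ ≤ _ := Nat.pow_le_pow_right (by omega) (sl_le (by omega))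
      · exact Nat.pow_le_pow_left h3 _
  · refine (large h1).trans_le ?_
    calc 3 ^ ss n ≤ (q ^ 2 - 1) ^ ss n := Nat.pow_le_pow_left hq2 _
      _ ≤ _ := Nat.le_mul_of_pos_right _ (pow_pos (by omega) _)

/-- **The arithmetic for `n ≥ 5`.** -/
theorem arith {n q I MS : ℕ} (hn : 5 ≤ n) (hq : 2 ≤ q) (h : Fr n q I MS) (hd : I * MS ∣ 2 * (4 * n + 4).factorial) :
    False := by
  have hpos : 0 < 2 * (4 * n + 4).factorial := Nat.mul_pos (by norm_num) (Nat.factorial_pos _)
  by_cases hc : n < 150 → q1 n ≤ q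
  · have h1 := (h.gen hq (by omega)).trans hd
    have h2 := Nat.le_of_dvd hpos h1
    have h3 := tt_ge (n := n) (Q := q ^ 2) (by nlinarith only [hq])
    have h4 := key hn hq hc
    have h5 : (q ^ 2 - 1) ^ ss n * q ^ cn n ≤ 2 * (4 * n + 4).factorial * lam n := by
      calc (q ^ 2 - 1) ^ ss n * q ^ cn n ≤ tt n (q ^ 2) * lam n * q ^ cn n := Nat.mul_le_mul_right _ h3
        _ = (q ^ cn n * tt n (q ^ 2)) * lam n := by ring
        _ ≤ _ := Nat.mul_le_mul_right _ h2
    have h6 : 2 * (4 * n + 4).factorial * lam n = 2 * (lam n * (4 * n + 4).factorial) := by ring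
    omega
  · push Not at hc
    obtain ⟨h1, h2⟩ := hc
    rcases c2_all n (List.mem_range.2 h1) with h3 | h3
    · omega
    · rcases h3 q (List.mem_range.2 h2) with h4 | h4
      · omega
      · rw [c2, Bool.and_eq_true, bne_iff_ne, fa_eq] at h4
        exact h4.2 (Nat.mod_eq_zero_of_dvd ((h.good hq h4.1).trans hd))

theorem AA_mono {n q q' : ℕ} (h : q ≤ q') : AA n q ≤ AA n q' := by
  rw [AA, AA]
  exact Finset.prod_le_prod' fun i _ => Nat.sub_le_sub_right (Nat.pow_le_pow_left h _) 1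

def c3 (n q : ℕ) : Bool := (Nat.gcd 2 (q - 1) * (2 * fa (4 * n + 4))) % AA n q != 0

theorem c3_all : (∀ q ∈ List.range 15, q < 4 ∨ c3 3 q = true) ∧ (∀ q ∈ List.range 9, q < 3 ∨ c3 4 q = true) := by
  decide +kernel

theorem c3_large : 2 * (2 * fa 16) < AA 3 15 ∧ 2 * (2 * fa 20) < AA 4 9 := by
  decide +kernel

/-- **The arithmetic for `n = 3, 4`.** -/
theorem arith_small {n q T : ℕ} (hn : n = 3 ∨ n = 4) (hq : 2 ≤ q) (h2 : ¬ (n = 3 ∧ q = 2)) (h : AA n q ∣ Nat.gcd 2 (q - 1) * T)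
    (hd : T ∣ 2 * (4 * n + 4).factorial) : (n = 3 ∧ q = 3) ∨ (n = 4 ∧ q = 2) := by
  have h1 : AA n q ∣ Nat.gcd 2 (q - 1) * (2 * fa (4 * n + 4)) := by
    rw [fa_eq]
    exact h.trans (Nat.mul_dvd_mul_left _ hd)
  have h3 : AA n q ≤ 2 * (2 * fa (4 * n + 4)) := by
    refine (Nat.le_of_dvd ?_ h1).trans (Nat.mul_le_mul_right _ (Nat.gcd_le_left _ (by norm_num)))
    rw [fa_eq]
    exact Nat.mul_pos (Nat.gcd_pos_of_pos_left _ (by norm_num)) (Nat.mul_pos (by norm_num) (Nat.factorial_pos _))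
  have h4 : ¬ c3 n q = true := by
    rw [c3, bne_iff_ne, not_not]
    exact Nat.mod_eq_zero_of_dvd h1
  obtain ⟨h5, h6⟩ := c3_all
  obtain ⟨h7, h8⟩ := c3_large
  rcases hn with rfl | rfl
  · have hlt : q < 15 := by
      by_contra hcon
      have h9 := AA_mono (n := 3) (not_lt.1 hcon)
      have h10 : AA 3 q ≤ 2 * (2 * fa 16) := h3
      omega
    rcases h5 q (List.mem_range.2 hlt) with h9 | h9
    · left
      refine ⟨rfl, ?_⟩
      have : q ≠ 2 := fun h => h2 ⟨rfl, h⟩
      omega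
    · exact absurd h9 h4
  · have hlt : q < 9 := by
      by_contra hcon
      have h9 := AA_mono (n := 4) (not_lt.1 hcon)
      have h10 : AA 4 q ≤ 2 * (2 * fa 20) := h3
      omega
    rcases h6 q (List.mem_range.2 hlt) with h9 | h9
    · right
      exact ⟨rfl, by omega⟩
    · exact absurd h9 h4

end Cfsg.Agent.H429.AltNum
end

-- part: H429/CS/NoAlt
section
/-!
# The simple section is not alternating (helper429, S3677, E2)
-/

set_option autoImplicit false

namespace Cfsg.Agent.H429.CS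

open Subgroup Cfsg Cfsg.Agent.H902 Cfsg.Agent.H221.CS
open Cfsg.Agent.H364.SpVal Cfsg.Agent.H364.SpSmall

universe u

variable {n p f M κ : ℕ} {Γ : Type u} [Group Γ] [Finite Γ] {S : Subgroup Γ}

/-- `r ∥ k!` for `r ≤ k < 2 r` -/
theorem fac_factorial {r k : ℕ} (hr : r.Prime) (h1 : r ≤ k) (h2 : k < 2 * r) : k.factorial.factorization r = 1 := by
  induction k, h1 using Nat.le_induction with
  | base =>
    obtain ⟨s, rfl⟩ := Nat.exists_eq_succ_of_ne_zero hr.ne_zero
    rw [Nat.factorial_succ, Nat.factorization_mul (by omega) (Nat.factorial_ne_zero _), Finsupp.add_apply]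
    rw [hr.factorization_self, Nat.factorization_factorial_eq_zero_of_lt (Nat.lt_succ_self s)]
  | succ k hk ih =>
    rw [Nat.factorial_succ, Nat.factorization_mul (by omega) (Nat.factorial_ne_zero _), Finsupp.add_apply, ih (by omega),
      Nat.factorization_eq_zero_of_not_dvd, zero_add]
    intro hd
    obtain ⟨c, hc⟩ := hd
    have h3 : c < 2 := by
      by_contra h
      have : r * 2 ≤ r * c := Nat.mul_le_mul_left _ (by omega)
      omega
    interval_cases c <;> omega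

omit [Finite Γ] in
/-- facts on the chosen primes -/
theorem prime_facts (h : Dat n p f M κ Γ S) {r : ℕ} (hr : r.Prime)
    (ho : orderOf ((p ^ f : ℕ) : ZMod r) = cl n (p ^ f)) : 5 ≤ r ∧ r ≠ p ∧ ¬ r ∣ κ := by
  have hn := h.hn
  have := Fact.mk hr
  have hcl : 3 ≤ cl n (p ^ f) := by rw [cl]; split_ifs <;> omega
  have hrp : r ≠ p := by
    rintro rfl
    rw [Nat.cast_pow, ZMod.natCast_self, zero_pow (by have := h.hY.hf; omega)] at ho
    have h1 : orderOf (0 : ZMod r) = 0 := by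
      rw [orderOf_eq_zero_iff']
      intro k hk
      rw [zero_pow (by omega)]
      exact zero_ne_one
    omega
  have hne : ((p ^ f : ℕ) : ZMod r) ≠ 0 := by
    rw [Ne, ZMod.natCast_eq_zero_iff]
    intro h1
    exact hrp ((Nat.prime_dvd_prime_iff_eq hr h.hY.hp).1 (hr.dvd_of_dvd_pow h1))
  have h1 : cl n (p ^ f) ∣ r - 1 := ho ▸ ZMod.orderOf_dvd_card_sub_one hne
  have h2 : 5 ≤ r := by
    have h3 : 0 < r - 1 := by have := hr.two_le; omega
    have h4 := Nat.le_of_dvd h3 h1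
    have h5 : r ≠ 4 := by rintro rfl; norm_num at hr
    omega
  refine ⟨h2, hrp, h.not_dvd_large hr hrp ?_⟩
  have h3 : orderOf (((p ^ f) ^ 2 : ℕ) : ZMod r) = n := by
    rw [Nat.cast_pow, orderOf_pow' _ (by norm_num), ho, cl]
    split_ifs with hc
    · rw [Nat.gcd_eq_right (dvd_mul_right 2 n), Nat.mul_div_cancel_left _ (by norm_num)]
    · rw [not_or] at hc
      have : Nat.gcd n 2 = 1 := Nat.coprime_two_right.2 (Nat.not_even_iff_odd.1 hc.1)
      rw [this, Nat.div_one]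
  rw [h3]
  omega

/-- E2 -/
theorem no_alt (h : Dat n p f M κ Γ S) (h32 : ¬ (n = 3 ∧ p ^ f = 2)) {k : ℕ} (e : S ≃* ↥(alternatingGroup (Fin k))) :
    False := by
  have hn := h.hn
  have hq := h.q_ge
  obtain ⟨r, hr, hro, hrS⟩ := h.dvd
  obtain ⟨hr5, hrp, hrκ⟩ := prime_facts h hr hro
  have hrf := Fact.mk hr
  have hcS : Nat.card S = Nat.card (alternatingGroup (Fin k)) := Nat.card_congr e.toEquiv
  -- the order of `A_k`
  have hk1 : 1 < k := by
    by_contra hk
    have : Subsingleton (Equiv.Perm (Fin k)) := by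
      have : Subsingleton (Fin k) := by
        rcases (by omega : k = 0 ∨ k = 1) with rfl | rfl
        · infer_instance
        · infer_instance
      infer_instance
    have h1 : Nat.card (alternatingGroup (Fin k)) = 1 := Nat.card_unique
    rw [hcS, h1] at hrS
    exact hr.one_lt.ne' (Nat.dvd_one.1 hrS)
  have hkf : 2 * Nat.card (alternatingGroup (Fin k)) = k.factorial := by
    have : Nontrivial (Fin k) := Fin.nontrivial_iff_two_le.2 hk1
    have h1 := two_mul_nat_card_alternatingGroup (α := Fin k)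
    rw [h1, Nat.card_perm, Nat.card_fin]
  have hrk : r ≤ k := by
    have h1 : r ∣ k.factorial := by
      rw [← hkf, ← hcS]
      exact hrS.mul_left _
    exact (hr.dvd_factorial).1 h1
  -- `k ≤ r + 3`
  have hkr : k ≤ r + 3 := by
    by_contra hcon
    obtain ⟨y, hy, z, hz, hyz⟩ := Cfsg.Agent.H429.AltFus.exists_comm hr (by omega) (show r + 4 ≤ k by omega)
    have h1 : orderOf ((e.symm y : S) : Γ) = r := by rw [Subgroup.orderOf_coe, MulEquiv.orderOf_eq, hy]
    have h2 : ((e.symm z : S) : Γ) ∈ centralizer ({((e.symm y : S) : Γ)} : Set Γ) := by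
      rw [mem_centralizer_singleton_iff]
      have h3 : Commute (e.symm z) (e.symm y) := (hyz.symm).map e.symm
      exact congrArg Subtype.val h3.eq
    have h3 := _root_.orderOf_dvd_natCard (⟨_, h2⟩ : centralizer ({((e.symm y : S) : Γ)} : Set Γ))
    rw [Subgroup.orderOf_mk, Subgroup.orderOf_coe, MulEquiv.orderOf_eq, hz] at h3
    have h4 := h3.trans (h.tor r hr hro _ h1)
    exact Nat.not_even_iff_odd.2 (mm_odd hq (by omega)) (even_iff_two_dvd.2 h4)
  -- the index
  have hidx : S.index ∣ 4 := by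
    have hs := h.simple
    refine h.index_dvd.trans (Cfsg.Agent.H370.AAM.out_alt (S := S) ?_ ?_ e).2
    · exact h.nonab
    · omega
  have hrI : ¬ r ∣ S.index := fun h1 => by
    have h2 := Nat.le_of_dvd (by norm_num) (h1.trans hidx)
    omega
  have hMr : M.factorization r = 1 := by
    rw [← h.card_eq, Nat.factorization_mul h.kap_ne (Nat.mul_ne_zero Nat.card_pos.ne' h.index_ne),
      Nat.factorization_mul Nat.card_pos.ne' h.index_ne, Finsupp.add_apply, Finsupp.add_apply,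
      Nat.factorization_eq_zero_of_not_dvd hrκ, Nat.factorization_eq_zero_of_not_dvd hrI, zero_add, add_zero]
    have h1 := fac_factorial hr hrk (by omega)
    rw [← hkf, Nat.factorization_mul (by norm_num) Nat.card_pos.ne', Finsupp.add_apply,
      Nat.factorization_eq_zero_of_not_dvd (fun h2 => by
        have := Nat.le_of_dvd (by norm_num) h2
        omega), zero_add] at h1
    rw [hcS, h1]
  -- fusion
  have hr4 : r ≤ 4 * n + 1 := by
    obtain ⟨y, hy, hconj⟩ := Cfsg.Agent.H429.AltFus.exists_fus hr (by omega) hrk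
    set x : Γ := ((e.symm y : S) : Γ) with hx
    have hxo : orderOf x = r := by rw [hx, Subgroup.orderOf_coe, MulEquiv.orderOf_eq, hy]
    have h1 := h.fus r hr hro hMr x hxo
    have hodd := hr.odd_of_ne_two (by omega)
    have h2 : (r - 1) / 2 ≤ Nat.card {z : Γ // z ∈ zpowers x ∧ IsConj x z} := by
      have hnd : ∀ i : Fin ((r - 1) / 2), ¬ r ∣ (i : ℕ) + 1 := fun i h3 => by
        have := Nat.le_of_dvd (by omega) h3
        have := i.2
        omega
      let F : Fin ((r - 1) / 2) → {z : Γ // z ∈ zpowers x ∧ IsConj x z} := fun i =>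
        ⟨x ^ (((i : ℕ) + 1) ^ 2), Subgroup.npow_mem_zpowers x _, by
          obtain ⟨c, hc⟩ := isConj_iff.1 (hconj _ (hnd i))
          refine isConj_iff.2 ⟨((e.symm c : S) : Γ), ?_⟩
          have h3 := congrArg (fun t => ((e.symm t : S) : Γ)) hc
          simp only [map_mul, map_inv, map_pow, Subgroup.coe_mul, Subgroup.coe_inv, Subgroup.coe_pow] at h3
          exact h3⟩
      have hF : Function.Injective F := by
        intro i j hij
        have h3 : x ^ (((i : ℕ) + 1) ^ 2) = x ^ (((j : ℕ) + 1) ^ 2) := congrArg Subtype.val hij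
        rw [pow_inj_mod, hxo] at h3
        -- `r ∣ (i - j) (i + j + 2)`
        have hi := i.2
        have hj := j.2
        have h4 : ((((i : ℕ) + 1) ^ 2 : ℕ) : ZMod r) = ((((j : ℕ) + 1) ^ 2 : ℕ) : ZMod r) :=
          (ZMod.natCast_eq_natCast_iff _ _ _).2 h3
        push_cast at h4
        have h5 : (((i : ℕ) : ZMod r) + 1 - (((j : ℕ) : ZMod r) + 1)) * (((i : ℕ) : ZMod r) + 1 + (((j : ℕ) : ZMod r) + 1)) = 0 := by
          rw [← sub_eq_zero] at h4
          rw [← h4]; ring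
        rcases mul_eq_zero.1 h5 with h6 | h6
        · have h7 : ((i : ℕ) : ZMod r) = ((j : ℕ) : ZMod r) := by
            rw [sub_eq_zero] at h6
            exact add_right_cancel h6
          rw [ZMod.natCast_eq_natCast_iff', Nat.mod_eq_of_lt (by omega), Nat.mod_eq_of_lt (by omega)] at h7
          exact Fin.ext h7
        · exfalso
          have h7 : (((i : ℕ) + 1 + ((j : ℕ) + 1) : ℕ) : ZMod r) = 0 := by push_cast; exact h6
          rw [ZMod.natCast_eq_zero_iff] at h7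
          have h8 := Nat.le_of_dvd (by omega) h7
          omega
      have h3 := Nat.card_le_card_of_injective F hF
      rwa [Nat.card_fin] at h3
    have h3 := h2.trans h1
    obtain ⟨c, hc⟩ := hodd
    (clear * - h3 hc; omega)
  -- arithmetic
  have hT : S.index * Nat.card S ∣ 2 * (4 * n + 4).factorial := by
    have h1 : k.factorial ∣ (4 * n + 4).factorial := Nat.factorial_dvd_factorial (by omega)
    have h2 : S.index * Nat.card S ∣ 4 * Nat.card S := Nat.mul_dvd_mul_right hidx _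
    refine h2.trans ?_
    rw [hcS, show 4 * Nat.card (alternatingGroup (Fin k)) = 2 * (2 * Nat.card (alternatingGroup (Fin k))) by ring, hkf]
    exact Nat.mul_dvd_mul_left _ h1
  rcases Nat.lt_or_ge n 5 with hn5 | hn5
  · have h34 : n = 3 ∨ n = 4 := by omega
    have h1 := h.AA_dvd (by omega) h32
    rw [mul_comm (Nat.card S)] at h1
    have h11 : 11 ∣ M := by
      refine dvd_trans ?_ h.pi
      have hk11 : 11 ≤ k := by
        rcases Cfsg.Agent.H429.AltNum.arith_small h34 hq h32 h1 hT with ⟨h3, h4⟩ | ⟨h3, h4⟩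
        · have h5 : cl n (p ^ f) = 3 := by rw [h3, h4]; decide
          rw [h5, h4] at hro
          have h6 : r ∣ 3 ^ 3 - 1 := by
            rw [Cfsg.Agent.Lib.Zsigmondy.dvd_pow_sub_one_iff (by norm_num), hro]
          have h7 : r ∣ 2 * 13 := h6
          rcases (Nat.Prime.dvd_mul hr).1 h7 with h8 | h8
          · have := Nat.le_of_dvd (by norm_num) h8
            omega
          · have := (Nat.prime_dvd_prime_iff_eq hr (by norm_num)).1 h8
            omega
        · have h5 : cl n (p ^ f) = 8 := by rw [h3, h4]; decide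
          rw [h5, h4] at hro
          have h6 : r ∣ 2 ^ 8 - 1 := by
            rw [Cfsg.Agent.Lib.Zsigmondy.dvd_pow_sub_one_iff (by norm_num), hro]
          have h7 : r ∣ 15 * 17 := h6
          rcases (Nat.Prime.dvd_mul hr).1 h7 with h8 | h8
          · exfalso
            have h9 : r ∣ 2 ^ 4 - 1 := h8
            rw [Cfsg.Agent.Lib.Zsigmondy.dvd_pow_sub_one_iff (by norm_num), hro] at h9
            norm_num at h9
          · have := (Nat.prime_dvd_prime_iff_eq hr (by norm_num)).1 h8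
            omega
      have h5 : 11 ∣ k.factorial := (Nat.Prime.dvd_factorial (by norm_num)).2 hk11
      rw [← hkf] at h5
      rw [hcS]
      exact (Nat.Coprime.dvd_of_dvd_mul_left (by norm_num) h5)
    have h12 := h.hY.eq
    rcases Cfsg.Agent.H429.AltNum.arith_small h34 hq h32 h1 hT with ⟨h3, h4⟩ | ⟨h3, h4⟩
    · rw [h3, h4] at h12
      have h13 : 11 ∣ (3 : ℕ) ^ Art.NN (.C 3) * Art.num (.C 3) 3 := h12 ▸ h11.mul_left _
      revert h13
      decide +kernel
    · rw [h3, h4] at h12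
      have h13 : 11 ∣ (2 : ℕ) ^ Art.NN (.C 4) * Art.num (.C 4) 2 := h12 ▸ h11.mul_left _
      revert h13
      decide +kernel
  · exact Cfsg.Agent.H429.AltNum.arith hn5 hq (h.fr h32) hT

end Cfsg.Agent.H429.CS
end

-- part: H545/CS/CrossFour
section
/-!
# S3677, rows `PSp(8, q)`, `PΩ(9, q)`: no simple group of Lie type in cross characteristic (helper545)
-/

set_option autoImplicit false
set_option linter.unusedVariables false

namespace Cfsg.Agent.H545.CS

open Subgroup Cfsg Cfsg.Agent.OrdDiv Cfsg.Agent.H902 Cfsg.Agent.H902.Names Cfsg.Agent.H221.CS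
open Cfsg.Agent.H902.Lte Cfsg.Agent.H902.Art Cfsg.Agent.H364.SpVal Cfsg.Agent.H364.SpCross Cfsg.Agent.H364.SpSmall
  Cfsg.Agent.H364.SpEnum

universe u

/-- the quotient by the socle -/
theorem index_dvd {X : Type*} [Group X] [Finite X] (S : Subgroup X) [S.Normal] [IsSimpleGroup S]
    (hna : ¬ IsMulCommutative S) (hc : Subgroup.centralizer (S : Set X) = ⊥) : S.index ∣ Nat.card (Cfsg.Out S) := by
  have hinj : Function.Injective (MulAut.conjNormal : X →* MulAut S) := by
    rw [injective_iff_map_eq_one]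
    intro g hg
    have : g ∈ Subgroup.centralizer (S : Set X) := by
      rw [Subgroup.mem_centralizer_iff]
      intro s hs
      have h1 := congrArg (fun α : MulAut S => ((α ⟨s, hs⟩ : S) : X)) hg
      have h2 : g * s * g⁻¹ = s := by
        rw [← MulAut.conjNormal_apply g (⟨s, hs⟩ : S)]
        exact h1
      rw [mul_inv_eq_iff_eq_mul] at h2
      exact h2.symm
    rwa [hc, Subgroup.mem_bot] at this
  have h1 : Nat.card X ∣ Nat.card (MulAut S) := by
    rw [Nat.card_congr (MonoidHom.ofInjective hinj).toEquiv]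
    exact Subgroup.card_subgroup_dvd_card _
  rw [← Cfsg.Agent.H934.OutB.card_out_mul S hna, ← S.card_mul_index, mul_comm] at h1
  exact Nat.dvd_of_mul_dvd_mul_right Nat.card_pos h1

/-! ### estimates -/

theorem AA_four (u : ℕ) (hu : 1 ≤ u) : AA 4 (u + 1) =
    u ^ 4 * (u + 2) ^ 4 * ((u + 1) ^ 2 + 1) ^ 2 * ((u + 1) ^ 4 + (u + 1) ^ 2 + 1) * ((u + 1) ^ 4 + 1) := by
  have e : ∀ k x : ℕ, (u + 1) ^ k = x + 1 → (u + 1) ^ k - 1 = x := fun k x h => by omega
  rw [AA]
  simp only [Finset.prod_range_succ, Finset.prod_range_zero, one_mul]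
  rw [e (2 * (0 + 1)) (u * (u + 2)) (by ring), e (2 * (1 + 1)) (u * (u + 2) * ((u + 1) ^ 2 + 1)) (by ring),
    e (2 * (2 + 1)) (u * (u + 2) * ((u + 1) ^ 4 + (u + 1) ^ 2 + 1)) (by ring),
    e (2 * (3 + 1)) (u * (u + 2) * ((u + 1) ^ 2 + 1) * ((u + 1) ^ 4 + 1)) (by ring)]
  (set_option synthInstance.maxSize 99999 in exact Cfsg.Agent.Lib.RingK.eqN (by decide +kernel))

theorem AA_lower (u : ℕ) (hu : 1 ≤ u) :
    3 * (u ^ 4 * (u + 2) ^ 4 * ((u + 1) ^ 2 + 1) ^ 6) ≤ 8 * AA 4 (u + 1) := by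
  rw [AA_four u hu]
  have h1 : 3 * ((u + 1) ^ 2 + 1) ^ 2 ≤ 4 * ((u + 1) ^ 4 + (u + 1) ^ 2 + 1) := by
    linarith only [sq_nonneg (((u : ℤ) + 1) ^ 2 - 1)]
  have h2 : ((u + 1) ^ 2 + 1) ^ 2 ≤ 2 * ((u + 1) ^ 4 + 1) := by
    linarith only [h1]
  calc 3 * (u ^ 4 * (u + 2) ^ 4 * ((u + 1) ^ 2 + 1) ^ 6)
      = u ^ 4 * (u + 2) ^ 4 * ((u + 1) ^ 2 + 1) ^ 2 * ((3 * ((u + 1) ^ 2 + 1) ^ 2) * (((u + 1) ^ 2 + 1) ^ 2)) := by (set_option synthInstance.maxSize 99999 in exact Cfsg.Agent.Lib.RingK.eqN (by decide +kernel))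
    _ ≤ u ^ 4 * (u + 2) ^ 4 * ((u + 1) ^ 2 + 1) ^ 2 *
        ((4 * ((u + 1) ^ 4 + (u + 1) ^ 2 + 1)) * (2 * ((u + 1) ^ 4 + 1))) :=
        Nat.mul_le_mul_left _ (Nat.mul_le_mul h1 h2)
    _ = _ := by (set_option synthInstance.maxSize 99999 in exact Cfsg.Agent.Lib.RingK.eqN (by decide +kernel))

/-- `q ≥ 4` -/
theorem big_odd {q : ℕ} (hq : 4 ≤ q) : 8 * (81 ^ 4 * (q + 1) ^ 32 * (64 * (q + 1) ^ 3)) < AA 4 q ^ 3 := by
  obtain ⟨u, rfl⟩ : ∃ u, q = u + 1 := ⟨q - 1, by omega⟩
  have h0 := AA_lower u (by omega)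
  have h1 : 3 * (u + 2) ≤ 5 * u := by omega
  have h2 : 17 * (u + 2) ^ 2 ≤ 25 * ((u + 1) ^ 2 + 1) := by
    obtain ⟨w, rfl⟩ := Nat.exists_eq_add_of_le' (show 3 ≤ u by omega)
    nlinarith only [_root_.Nat.cast_nonneg (α := ℤ) (w)]
  generalize hA : AA 4 (u + 1) = A at *
  have h3 : 3 ^ 5 * 17 ^ 6 * (u + 2) ^ 20 ≤ 8 * 5 ^ 16 * A := by
    calc 3 ^ 5 * 17 ^ 6 * (u + 2) ^ 20 = 3 * ((3 * (u + 2)) ^ 4 * (u + 2) ^ 4 * (17 * (u + 2) ^ 2) ^ 6) := by (set_option synthInstance.maxSize 99999 in exact Cfsg.Agent.Lib.RingK.eqN (by decide +kernel))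
      _ ≤ 3 * ((5 * u) ^ 4 * (u + 2) ^ 4 * (25 * ((u + 1) ^ 2 + 1)) ^ 6) := by gcongr
      _ = 5 ^ 16 * (3 * (u ^ 4 * (u + 2) ^ 4 * ((u + 1) ^ 2 + 1) ^ 6)) := by (set_option synthInstance.maxSize 99999 in exact Cfsg.Agent.Lib.RingK.eqN (by decide +kernel))
      _ ≤ 5 ^ 16 * (8 * A) := Nat.mul_le_mul_left _ h0
      _ = _ := by ring
  have h4 := Nat.pow_le_pow_left h3 3
  have h5 : 5 ^ 25 ≤ (u + 2) ^ 25 := Nat.pow_le_pow_left (by omega) 25
  have h6 : (3 ^ 5 * 17 ^ 6) ^ 3 * 5 ^ 25 * (u + 2) ^ 35 ≤ (8 * 5 ^ 16) ^ 3 * A ^ 3 := by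
    calc (3 ^ 5 * 17 ^ 6) ^ 3 * 5 ^ 25 * (u + 2) ^ 35 ≤ (3 ^ 5 * 17 ^ 6) ^ 3 * (u + 2) ^ 25 * (u + 2) ^ 35 := by gcongr
      _ = (3 ^ 5 * 17 ^ 6 * (u + 2) ^ 20) ^ 3 := by (set_option synthInstance.maxSize 99999 in exact Cfsg.Agent.Lib.RingK.eqN (by decide +kernel))
      _ ≤ (8 * 5 ^ 16 * A) ^ 3 := h4
      _ = _ := by ring
  have h7 : 0 < (u + 2) ^ 35 := Nat.pow_pos (Nat.succ_pos _)
  have h8 : (u + 1 + 1) = u + 2 := rfl
  have h9 : 8 * (81 ^ 4 * (u + 1 + 1) ^ 32 * (64 * (u + 1 + 1) ^ 3)) = 22039921152 * (u + 2) ^ 35 := by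
    rw [h8]; (set_option synthInstance.maxSize 99999 in exact Cfsg.Agent.Lib.RingK.eqN (by decide +kernel))
  rw [h9]
  norm_num only [_root_.gt_iff_lt] at h6 ⊢
  generalize (u + 2) ^ 35 = B at *
  generalize A ^ 3 = C at *
  omega

/-- `q ≥ 7` -/
theorem big_two {q : ℕ} (hq : 7 ≤ q) : 8 * ((64 * (q + 1) ^ 4) ^ 8 * (64 * (q + 1) ^ 3)) < AA 4 q ^ 3 := by
  obtain ⟨u, rfl⟩ : ∃ u, q = u + 1 := ⟨q - 1, by omega⟩
  have h0 := AA_lower u (by omega)
  have h1 : 3 * (u + 2) ≤ 4 * u := by omega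
  have h2 : 25 * (u + 2) ^ 2 ≤ 32 * ((u + 1) ^ 2 + 1) := by
    obtain ⟨w, rfl⟩ := Nat.exists_eq_add_of_le' (show 6 ≤ u by omega)
    nlinarith only [_root_.Nat.cast_nonneg (α := ℤ) (w)]
  generalize hA : AA 4 (u + 1) = A at *
  have h3 : 3 ^ 5 * 25 ^ 6 * (u + 2) ^ 20 ≤ 8 * 4 ^ 4 * 32 ^ 6 * A := by
    calc 3 ^ 5 * 25 ^ 6 * (u + 2) ^ 20 = 3 * ((3 * (u + 2)) ^ 4 * (u + 2) ^ 4 * (25 * (u + 2) ^ 2) ^ 6) := by (set_option synthInstance.maxSize 99999 in exact Cfsg.Agent.Lib.RingK.eqN (by decide +kernel))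
      _ ≤ 3 * ((4 * u) ^ 4 * (u + 2) ^ 4 * (32 * ((u + 1) ^ 2 + 1)) ^ 6) := by gcongr
      _ = 4 ^ 4 * 32 ^ 6 * (3 * (u ^ 4 * (u + 2) ^ 4 * ((u + 1) ^ 2 + 1) ^ 6)) := by (set_option synthInstance.maxSize 99999 in exact Cfsg.Agent.Lib.RingK.eqN (by decide +kernel))
      _ ≤ 4 ^ 4 * 32 ^ 6 * (8 * A) := Nat.mul_le_mul_left _ h0
      _ = _ := by ring
  have h4 := Nat.pow_le_pow_left h3 3
  have h5 : 8 ^ 25 ≤ (u + 2) ^ 25 := Nat.pow_le_pow_left (by omega) 25
  have h6 : (3 ^ 5 * 25 ^ 6) ^ 3 * 8 ^ 25 * (u + 2) ^ 35 ≤ (8 * 4 ^ 4 * 32 ^ 6) ^ 3 * A ^ 3 := by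
    calc (3 ^ 5 * 25 ^ 6) ^ 3 * 8 ^ 25 * (u + 2) ^ 35 ≤ (3 ^ 5 * 25 ^ 6) ^ 3 * (u + 2) ^ 25 * (u + 2) ^ 35 := by gcongr
      _ = (3 ^ 5 * 25 ^ 6 * (u + 2) ^ 20) ^ 3 := by (set_option synthInstance.maxSize 99999 in exact Cfsg.Agent.Lib.RingK.eqN (by decide +kernel))
      _ ≤ (8 * 4 ^ 4 * 32 ^ 6 * A) ^ 3 := h4
      _ = _ := by ring
  have h7 : 0 < (u + 2) ^ 35 := Nat.pow_pos (Nat.succ_pos _)
  have h8 : (u + 1 + 1) = u + 2 := rfl
  have h9 : 8 * ((64 * (u + 1 + 1) ^ 4) ^ 8 * (64 * (u + 1 + 1) ^ 3)) = 2 ^ 57 * (u + 2) ^ 35 := by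
    rw [h8]; (set_option synthInstance.maxSize 99999 in exact Cfsg.Agent.Lib.RingK.eqN (by decide +kernel))
  rw [h9]
  norm_num only [_root_.gt_iff_lt] at h6 ⊢
  generalize (u + 2) ^ 35 = B at *
  generalize A ^ 3 = C at *
  omega

theorem en_three : ∀ a ∈ [(2, 14), (5, 2), (7, 1), (13, 1), (41, 1)], en 4 3 (AA 4 3 / 2) a.1 a.2 = true := by
  delta en
  rw [Cfsg.Agent.H902.EntsFast.ents_eq, Cfsg.Agent.H902.EntsFast.val_eqF]
  decide +kernel

theorem en_five : en 4 5 (AA 4 5 / 2) 2 14 = true := by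
  delta en
  rw [Cfsg.Agent.H902.EntsFast.ents_eq, Cfsg.Agent.H902.EntsFast.val_eqF]
  decide +kernel

/-! ### the estimate -/

/-- the end of the general estimate: `A = |S|`-part -/
theorem est {q A v B : ℕ} {X : Sh} {g MS I : ℕ} (hv : v.Prime) (hA0 : A ≠ 0) (hAA : AA 4 q ≤ 2 * A)
    (hX : Art.Real X v g MS) (hX2 : X ≠ .L 2)
    (hI : I ≤ dd X (v ^ g) * NN X * g) (hI0 : 0 < I) (hd : A ∣ I * MS)
    (hN : v ^ (g * NN X) ≤ P v A) (hN4 : g * NN X ≤ 4 * (q + 1)) (hB : P v A ^ 8 ≤ B)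
    (hlt : 8 * (B * (64 * (q + 1) ^ 3)) < AA 4 q ^ 3) : False := by
  obtain ⟨D, hD⟩ := P_dvd v A
  have hcop : Nat.Coprime D v := by
    have h1 : D = A / v ^ A.factorization v := by
      have h0 : 0 < v ^ A.factorization v := Nat.pow_pos hv.pos
      have h2 : A = v ^ A.factorization v * D := hD
      exact (Nat.div_eq_of_eq_mul_right h0 h2).symm
    rw [h1]
    exact Nat.Coprime.symm ((Nat.Prime.coprime_iff_not_dvd hv).2 (Nat.not_dvd_ordCompl hv hA0))
  have hDd : D ∣ I * MS := (Dvd.intro_left _ hD.symm).trans hd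
  have h1 := cube_num hX hX2 hI hI0 hcop hDd
  have h2 : AA 4 q ^ 3 ≤ 8 * (B * (64 * (q + 1) ^ 3)) := by
    calc AA 4 q ^ 3 ≤ (2 * A) ^ 3 := Nat.pow_le_pow_left hAA 3
      _ = 8 * (P v A ^ 3 * D ^ 3) := by rw [mul_pow, ← mul_pow (P v A), ← hD]; norm_num
      _ ≤ 8 * (P v A ^ 3 * ((v ^ (g * NN X)) ^ 5 * (g * NN X) ^ 3)) := by gcongr
      _ ≤ 8 * (P v A ^ 3 * ((P v A) ^ 5 * (4 * (q + 1)) ^ 3)) := by gcongr
      _ = 8 * (P v A ^ 8 * (64 * (q + 1) ^ 3)) := by ring
      _ ≤ _ := by gcongr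
  omega

/-- **E4.** -/
theorem no_cross_four {p f M κ : ℕ} {Γ : Type u} [Group Γ] [Finite Γ] {S : Subgroup Γ} (h : Dat 4 p f M κ Γ S)
    (h2 : p ^ f ≠ 2) {N : Grp} {X : Art.Sh} {v g : ℕ} (hN : IsLie N X v g)
    (hr : OrdDiv.Real N S) (hX : Art.Real X v g (Nat.card S)) (hX2 : X ≠ .L 2) (hvp : v ≠ p) : False := by
  have hnor := h.normal
  have hsim := h.simple
  have hY := h.hY
  have hp := hY.hp
  have hv := hX.hp
  have hna : ¬ IsMulCommutative S := fun hc => h.nonab fun a b => hc.is_comm.comm a b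
  have hidx : S.index ∣ Nat.card (Cfsg.Out S) := index_dvd S hna h.cent
  have h0 : 0 < Nat.card (Cfsg.Out S) := by
    have : Finite (MulAut S) := Finite.of_injective (fun f : MulAut S => (f : S → S)) DFunLike.coe_injective
    exact Nat.card_pos
  obtain ⟨c, hc1, hc2, -⟩ := Cfsg.Agent.H364.OutLie.card_out h.nonab hN hr hX
  have hle : Nat.card (Cfsg.Out S) ≤ Art.dd X (v ^ g) * Art.NN X * g :=
    Cfsg.Agent.H364.SpOut.card_out_le h.nonab hN hr hX
  have hI : S.index ≤ Art.dd X (v ^ g) * Art.NN X * g := (Nat.le_of_dvd h0 hidx).trans hle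
  have hI0 : 0 < S.index := Nat.pos_of_ne_zero Subgroup.index_ne_zero_of_finite
  have hI' : S.index ∣ 24 * Art.dd X (v ^ g) * g := by
    calc S.index ∣ Nat.card (Cfsg.Out S) := hidx
      _ = c * g := hc1
      _ ∣ 24 * Art.dd X (v ^ g) * g := Nat.mul_dvd_mul_right hc2 g
  have hMS : Nat.card S ∣ M := by
    rw [← h.card, ← S.card_mul_index]
    exact Dvd.dvd.mul_left (Dvd.intro _ rfl) κ
  have hM0 := hY.M_ne
  have hq2 := hY.q_ge
  -- the order
  obtain ⟨A, hA⟩ : Nat.gcd 2 (p ^ f - 1) ∣ AA 4 (p ^ f) := by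
    refine (Nat.gcd_dvd_right _ _).trans ?_
    rw [AA, Finset.prod_range_succ']
    refine Dvd.dvd.mul_left ?_ _
    have h3 : p ^ f - 1 ∣ (p ^ f) ^ (2 * (0 + 1)) - 1 := by
      have := Nat.sub_dvd_pow_sub_pow (p ^ f) 1 (2 * (0 + 1))
      rwa [one_pow] at this
    exact h3
  have hgpos : 0 < Nat.gcd 2 (p ^ f - 1) := Nat.gcd_pos_of_pos_left _ (by norm_num)
  have hMA : M = (p ^ f) ^ 16 * A := by
    have h3 := hY.eq
    have h4 : dd (.C 4) (p ^ f) = Nat.gcd 2 (p ^ f - 1) := rfl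
    have h5 : num (.C 4) (p ^ f) = AA 4 (p ^ f) := rfl
    have h6 : NN (.C 4) = 16 := rfl
    rw [h4, h5, h6, hA] at h3
    apply Nat.eq_of_mul_eq_mul_left hgpos
    rw [h3]; ring
  have hA0 : A ≠ 0 := by
    rintro rfl
    exact hM0 (by rw [hMA, mul_zero])
  have hAAd : A ∣ AA 4 (p ^ f) := Dvd.intro_left _ hA.symm
  have hAp : ¬ p ∣ A := fun h3 => not_dvd_of_AA hq2 hp (h3.trans hAAd) (dvd_pow_self p (by have := hY.hf; omega))
  have hAk : Nat.Coprime A κ := by
    refine Nat.coprime_of_dvd fun l hl h3 h4 => ?_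
    have h5 : l = p := by
      rcases h.kap l hl h4 with h5 | ⟨h5, -⟩ | ⟨h5, -⟩ | ⟨h5, -⟩
      · exact h5
      all_goals omega
    subst h5
    exact hAp h3
  have hd : A ∣ S.index * Nat.card S := by
    have h3 : A ∣ κ * (Nat.card S * S.index) := by
      rw [S.card_mul_index, h.card, hMA]
      exact Dvd.intro_left _ rfl
    rw [mul_comm S.index]
    exact hAk.dvd_of_dvd_mul_left h3
  have hN1 : 1 ≤ g * NN X := Nat.mul_pos hX.hf (NN_pos hX)
  have hPM : v ^ (g * NN X) ≤ P v M := pow_le_P hX hY hMS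
  have hvq := hY.not_dvd_q hv hvp
  have hPA : P v M = P v A := by
    rw [hMA, P_mul (pow_ne_zero _ (by omega)) hA0, P_eq_one (fun h3 => hvq (hv.dvd_of_dvd_pow h3)), one_mul]
  have hAA2 : AA 4 (p ^ f) ≤ 2 * A := by
    rw [hA]
    exact Nat.mul_le_mul_right _ (Nat.le_of_dvd (by norm_num) (Nat.gcd_dvd_left _ _))
  have hAq : ∀ q, p ^ f = q → Nat.gcd 2 (q - 1) = 2 → A = AA 4 q / 2 := by
    intro q hq hg2
    subst hq
    rw [hA, hg2]
    omega
  by_cases h3 : p ^ f = 3
  · have hd' : AA 4 3 / 2 ∣ S.index * Nat.card S := by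
      rw [← hAq 3 h3 (by norm_num)]; exact hd
    have hvM : v ∣ M := by
      refine (dvd_trans ?_ (P_dvd v (Nat.card S))).trans hMS
      rw [hX.P_self, ← pow_mul]
      exact dvd_pow_self v (by omega)
    have hv3 : v ≠ 3 := by
      intro h4
      apply hvq
      rw [h3, h4]
    have hcases : v = 2 ∨ v = 5 ∨ v = 7 ∨ v = 13 ∨ v = 41 := by
      rw [M_eq hY h3] at hvM
      have e : cardC 4 3 = 3 ^ 16 * (2 ^ 14 * (5 ^ 2 * (7 * (13 * 41)))) := by decide +kernel
      rw [e] at hvM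
      rcases hv.dvd_mul.1 hvM with h4 | h4
      · exact absurd ((Nat.prime_dvd_prime_iff_eq hv Nat.prime_three).1 (hv.dvd_of_dvd_pow h4)) hv3
      rcases hv.dvd_mul.1 h4 with h4 | h4
      · exact Or.inl ((Nat.prime_dvd_prime_iff_eq hv Nat.prime_two).1 (hv.dvd_of_dvd_pow h4))
      rcases hv.dvd_mul.1 h4 with h4 | h4
      · exact Or.inr (Or.inl ((Nat.prime_dvd_prime_iff_eq hv Nat.prime_five).1 (hv.dvd_of_dvd_pow h4)))
      rcases hv.dvd_mul.1 h4 with h4 | h4
      · exact Or.inr (Or.inr (Or.inl ((Nat.prime_dvd_prime_iff_eq hv (by norm_num)).1 h4)))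
      rcases hv.dvd_mul.1 h4 with h4 | h4
      · exact Or.inr (Or.inr (Or.inr (Or.inl ((Nat.prime_dvd_prime_iff_eq hv (by norm_num)).1 h4))))
      · exact Or.inr (Or.inr (Or.inr (Or.inr ((Nat.prime_dvd_prime_iff_eq hv (by norm_num)).1 h4))))
    rcases hcases with rfl | rfl | rfl | rfl | rfl
    · exact en_false hY h3 hX hX2 hMS hI' hd' (en_three (2, 14) (by decide))
    · exact en_false hY h3 hX hX2 hMS hI' hd' (en_three (5, 2) (by decide))
    · exact en_false hY h3 hX hX2 hMS hI' hd' (en_three (7, 1) (by decide))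
    · exact en_false hY h3 hX hX2 hMS hI' hd' (en_three (13, 1) (by decide))
    · exact en_false hY h3 hX hX2 hMS hI' hd' (en_three (41, 1) (by decide))
  have hq4 : 4 ≤ p ^ f := by omega
  have hPle : P v A ≤ P v (AA 4 (p ^ f)) := P_mono hv (AA_ne hq2) hAAd
  have hNle : g * NN X ≤ 4 * (p ^ f + 1) := by
    refine exp_le hv.two_le (Or.inl (by omega)) ?_
    rw [hPA] at hPM
    exact (hPM.trans hPle).trans (P_le_gen hv hq2 hvq (by omega))
  rw [hPA] at hPM
  by_cases hv2 : v = 2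
  · subst hv2
    have hodd : Odd (p ^ f) := Nat.not_even_iff_odd.1 fun h => hvq h.two_dvd
    by_cases h5 : p ^ f = 5
    · have hd' : AA 4 5 / 2 ∣ S.index * Nat.card S := by
        rw [← hAq 5 h5 (by norm_num)]; exact hd
      exact en_false hY h5 hX hX2 hMS hI' hd' en_five
    have h7 : 7 ≤ p ^ f := by
      obtain ⟨k, hk⟩ := hodd
      (clear * - hq4 h5 hk; omega)
    refine est (B := (64 * (p ^ f + 1) ^ 4) ^ 8) hv hA0 hAA2 hX hX2 hI hI0 hd hPM hNle ?_ (big_two h7)
    apply Nat.pow_le_pow_left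
    have h8 := Cfsg.Agent.H364.SpSmall.P_two_le hY rfl hvp (by norm_num)
    rw [hPA] at h8
    refine h8.trans (le_of_eq ?_)
    rw [mul_pow]
    have : 4 ^ 4 * (p ^ f + 1) ^ 4 = 64 * (p ^ f + 1) ^ 4 * 4 := by ring
    rw [this, Nat.mul_div_cancel _ (by norm_num)]
  · refine est (B := 81 ^ 4 * (p ^ f + 1) ^ 32) hv hA0 hAA2 hX hX2 hI hI0 hd hPM hNle ?_ (big_odd hq4)
    have h8 := P_odd_sq_le (n := 4) hv hv2 hq2 hvq
    have h9 : P v A ^ 2 ≤ 3 ^ 4 * (p ^ f + 1) ^ (2 * 4) := (Nat.pow_le_pow_left hPle 2).trans h8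
    calc P v A ^ 8 = (P v A ^ 2) ^ 4 := by rw [← pow_mul]
      _ ≤ (3 ^ 4 * (p ^ f + 1) ^ (2 * 4)) ^ 4 := Nat.pow_le_pow_left h9 4
      _ = 81 ^ 4 * (p ^ f + 1) ^ 32 := by
        rw [mul_pow, ← pow_mul (p ^ f + 1)]; norm_num

end Cfsg.Agent.H545.CS
end

-- part: H729/CS/SpE5
section
/-!
# S3677, row `C_n`, piece E5: `PSp₆(2)` and `PSp₈(2)` (helper729)

Enumeration of the simple groups by order.
-/

set_option autoImplicit false

namespace Cfsg.Agent.H729.CS

open Subgroup Cfsg Cfsg.Agent.OrdDiv Cfsg.Agent.H902 Cfsg.Agent.H902.Names Cfsg.Agent.H221.CS Cfsg.Agent.H902.Art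

universe u

/-- the enumeration: `MS ∣ M`, `r ∣ MS`, `D ∣ k · d · f · MS` -/
def chk (M r D v a k : ℕ) (exc : List (Art.Sh × ℕ)) : Bool :=
  (List.range (a + 1)).all fun N => (ents v N).all fun x =>
    (M % val v x != 0) || (val v x % r != 0) || ((k * dd x.1 (v ^ x.2) * x.2 * val v x) % D != 0) || decide (x ∈ exc)

theorem chk_mem {M r D v a k MS I g : ℕ} {X : Art.Sh} {exc : List (Art.Sh × ℕ)} (hM0 : M ≠ 0) (hX : Art.Real X v g MS)
    (hMS : MS ∣ M) (hr : r ∣ MS) (hI : I ∣ k * dd X (v ^ g) * g) (hD : D ∣ I * MS) (hv : ¬ v ^ (a + 1) ∣ M)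
    (hc : chk M r D v a k exc = true) : (X, g) ∈ exc := by
  rw [chk, List.all_eq_true] at hc
  have hN : g * NN X ≤ a := by
    by_contra hcon
    apply hv
    rw [P_prime_exp hX] at hcon
    exact (pow_dvd_pow v (by omega)).trans ((Nat.ordProj_dvd MS v).trans hMS)
  have h1 := hc (g * NN X) (by rw [List.mem_range]; omega)
  rw [List.all_eq_true] at h1
  have h2 := h1 (X, g) (mem_ents hX rfl)
  rw [val_eq hX] at h2
  simp only [Bool.or_eq_true, bne_iff_ne, ne_eq, decide_eq_true_eq] at h2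
  rcases h2 with ((h2 | h2) | h2) | h2
  · exact absurd (Nat.mod_eq_zero_of_dvd hMS) h2
  · exact absurd (Nat.mod_eq_zero_of_dvd hr) h2
  · exact absurd (Nat.mod_eq_zero_of_dvd (hD.trans (Nat.mul_dvd_mul_right hI MS))) h2
  · exact h2

theorem chk6 : ∀ a ∈ [(2, 9, 6, [(Art.Sh.L 3, 2), (Art.Sh.C 3, 1)]), (3, 4, 24, []), (5, 1, 24, []), (7, 1, 24, [])],
    chk 1451520 7 2835 a.1 a.2.1 a.2.2.1 a.2.2.2 = true := by
  delta chk
  rw [Cfsg.Agent.H902.EntsFast.ents_eq, Cfsg.Agent.H902.EntsFast.val_eqF]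
  decide +kernel

theorem chk8 : ∀ a ∈ [(2, 16, 6, [(Art.Sh.L 4, 2), (Art.Sh.C 4, 1)]), (3, 5, 24, []), (5, 2, 24, []), (7, 1, 24, []),
    (17, 1, 24, [])],
    chk 47377612800 17 722925 a.1 a.2.1 a.2.2.1 a.2.2.2 = true := by
  delta chk
  rw [Cfsg.Agent.H902.EntsFast.ents_eq, Cfsg.Agent.H902.EntsFast.val_eqF]
  decide +kernel

theorem spor6 : ∀ x ∈ spor, ¬ (x.2 ∣ 1451520 ∧ 7 ∣ x.2) := by decide +kernel

theorem spor8 : ∀ x ∈ spor, ¬ (x.2 ∣ 47377612800 ∧ 17 ∣ x.2) := by decide +kernel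

section

variable {n p f M κ : ℕ} {Γ : Type u} [Group Γ] [Finite Γ] {S : Subgroup Γ}

theorem dat_mul (h : Dat n p f M κ Γ S) : κ * (Nat.card S * S.index) = M := by
  rw [S.card_mul_index, h.card]

theorem dat_index (h : Dat n p f M κ Γ S) : S.index ∣ Nat.card (Cfsg.Out S) := by
  have := h.normal
  have := h.simple
  exact Cfsg.Agent.H364.index_dvd_out S h.nonab h.cent

theorem prime_of_order {r : ℕ} (hr : r.Prime) (h : orderOf ((2 : ℕ) : ZMod r) = 3) : r = 7 := by
  have h1 : ((2 : ℕ) : ZMod r) ^ 3 = 1 := by rw [← h]; exact pow_orderOf_eq_one _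
  have h2 : ((7 : ℕ) : ZMod r) = 0 := by
    have : ((7 : ℕ) : ZMod r) = ((2 : ℕ) : ZMod r) ^ 3 - 1 := by push_cast; ring
    rw [this, h1, sub_self]
  rw [ZMod.natCast_eq_zero_iff] at h2
  exact (Nat.prime_dvd_prime_iff_eq hr (by norm_num)).1 h2

theorem prime_of_order' {r : ℕ} (hr : r.Prime) (h : orderOf ((2 : ℕ) : ZMod r) = 8) : r = 17 := by
  have : Fact r.Prime := ⟨hr⟩
  have h1 : ((2 : ℕ) : ZMod r) ^ 8 = 1 := by rw [← h]; exact pow_orderOf_eq_one _
  have h3 : ((2 : ℕ) : ZMod r) ^ 4 ≠ 1 := fun h4 => by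
    have h5 := orderOf_le_of_pow_eq_one (by norm_num) h4
    omega
  have h2 : (((2 : ℕ) : ZMod r) ^ 4 - 1) * ((17 : ℕ) : ZMod r) = 0 := by
    have : (((2 : ℕ) : ZMod r) ^ 4 - 1) * ((17 : ℕ) : ZMod r) = ((2 : ℕ) : ZMod r) ^ 8 - 1 := by push_cast; ring
    rw [this, h1, sub_self]
  rcases mul_eq_zero.1 h2 with h4 | h4
  · exact absurd (sub_eq_zero.1 h4) h3
  · rw [ZMod.natCast_eq_zero_iff] at h4
    exact (Nat.prime_dvd_prime_iff_eq hr (by norm_num)).1 h4

/-- E5 -/
theorem sp6 (h : Dat 3 2 1 M κ Γ S) : Nat.card S = M ∨ (κ = 8 ∧ Nat.card S = 181440) := by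
  have hsim := h.simple
  have hM : M = 1451520 := by
    have h1 := h.hY.eq
    have e1 : dd (.C 3) (2 ^ 1) = 1 := by decide +kernel
    have e2 : (2 ^ 1) ^ NN (.C 3) * num (.C 3) (2 ^ 1) = 1451520 := by decide +kernel
    rw [e1, e2] at h1
    omega
  have hmul := dat_mul h
  have hI := dat_index h
  obtain ⟨j, hκ⟩ := h.kap32 rfl rfl
  have h7 : 7 ∣ Nat.card S := by
    obtain ⟨r, hr, ho, hd⟩ := h.dvd
    have hcl : cl 3 (2 ^ 1) = 3 := by decide
    rw [hcl, pow_one] at ho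
    rw [prime_of_order hr ho] at hd
    exact hd
  have hMS : Nat.card S ∣ 1451520 := by
    rw [← hM, ← hmul]
    exact (Dvd.intro _ rfl).mul_left _
  have hD : 2835 ∣ S.index * Nat.card S := by
    have h1 : 2835 ∣ κ * (Nat.card S * S.index) := by rw [hmul, hM]; norm_num
    rw [mul_comm S.index]
    refine Nat.Coprime.dvd_of_dvd_mul_left ?_ h1
    rw [hκ]
    exact Nat.Coprime.pow_right _ (by norm_num)
  cases Names.exists_nam table (Cfsg.Agent.S0000.result (G := S)) h.nonab with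
  | alt k hk h1 hc =>
    obtain ⟨e⟩ := h1
    have h4 : S.index ∣ 4 := hI.trans (Cfsg.Agent.H370.AAM.out_alt h.nonab hk e).2
    have hk10 : k ≤ 10 := by
      by_contra hcon
      have h5 : 11 ∣ 2 * Nat.card S := by
        rw [hc]
        exact Nat.dvd_factorial (by norm_num) (by omega)
      have h6 : 11 ∣ 2 * 1451520 := h5.trans (Nat.mul_dvd_mul_left 2 hMS)
      norm_num at h6
    have h5 : 2835 ∣ 4 * Nat.card S := hD.trans (Nat.mul_dvd_mul_right h4 _)
    have hpos : 0 < Nat.card S := Nat.card_pos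
    interval_cases k <;> simp only [Nat.factorial] at hc
    · (clear * - h5 hc; omega)
    · (clear * - h5 hc; omega)
    · (clear * - h5 hc; omega)
    · (clear * - h5 hc; omega)
    · have h6 : Nat.card S = 181440 := by (clear * - hc; omega)
      right
      refine ⟨?_, h6⟩
      rw [h6, hM] at hmul
      have h7 : κ * S.index = 8 := by
        have : κ * (181440 * S.index) = 181440 * (κ * S.index) := by ring
        rw [this] at hmul
        omega
      have h8 : j < 2 := by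
        by_contra hcon
        have h9 : 8 ^ 2 ∣ κ := by rw [hκ]; exact pow_dvd_pow 8 (by omega)
        have h10 : 8 ^ 2 ∣ κ * S.index := h9.mul_right _
        rw [h7] at h10
        norm_num at h10
      interval_cases j
      · rw [hκ, pow_zero, one_mul] at h7
        rw [h7] at h4
        norm_num at h4
      · rw [hκ, pow_one]
    · exfalso
      have h6 : Nat.card S = 1814400 := by (clear * - hc; omega)
      rw [h6] at hMS
      norm_num at hMS
  | spor x hx h1 hc =>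
    rw [hc] at hMS h7
    exact absurd ⟨hMS, h7⟩ (spor6 x hx)
  | lie N X v g hN h1 hX =>
    obtain ⟨c, hc1, hc2, hc3⟩ := Cfsg.Agent.H364.OutLie.card_out h.nonab hN h1 hX
    have hIc : S.index ∣ 24 * dd X (v ^ g) * g := (hc1 ▸ hI).trans (Nat.mul_dvd_mul_right hc2 g)
    have hvM : v ∣ 1451520 := by
      refine Dvd.dvd.trans ?_ hMS
      have h2 := P_prime_exp hX
      have h3 := NN_pos hX
      have h4 := hX.hf
      refine (dvd_pow_self v ?_).trans (Nat.ordProj_dvd (Nat.card S) v)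
      rw [← h2]
      exact (Nat.mul_pos h4 h3).ne'
    have hv : v = 2 ∨ v = 3 ∨ v = 5 ∨ v = 7 := by
      have e : 1451520 = 2 ^ 9 * (3 ^ 4 * (5 * 7)) := by norm_num
      rw [e] at hvM
      have hvp := hX.hp
      rcases hvp.dvd_mul.1 hvM with h2 | h2
      · exact Or.inl ((Nat.prime_dvd_prime_iff_eq hvp (by norm_num)).1 (hvp.dvd_of_dvd_pow h2))
      rcases hvp.dvd_mul.1 h2 with h2 | h2
      · exact Or.inr (Or.inl ((Nat.prime_dvd_prime_iff_eq hvp (by norm_num)).1 (hvp.dvd_of_dvd_pow h2)))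
      rcases hvp.dvd_mul.1 h2 with h2 | h2
      · exact Or.inr (Or.inr (Or.inl ((Nat.prime_dvd_prime_iff_eq hvp (by norm_num)).1 h2)))
      · exact Or.inr (Or.inr (Or.inr ((Nat.prime_dvd_prime_iff_eq hvp (by norm_num)).1 h2)))
    rcases hv with rfl | rfl | rfl | rfl
    · have hIc' : S.index ∣ 6 * dd X (2 ^ g) * g := (hc1 ▸ hI).trans (Nat.mul_dvd_mul_right (hc3 rfl) g)
      have h2 := chk_mem (by norm_num) hX hMS h7 hIc' hD (by norm_num) (chk6 (2, 9, 6, [(Art.Sh.L 3, 2), (Art.Sh.C 3, 1)]) (by simp))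
      simp only [List.mem_cons, Prod.mk.injEq, List.not_mem_nil, or_false] at h2
      rcases h2 with ⟨rfl, rfl⟩ | ⟨rfl, rfl⟩
      · exfalso
        cases hN
        obtain ⟨F, _, _, hF, ⟨e⟩⟩ := h1
        have h3 := Cfsg.Agent.H370.AAM.out_psl h.nonab Nat.prime_two (by norm_num) hF (by norm_num) (by norm_num) e rfl
        have h4 : Nat.card (Cfsg.Out S) = 12 := by rw [h3]; norm_num
        rw [h4] at hI
        have h5 := val_eq hX
        have h6 : val 2 (Art.Sh.L 3, 2) = 20160 := by decide +kernel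
        rw [h6] at h5
        have h7 := hD.trans (Nat.mul_dvd_mul_right hI _)
        rw [← h5] at h7
        norm_num at h7
      · left
        have h5 := val_eq hX
        have h6 : val 2 (Art.Sh.C 3, 1) = 1451520 := by decide +kernel
        rw [← h5, h6, hM]
    · have h2 := chk_mem (by norm_num) hX hMS h7 hIc hD (by norm_num) (chk6 (3, 4, 24, []) (by simp))
      simp at h2
    · have h2 := chk_mem (by norm_num) hX hMS h7 hIc hD (by norm_num) (chk6 (5, 1, 24, []) (by simp))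
      simp at h2
    · have h2 := chk_mem (by norm_num) hX hMS h7 hIc hD (by norm_num) (chk6 (7, 1, 24, []) (by simp))
      simp at h2

theorem sp8 (h : Dat 4 2 1 M κ Γ S) : Nat.card S = M := by
  have hsim := h.simple
  have hM : M = 47377612800 := by
    have h1 := h.hY.eq
    have e1 : dd (.C 4) (2 ^ 1) = 1 := by decide +kernel
    have e2 : (2 ^ 1) ^ NN (.C 4) * num (.C 4) (2 ^ 1) = 47377612800 := by decide +kernel
    rw [e1, e2] at h1
    omega
  have hmul := dat_mul h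
  have hI := dat_index h
  have h17 : 17 ∣ Nat.card S := by
    obtain ⟨r, hr, ho, hd⟩ := h.dvd
    have hcl : cl 4 (2 ^ 1) = 8 := by decide
    rw [hcl, pow_one] at ho
    rw [prime_of_order' hr ho] at hd
    exact hd
  have hMS : Nat.card S ∣ 47377612800 := by
    rw [← hM, ← hmul]
    exact (Dvd.intro _ rfl).mul_left _
  have hD : 722925 ∣ S.index * Nat.card S := by
    have h1 : 722925 ∣ κ * (Nat.card S * S.index) := by rw [hmul, hM]; norm_num
    rw [mul_comm S.index]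
    refine Nat.Coprime.dvd_of_dvd_mul_left ?_ h1
    apply Nat.Coprime.symm
    apply Nat.coprime_of_dvd
    intro l hl hlκ hlD
    rcases h.kap l hl hlκ with h2 | ⟨h2, -⟩ | ⟨h2, -⟩ | ⟨h2, -⟩
    · subst h2
      norm_num at hlD
    · omega
    · omega
    · omega
  cases Names.exists_nam table (Cfsg.Agent.S0000.result (G := S)) h.nonab with
  | alt k hk h1 hc =>
    exfalso
    have hk17 : 17 ≤ k := by
      have h5 : 17 ∣ k.factorial := by rw [← hc]; exact h17.mul_left 2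
      exact ((Nat.Prime.dvd_factorial (by norm_num)).1 h5)
    have h5 : 13 ∣ 2 * Nat.card S := by
      rw [hc]
      exact Nat.dvd_factorial (by norm_num) (by omega)
    have h6 : 13 ∣ 2 * 47377612800 := h5.trans (Nat.mul_dvd_mul_left 2 hMS)
    norm_num at h6
  | spor x hx h1 hc =>
    rw [hc] at hMS h17
    exact absurd ⟨hMS, h17⟩ (spor8 x hx)
  | lie N X v g hN h1 hX =>
    obtain ⟨c, hc1, hc2, hc3⟩ := Cfsg.Agent.H364.OutLie.card_out h.nonab hN h1 hX
    have hIc : S.index ∣ 24 * dd X (v ^ g) * g := (hc1 ▸ hI).trans (Nat.mul_dvd_mul_right hc2 g)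
    have hvM : v ∣ 47377612800 := by
      refine Dvd.dvd.trans ?_ hMS
      have h2 := P_prime_exp hX
      have h3 := NN_pos hX
      have h4 := hX.hf
      refine (dvd_pow_self v ?_).trans (Nat.ordProj_dvd (Nat.card S) v)
      rw [← h2]
      exact (Nat.mul_pos h4 h3).ne'
    have hv : v = 2 ∨ v = 3 ∨ v = 5 ∨ v = 7 ∨ v = 17 := by
      have e : 47377612800 = 2 ^ 16 * (3 ^ 5 * (5 ^ 2 * (7 * 17))) := by norm_num
      rw [e] at hvM
      have hvp := hX.hp
      rcases hvp.dvd_mul.1 hvM with h2 | h2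
      · exact Or.inl ((Nat.prime_dvd_prime_iff_eq hvp (by norm_num)).1 (hvp.dvd_of_dvd_pow h2))
      rcases hvp.dvd_mul.1 h2 with h2 | h2
      · exact Or.inr (Or.inl ((Nat.prime_dvd_prime_iff_eq hvp (by norm_num)).1 (hvp.dvd_of_dvd_pow h2)))
      rcases hvp.dvd_mul.1 h2 with h2 | h2
      · exact Or.inr (Or.inr (Or.inl ((Nat.prime_dvd_prime_iff_eq hvp (by norm_num)).1 (hvp.dvd_of_dvd_pow h2))))
      rcases hvp.dvd_mul.1 h2 with h2 | h2
      · exact Or.inr (Or.inr (Or.inr (Or.inl ((Nat.prime_dvd_prime_iff_eq hvp (by norm_num)).1 h2))))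
      · exact Or.inr (Or.inr (Or.inr (Or.inr ((Nat.prime_dvd_prime_iff_eq hvp (by norm_num)).1 h2))))
    rcases hv with rfl | rfl | rfl | rfl | rfl
    · have hIc' : S.index ∣ 6 * dd X (2 ^ g) * g := (hc1 ▸ hI).trans (Nat.mul_dvd_mul_right (hc3 rfl) g)
      have h2 := chk_mem (by norm_num) hX hMS h17 hIc' hD (by norm_num) (chk8 (2, 16, 6, [(Art.Sh.L 4, 2), (Art.Sh.C 4, 1)]) (by simp))
      simp only [List.mem_cons, Prod.mk.injEq, List.not_mem_nil, or_false] at h2
      rcases h2 with ⟨rfl, rfl⟩ | ⟨rfl, rfl⟩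
      · exfalso
        cases hN
        obtain ⟨F, _, _, hF, ⟨e⟩⟩ := h1
        have h3 := Cfsg.Agent.H370.AAM.out_psl h.nonab Nat.prime_two (by norm_num) hF (by norm_num) (by norm_num) e rfl
        have h4 : Nat.card (Cfsg.Out S) = 4 := by rw [h3]; norm_num
        rw [h4] at hI
        have h5 := val_eq hX
        have h6 : val 2 (Art.Sh.L 4, 2) = 987033600 := by decide +kernel
        rw [h6] at h5
        have h7 := hD.trans (Nat.mul_dvd_mul_right hI _)
        rw [← h5] at h7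
        norm_num at h7
      · have h5 := val_eq hX
        have h6 : val 2 (Art.Sh.C 4, 1) = 47377612800 := by decide +kernel
        rw [← h5, h6, hM]
    · have h2 := chk_mem (by norm_num) hX hMS h17 hIc hD (by norm_num) (chk8 (3, 5, 24, []) (by simp))
      simp at h2
    · have h2 := chk_mem (by norm_num) hX hMS h17 hIc hD (by norm_num) (chk8 (5, 2, 24, []) (by simp))
      simp at h2
    · have h2 := chk_mem (by norm_num) hX hMS h17 hIc hD (by norm_num) (chk8 (7, 1, 24, []) (by simp))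
      simp at h2
    · have h2 := chk_mem (by norm_num) hX hMS h17 hIc hD (by norm_num) (chk8 (17, 1, 24, []) (by simp))
      simp at h2

end

end Cfsg.Agent.H729.CS
end

-- part: H221/CS/Same
section
/-!
# S3677, rows `PSp(2n, q)` and `PΩ(2n + 1, q)`: the simple factor (helper221)
-/

set_option autoImplicit false
set_option linter.unusedSectionVars false

namespace Cfsg.Agent.H221.CS

open Subgroup Cfsg Cfsg.Agent.OrdDiv Cfsg.Agent.H364 Cfsg.Agent.H902 Cfsg.Agent.H902.Names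
open Cfsg.Agent.H72.AdjOrth Cfsg.Agent.H364.SpVal Cfsg.Agent.H364.SpSmall Cfsg.Agent.H364.SpCyc
open Cfsg.Agent.H364.SpFrame Cfsg.Agent.H364.ArithU

universe u

variable {n p f M κ : ℕ} {Γ : Type u} [Group Γ] [Finite Γ] {S : Subgroup Γ}

/-- base-primitive primes -/
theorem Dat.exists_base (h : Dat n p f M κ Γ S) {i : ℕ} (hi : 2 ≤ i) (hin : i ≤ n) (hne : ¬ (p = 2 ∧ f * (2 * i) = 6)) :
    ∃ r : ℕ, r.Prime ∧ r ≠ 2 ∧ r ≠ p ∧ r ∣ M ∧ orderOf (p : ZMod r) = f * (2 * i) ∧
      orderOf (((p ^ f) ^ 2 : ℕ) : ZMod r) = i := by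
  have hf := h.hY.hf
  have hq := h.q_ge
  have hfk : 2 * i ≤ f * (2 * i) := Nat.le_mul_of_pos_left _ hf
  obtain ⟨r, hr, hro⟩ := Cfsg.Agent.Lib.Zsigmondy.exists_prime_orderOf h.hY.hp.two_le (show 2 ≤ f * (2 * i) by omega)
    (fun h => by omega) hne
  obtain ⟨h1, h2⟩ := ne_of_order hr (show 3 ≤ f * (2 * i) by omega) hro
  have hrp : r ≠ p := fun h3 => h2 (by rw [h3])
  have hee : orderOf ((p ^ f : ℕ) : ZMod r) = 2 * i := by
    rw [Nat.cast_pow, orderOf_pow' _ (by omega), hro, Nat.gcd_eq_right (dvd_mul_right f _),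
      Nat.mul_div_cancel_left _ hf]
  have hee2 : orderOf (((p ^ f) ^ 2 : ℕ) : ZMod r) = i := by
    rw [Nat.cast_pow, orderOf_pow' _ (by norm_num), hee, Nat.gcd_eq_right (dvd_mul_right 2 _),
      Nat.mul_div_cancel_left _ (by norm_num)]
  refine ⟨r, hr, by omega, hrp, ?_, hro, hee2⟩
  have h3 : r ∣ AA n (p ^ f) := by
    have h4 : r ∣ (p ^ f) ^ (2 * i) - 1 := by
      rw [Cfsg.Agent.Lib.Zsigmondy.dvd_pow_sub_one_iff (by omega), hee]
    refine h4.trans ?_
    rw [AA]
    have := Finset.dvd_prod_of_mem (fun i => (p ^ f) ^ (2 * (i + 1)) - 1) (show i - 1 ∈ Finset.range n by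
      rw [Finset.mem_range]; omega)
    simpa only [Nat.sub_add_cancel (show 1 ≤ i by omega)] using this
  have h5 : r ∣ Art.dd (.C n) (p ^ f) * M := by
    rw [h.hY.eq]
    exact h3.mul_left _
  rcases hr.dvd_mul.1 h5 with h6 | h6
  · have h7 : r ∣ 2 := h6.trans (Nat.gcd_dvd_left _ _)
    have := Nat.le_of_dvd (by norm_num) h7
    omega
  · exact h6

/-- **`S` of Lie type in characteristic `p`.** -/
theorem same (h : Dat n p f M κ Γ S) (h42 : ¬ (n = 4 ∧ p ^ f = 2)) (h32 : ¬ (n = 3 ∧ p ^ f = 2)) {N : Grp}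
    {X : Art.Sh} {g : ℕ} (hN : IsLie N X p g) (hr : OrdDiv.Real N S) (hX : Art.Real X p g (Nat.card S)) :
    Nat.card S = M := by
  have hn := h.hn
  have hf := h.hY.hf
  have hp := h.hY.hp
  have hsim := h.simple
  obtain ⟨c, hc1, hc2, hc3⟩ := OutLie.card_out h.nonab hN hr hX
  have hI : OutDat X p g S.index := ⟨c, by rw [← hc1]; exact h.index_dvd, hc2, hc3⟩
  have hone : ∀ {a b : ℕ}, f * a = b → b < 2 * a → f = 1 ∧ a = b := by
    intro a b hab hlt
    have hf1 : f = 1 := by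
      by_contra h9
      have h10 : 2 * a ≤ f * a := Nat.mul_le_mul_right _ (by omega)
      omega
    exact ⟨hf1, by rw [hf1, one_mul] at hab; exact hab⟩
  have hne1 : ¬ (p = 2 ∧ f * (2 * n) = 6) := by
    rintro ⟨rfl, h6⟩
    obtain ⟨rfl, h8⟩ := hone h6 (by omega)
    exact h32 ⟨by omega, by norm_num⟩
  have hne2 : ¬ (p = 2 ∧ f * (2 * (n - 1)) = 6) := by
    rintro ⟨rfl, h6⟩
    obtain ⟨rfl, h8⟩ := hone h6 (by omega)
    exact h42 ⟨by omega, by norm_num⟩
  obtain ⟨r, hr, hr2, hrp, hrG, hro, hre⟩ := h.exists_base (i := n) (by omega) le_rfl hne1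
  obtain ⟨s, hs, hs2, hsp, hsG, hso, hse⟩ := h.exists_base (i := n - 1) (by omega) (by omega) hne2
  have hrK := h.not_dvd_large hr hrp (by rw [hre]; omega)
  have hsK := h.not_dvd_large hs hsp (by rw [hse]; omega)
  have hfn : f * 3 ≤ f * n := Nat.mul_le_mul_left _ hn
  have h6 : 6 ≤ f * Art.DM (.C n) := by
    show 6 ≤ f * (2 * n)
    have : f * (2 * n) = 2 * (f * n) := by ring
    omega
  have hrI : ¬ r ∣ S.index := TwoRow.not_dvd_index hX h.hY h.pi h6 hr hro hI
  have hcases : ∀ {t : ℕ}, t.Prime → t ∣ M → ¬ t ∣ κ → ¬ t ∣ S.index → t ∣ Nat.card S := by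
    intro t ht htG htK htI
    rw [← h.card_eq] at htG
    rcases ht.dvd_mul.1 htG with h7 | h7
    · exact absurd h7 htK
    · exact (ht.dvd_mul.1 h7).resolve_right htI
  have hrS := hcases hr hrG hrK hrI
  have hD : g * Art.DM X = f * (2 * n) := by
    rcases H365.Near.D_cases hX h.hY h.pi hr hro (by omega) hrS with h7 | ⟨-, -, h7⟩
    · exact h7
    · omega
  have hsI : ¬ s ∣ S.index := SpElim.not_dvd_index hX hn hf hD le_rfl hs hso hI
  have hsS := hcases hs hsG hsK hsI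
  obtain ⟨j, -, hj⟩ := h.kapp h32
  have hfac := h.fac_card hj
  have hself : (Nat.card S).factorization p = g * Art.NN X := CS.fac_self hX
  obtain ⟨h24, h6'⟩ := TwoRow.OutDat.dvd hX hI (Nat.ordProj_dvd S.index p)
  refine (SpShape.same_char (δ := S.index.factorization p) (j := j) hX h.hY hn h.pi hr hro hrS hs ?_ hsS ?_ h24 h6').1
  · rw [hso]; congr 1; (clear * -; omega)
  · rw [← hself]; omega

/-- **`S` of Lie type in characteristic `v ≠ p`, not `L₂`.** -/
theorem cross (h : Dat n p f M κ Γ S) (h42 : ¬ (n = 4 ∧ p ^ f = 2)) (h32 : ¬ (n = 3 ∧ p ^ f = 2)) {N : Grp}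
    {X : Art.Sh} {v g : ℕ} (hN : IsLie N X v g) (hr : OrdDiv.Real N S) (hX : Art.Real X v g (Nat.card S))
    (hX2 : X ≠ .L 2) (hvp : v ≠ p) : False := by
  have hsim := h.simple
  by_cases h4 : n = 4
  · subst h4
    exact H545.CS.no_cross_four h (fun h2 => h42 ⟨rfl, h2⟩) hN hr hX hX2 hvp
  have hidx := h.index_dvd
  have h0 : 0 < Nat.card (Cfsg.Out S) := by
    have : Finite (MulAut S) := Finite.of_injective (fun f : MulAut S => (f : S → S)) DFunLike.coe_injective
    exact Nat.card_pos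
  obtain ⟨c, hc1, hc2, -⟩ := OutLie.card_out h.nonab hN hr hX
  have hle : Nat.card (Cfsg.Out S) ≤ Art.dd X (v ^ g) * Art.NN X * g := SpOut.card_out_le h.nonab hN hr hX
  have hCr : SpFin.Cr n p f M X v g (Nat.card S) S.index := by
    refine ⟨h.hY, hX, hX2, hvp, h.pi, (Nat.le_of_dvd h0 hidx).trans hle,
      Nat.pos_of_ne_zero Subgroup.index_ne_zero_of_finite, ?_, h.fr h32⟩
    calc S.index ∣ Nat.card (Cfsg.Out S) := hidx
      _ = c * g := hc1
      _ ∣ 24 * Art.dd X (v ^ g) * g := Nat.mul_dvd_mul_right hc2 g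
  by_cases h8 : n = 8
  · subst h8
    exact H360.C8.Cross.cross_eight hCr
  · exact SpAll.cross_all hCr h.hn h4 h8 h32

theorem eq_two_of_pow {p f : ℕ} (hp : p.Prime) (h : p ^ f = 2) : p = 2 ∧ f = 1 := by
  have h1 : f ≠ 0 := by rintro rfl; norm_num at h
  have h2 : p ∣ 2 := by rw [← h]; exact dvd_pow_self p h1
  have h3 := (Nat.prime_dvd_prime_iff_eq hp Nat.prime_two).1 h2
  subst h3
  refine ⟨rfl, ?_⟩
  exact Nat.pow_right_injective (le_refl 2) (by simpa using h)

/-- **The order of the simple factor.** -/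
theorem final (h : Dat n p f M κ Γ S) :
    Nat.card S = M ∨ (n = 3 ∧ p ^ f = 2 ∧ κ = 8 ∧ Nat.card S = 181440) := by
  by_cases h32 : n = 3 ∧ p ^ f = 2
  · obtain ⟨rfl, h2⟩ := h32
    obtain ⟨rfl, rfl⟩ := eq_two_of_pow h.hY.hp h2
    rcases H729.CS.sp6 h with h3 | ⟨h3, h4⟩
    · exact Or.inl h3
    · exact Or.inr ⟨rfl, h2, h3, h4⟩
  left
  by_cases h42 : n = 4 ∧ p ^ f = 2
  · obtain ⟨rfl, h2⟩ := h42
    obtain ⟨rfl, rfl⟩ := eq_two_of_pow h.hY.hp h2
    exact H729.CS.sp8 h
  have hsim := h.simple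
  cases Names.exists_nam table (Cfsg.Agent.S0000.result (G := S)) h.nonab with
  | alt k hk h1 hc => obtain ⟨e⟩ := h1; exact (H429.CS.no_alt h h32 e).elim
  | spor x hx h1 hc => exact (H494.CS.no_spor h h32 hx h1 hc).elim
  | lie N X v g hN h1 hX =>
    by_cases hvp : v = p
    · subst hvp
      exact same h h42 h32 hN h1 hX
    · by_cases hX2 : X = .L 2
      · subst hX2
        cases hN with
        | psl n p f => exact (H403.CS.no_two h hvp hX h1).elim
      · exact (cross h h42 h32 hN h1 hX hX2 hvp).elim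

end Cfsg.Agent.H221.CS
end

-- part: H221/CS/Rows
section
/-!
# S3677, the rows `PSp(2n, q)` and `PΩ(2n + 1, q)`, `n ≥ 3` (helper221)
-/

set_option autoImplicit false

namespace Cfsg.Agent.H221.CS

open Subgroup Cfsg Cfsg.Agent.H364 Cfsg.Agent.H902 Cfsg.Agent.H902.Art

universe u v

theorem knownAll : H566.KnownAll.{u} := fun _ _ _ _ => Cfsg.Agent.S0000.result

theorem RowHyp.isSimple {G : Type u} [Group G] [Finite G] {L : Type v} [Group L] [Finite L] [IsSimpleGroup L]
    {n p f : ℕ} (h : RowHyp G n p f) (hS : H431.CS.Same G L) : IsSimpleGroup G :=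
  h.simple hS knownAll fun K _ S hD => final hD

variable {F : Type v} [Field F] [Fintype F] {n p f : ℕ}

/-- **The row `PSp(2n, q)`, `n ≥ 3`.** -/
theorem row_psp {G : Type u} [Group G] [Finite G] (hn : 3 ≤ n) (h : H431.CS.Same G (PSp n F)) : IsSimpleGroup G := by
  obtain ⟨p, f, hp, hf, hF⟩ := (isPrimePow_nat_iff _).1 (Fintype.isPrimePow_card_of_field (α := F))
  have hY : Real (.C n) p f (Nat.card (PSp n F)) := H478.CS.MinSize.psp_real' hp hf hF.symm (by omega) (by omega)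
  have := finite_of_real hY
  have hs : IsSimpleGroup (PSp n F) := Cfsg.Agent.S0270.result n (by omega) fun h2 => absurd h2 (by omega)
  exact (rowHyp_psp hp hf hF.symm hn h).isSimple h

/-- **The row `PΩ(2n + 1, q)`, `n ≥ 3`, `q` odd.** -/
theorem row_odd {G : Type u} [Group G] [Finite G] (hn : 3 ≤ n) (hodd : Odd (Fintype.card F))
    (h : H431.CS.Same G (POmega F (quadFormOdd n F))) : IsSimpleGroup G := by
  obtain ⟨p, f, hp, hf, hF⟩ := (isPrimePow_nat_iff _).1 (Fintype.isPrimePow_card_of_field (α := F))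
  have ho : Odd (p ^ f) := hF ▸ hodd
  have hp2 : p ≠ 2 := by
    rintro rfl
    exact Nat.not_even_iff_odd.2 ho (even_two.pow_of_ne_zero (by omega))
  have hY : Real (.C n) p f (Nat.card (POmega F (quadFormOdd n F))) := H478.CS.MinSize.oodd_real' hp hf hF.symm hn ho
  have := finite_of_real hY
  have hs : IsSimpleGroup (POmega F (quadFormOdd n F)) := Cfsg.Agent.S0295.result hodd n hn
  exact (rowHyp_odd hp hp2 hf hF.symm hn (fun r hr ho' => H524.CS.lat_odd_top hp hp2 hf hF.symm hn hr ho') h).isSimple h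

end Cfsg.Agent.H221.CS
end

private theorem dce_0025b2d47195 : _root_.True := by
  try have : _root_.True := by simp only [_root_.Cfsg.Agent.H429.AltNum.c2.eq_1]
  try have : _root_.True := by simp only [_root_.Cfsg.Agent.H429.AltNum.c3.eq_1]
  try have : _root_.True := by simp only [_root_.Cfsg.Agent.H729.CS.chk.eq_1]
  try have : _root_.True := by simp only [_root_.Cfsg.Agent.H429.AltNum.fa.eq_1]
  try have : _root_.True := by simp only [_root_.Cfsg.Agent.H429.AltNum.c1.eq_1]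
  try have : _root_.True := by simp only [_root_.Cfsg.Agent.H429.AltNum.sl.eq_1]
  exact _root_.True.intro
end
end
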